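import Groth.Agent.PLaw.TSAlg
import Mathlib.RingTheory.Ideal.Quotient.Operations
import Mathlib.Algebra.MvPolynomial.Rename
import Mathlib.RingTheory.MvPolynomial.Basic

/-!
# Presentation of divided power algebras

For a surjection `π : P → B` from an algebra with a basis, `relIdeal e π d` is the ideal of
`TS A P d` spanned by the coefficients of `τ (x + w) - τ x`, `w` in the kernel of `π`.  The quotient
is a degree `d` divided power algebra of `B` (`isGammaD_gammaLaw`), and any `(C, γ)` satisfying
`PolLaw.IsGammaD` receives a surjection `q` from `TS A P d` with kernel `relIdeal`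
(`exists_presentation`).
-/

universe u

open scoped TensorProduct

namespace Groth.Agent.PLaw

section Setup

variable {A : Type u} [CommRing A] {B : Type u} [CommRing B] [Algebra A B] {C : Type u} [CommRing C]
  [Algebra A C] {P : Type u} [CommRing P] [Algebra A P] {d : ℕ}

theorem mulLaw_compat (F : PolLaw.MulLaw A B C d) {S S' : Type u} [CommSemiring S] [Algebra A S]
    [CommSemiring S'] [Algebra A S'] (φ : S →ₐ[A] S') (x : S ⊗[A] B) :
    Algebra.TensorProduct.map φ (AlgHom.id A C) (F.law.toFun' S x) =
      F.law.toFun' S' (Algebra.TensorProduct.map φ (AlgHom.id A B) x) := by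
  rw [← PolLaw.rTensor_algHom_apply, ← PolLaw.rTensor_algHom_apply, compat]

/-- Coefficient of a product in disjoint variables. -/
theorem cf_mul_disjoint {σ τ : Type*} (α : σ →₀ ℕ) (β : τ →₀ ℕ) (z : MvPolynomial σ A ⊗[A] C)
    (z' : MvPolynomial τ A ⊗[A] C) :
    cf (α.mapDomain Sum.inl + β.mapDomain Sum.inr)
      (Algebra.TensorProduct.map (MvPolynomial.rename (Sum.inl : σ → σ ⊕ τ)) (AlgHom.id A C) z *
        Algebra.TensorProduct.map (MvPolynomial.rename (Sum.inr : τ → σ ⊕ τ)) (AlgHom.id A C) z') =
      cf α z * cf β z' := by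
  classical
  induction z using TensorProduct.induction_on with
  | zero => simp
  | add x y hx hy => simp only [map_add, add_mul, hx, hy]
  | tmul p c =>
    induction z' using TensorProduct.induction_on with
    | zero => simp
    | add x y hx hy => simp only [map_add, mul_add, hx, hy]
    | tmul p' c' =>
      simp only [Algebra.TensorProduct.map_tmul, AlgHom.id_apply,
        Algebra.TensorProduct.tmul_mul_tmul, cf_tmul]
      rw [smul_mul_smul_comm]
      congr 1
      induction p using MvPolynomial.induction_on' with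
      | add a b ha hb => simp only [map_add, add_mul, MvPolynomial.coeff_add, ha, hb]
      | monomial γ a =>
        induction p' using MvPolynomial.induction_on' with
        | add a' b' ha hb => simp only [map_add, mul_add, MvPolynomial.coeff_add, ha, hb]
        | monomial δ a' =>
          simp only [MvPolynomial.rename_monomial, MvPolynomial.monomial_mul,
            MvPolynomial.coeff_monomial]
          by_cases h1 : γ = α
          · by_cases h2 : δ = β
            · simp [h1, h2]
            · rw [if_pos h1, if_neg h2, mul_zero, if_neg]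
              intro h
              refine h2 (Finsupp.ext fun t => ?_)
              simpa [Finsupp.mapDomain_apply Sum.inr_injective, h1] using
                DFunLike.congr_fun h (Sum.inr t)
          · rw [if_neg h1, zero_mul, if_neg]
            intro h
            refine h1 (Finsupp.ext fun t => ?_)
            simpa [Finsupp.mapDomain_apply Sum.inl_injective, Finsupp.mapDomain_of_notMem_range] using
              DFunLike.congr_fun h (Sum.inl t)

variable {κ : Type u} (e : Module.Basis κ A P) (π : P →ₐ[A] B)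

/-- The set of coefficients of differences of the universal law along the kernel. -/
def relSet (d : ℕ) : Set (SymTen.TS A P d) :=
  {t | ∃ (n : ℕ) (x w : MvPolynomial (Fin n) A ⊗[A] P) (α : Fin n →₀ ℕ),
    π.toLinearMap.lTensor _ w = 0 ∧
      t = cf α ((tauTS e d).law.toFun' _ (x + w) - (tauTS e d).law.toFun' _ x)}

/-- The submodule of relations. -/
noncomputable def relSub (d : ℕ) : Submodule A (SymTen.TS A P d) := Submodule.span A (relSet e π d)

/-- Modulo the relations, the universal law is insensitive to the kernel. -/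
theorem mkQ_tauTS_add (hπ : Function.Surjective π) (S : Type u) [CommSemiring S] [Algebra A S]
    (x w : S ⊗[A] P)
    (hw : w ∈ LinearMap.range ((LinearMap.ker π.toLinearMap).subtype.lTensor S)) :
    (relSub e π d).mkQ.lTensor S ((tauTS e d).law.toFun' S (x + w)) =
      (relSub e π d).mkQ.lTensor S ((tauTS e d).law.toFun' S x) := by
  obtain ⟨w, rfl⟩ := hw
  obtain ⟨n, s, m, rfl⟩ := exists_sum_tmul x
  obtain ⟨n', s', m', rfl⟩ := exists_sum_tmul w
  let ψ : MvPolynomial (Fin (n + n')) A →ₐ[A] S := MvPolynomial.aeval (Fin.append s s')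
  let x₀ : MvPolynomial (Fin (n + n')) A ⊗[A] P :=
    ∑ i, MvPolynomial.X (Fin.castAdd n' i) ⊗ₜ[A] m i
  let w₀ : MvPolynomial (Fin (n + n')) A ⊗[A] P :=
    ∑ i, MvPolynomial.X (Fin.natAdd n i) ⊗ₜ[A] (m' i : P)
  have hx₀ : ψ.toLinearMap.rTensor P x₀ = ∑ i, s i ⊗ₜ[A] m i := by simp [ψ, x₀, map_sum]
  have hw₀ : ψ.toLinearMap.rTensor P w₀ =
      (LinearMap.ker π.toLinearMap).subtype.lTensor S (∑ i, s' i ⊗ₜ[A] m' i) := by
    simp [ψ, w₀, map_sum]
  have hπw : π.toLinearMap.lTensor _ w₀ = 0 := by
    simp only [w₀, map_sum, LinearMap.lTensor_tmul]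
    refine Finset.sum_eq_zero fun i _ => ?_
    rw [LinearMap.mem_ker.mp (m' i).2, TensorProduct.tmul_zero]
  have hzero : (relSub e π d).mkQ.lTensor _ ((tauTS e d).law.toFun' _ (x₀ + w₀)) =
      (relSub e π d).mkQ.lTensor _ ((tauTS e d).law.toFun' _ x₀) := by
    refine cf_ext fun α => ?_
    rw [cf_lTensor, cf_lTensor, Submodule.mkQ_apply, Submodule.mkQ_apply, Submodule.Quotient.eq,
      ← map_sub]
    exact Submodule.subset_span ⟨_, x₀, w₀, α, hπw, rfl⟩
  have h := congrArg (ψ.toLinearMap.rTensor _) hzero
  rw [← LinearMap.comp_apply, ← LinearMap.comp_apply (ψ.toLinearMap.rTensor _),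
    LinearMap.rTensor_comp_lTensor, ← LinearMap.lTensor_comp_rTensor, LinearMap.comp_apply,
    LinearMap.comp_apply, compat, compat, map_add, hx₀, hw₀] at h
  exact h

theorem relSub_smul_mem (hπ : Function.Surjective π) (t : SymTen.TS A P d) {r : SymTen.TS A P d}
    (hr : r ∈ relSub e π d) : t * r ∈ relSub e π d := by
  classical
  induction hr using Submodule.span_induction with
  | zero => rw [mul_zero]; exact Submodule.zero_mem _
  | add a b _ _ ha hb => rw [mul_add]; exact Submodule.add_mem _ ha hb
  | smul c a _ ha => rw [mul_smul_comm]; exact Submodule.smul_mem _ c ha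
  | mem r hr =>
    obtain ⟨n, x, w, α, hw, rfl⟩ := hr
    suffices h : LinearMap.mulRight A (cf α ((tauTS e d).law.toFun' _ (x + w) -
        (tauTS e d).law.toFun' _ x)) t ∈ relSub e π d from h
    rw [← Submodule.Quotient.mk_eq_zero, ← Submodule.mkQ_apply, ← LinearMap.comp_apply,
      show (relSub e π d).mkQ ∘ₗ LinearMap.mulRight A (cf α ((tauTS e d).law.toFun' _ (x + w) -
        (tauTS e d).law.toFun' _ x)) = 0 from ?_, LinearMap.zero_apply]
    refine linearMap_ext_TS e fun s β => ?_
    rw [LinearMap.comp_apply, LinearMap.mulRight_apply, LinearMap.zero_apply, Submodule.mkQ_apply,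
      Submodule.Quotient.mk_eq_zero, ← cf_mul_disjoint]
    let iA := Algebra.TensorProduct.map (MvPolynomial.rename (R := A) (Sum.inl : κ → κ ⊕ Fin n))
      (AlgHom.id A P)
    let iB := Algebra.TensorProduct.map (MvPolynomial.rename (R := A) (Sum.inr : Fin n → κ ⊕ Fin n))
      (AlgHom.id A P)
    have hw' : π.toLinearMap.lTensor _ (iA (gen A (⇑e) s) * iB w) = 0 := by
      rw [PolLaw.lTensor_algHom_apply, map_mul]
      refine mul_eq_zero_of_right _ ?_
      rw [← PolLaw.lTensor_algHom_apply]
      simp only [iB]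
      rw [← PolLaw.rTensor_algHom_apply, ← LinearMap.comp_apply, LinearMap.lTensor_comp_rTensor,
        ← LinearMap.rTensor_comp_lTensor, LinearMap.comp_apply, hw, map_zero]
    rw [map_sub, mul_sub, mulLaw_compat, mulLaw_compat, mulLaw_compat,
      ← ((tauTS e d).mult _).2, ← ((tauTS e d).mult _).2, map_add, mul_add, map_sub]
    have hmem : iA (gen A (⇑e) s) * iB w ∈
        LinearMap.range ((LinearMap.ker π.toLinearMap).subtype.lTensor _) :=
      (lTensor_exact _ (LinearMap.exact_subtype_ker_map π.toLinearMap) hπ _).mp hw'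
    have := congrArg (cf (β.mapDomain Sum.inl + α.mapDomain Sum.inr))
      (mkQ_tauTS_add (d := d) e π hπ _ (iA (gen A (⇑e) s) * iB x) _ hmem)
    rw [cf_lTensor, cf_lTensor, Submodule.mkQ_apply, Submodule.mkQ_apply, Submodule.Quotient.eq] at this
    exact this

/-- The ideal of relations. -/
noncomputable def relIdeal (hπ : Function.Surjective π) (d : ℕ) : Ideal (SymTen.TS A P d) where
  carrier := relSub e π d
  add_mem' := (relSub e π d).add_mem
  zero_mem' := (relSub e π d).zero_mem
  smul_mem' t _ hr := relSub_smul_mem e π hπ t hr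

theorem mem_relIdeal (hπ : Function.Surjective π) {t : SymTen.TS A P d} :
    t ∈ relIdeal e π hπ d ↔ t ∈ relSub e π d := Iff.rfl

variable (hπ : Function.Surjective π)

/-- The constructed divided power algebra. -/
abbrev GammaPres (d : ℕ) : Type u := SymTen.TS A P d ⧸ relIdeal e π hπ d

/-- The quotient map onto the constructed divided power algebra. -/
noncomputable abbrev mkG (d : ℕ) : SymTen.TS A P d →ₐ[A] GammaPres e π hπ d :=
  Ideal.Quotient.mkₐ A (relIdeal e π hπ d)

theorem lTensor_mk_eq {S : Type*} [CommSemiring S] [Algebra A S] {a b : S ⊗[A] SymTen.TS A P d}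
    (h : (relSub e π d).mkQ.lTensor S a = (relSub e π d).mkQ.lTensor S b) :
    (Ideal.Quotient.mkₐ A (relIdeal e π hπ d)).toLinearMap.lTensor S a =
      (Ideal.Quotient.mkₐ A (relIdeal e π hπ d)).toLinearMap.lTensor S b := by
  have hf : (Ideal.Quotient.mkₐ A (relIdeal e π hπ d)).toLinearMap =
      (relSub e π d).liftQ (Ideal.Quotient.mkₐ A (relIdeal e π hπ d)).toLinearMap
        (fun t ht => Ideal.Quotient.eq_zero_iff_mem.mpr ht) ∘ₗ (relSub e π d).mkQ :=
    (Submodule.liftQ_mkQ _ _ _).symm
  rw [hf, LinearMap.lTensor_comp, LinearMap.comp_apply, h, LinearMap.comp_apply]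

theorem preLaw_inv (S : Type u) [CommSemiring S] [Algebra A S] (x w : S ⊗[A] P)
    (hw : w ∈ LinearMap.range ((LinearMap.ker π.toLinearMap).subtype.lTensor S)) :
    (PolLaw.MulLaw.postcomp (C' := GammaPres e π hπ d) (mkG e π hπ d) (tauTS e d)).law.toFun' S (x + w) =
      (PolLaw.MulLaw.postcomp (C' := GammaPres e π hπ d) (mkG e π hπ d) (tauTS e d)).law.toFun' S x :=
  lTensor_mk_eq e π hπ (mkQ_tauTS_add e π hπ S x w hw)

omit [CommRing C] [Algebra A C] in
theorem surj_toLinearMap (π : P →ₐ[A] B) (hπ : Function.Surjective π) :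
    Function.Surjective π.toLinearMap := hπ

/-- Descend a multiplicative law along a surjection of algebras. -/
noncomputable def descendMul {C : Type u} [CommRing C] [Algebra A C] (G : PolLaw.MulLaw A P C d)
    (hG : ∀ (S : Type u) [CommSemiring S] [Algebra A S] (x w : S ⊗[A] P),
      w ∈ LinearMap.range ((LinearMap.ker π.toLinearMap).subtype.lTensor S) →
        G.law.toFun' S (x + w) = G.law.toFun' S x) : PolLaw.MulLaw A B C d where
  law := descend π.toLinearMap (surj_toLinearMap π hπ) G.law hG
  homog S _ _ r y := by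
    obtain ⟨x, rfl⟩ := LinearMap.lTensor_surjective S (g := π.toLinearMap) hπ y
    have hx : r • π.toLinearMap.lTensor S x = π.toLinearMap.lTensor S (r • x) := by
      rw [PolLaw.lTensor_algHom_apply, PolLaw.lTensor_algHom_apply, map_smul]
    rw [hx, descend_apply, descend_apply]
    exact G.homog S r x
  mult S _ _ := by
    refine ⟨?_, fun y y' => ?_⟩
    · rw [← map_one (Algebra.TensorProduct.map (AlgHom.id S S) π), ← PolLaw.lTensor_algHom_apply,
        descend_apply]
      exact (G.mult S).1
    · obtain ⟨x, rfl⟩ := LinearMap.lTensor_surjective S (g := π.toLinearMap) hπ y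
      obtain ⟨x', rfl⟩ := LinearMap.lTensor_surjective S (g := π.toLinearMap) hπ y'
      rw [PolLaw.lTensor_algHom_apply π S x, PolLaw.lTensor_algHom_apply π S x', ← map_mul,
        ← PolLaw.lTensor_algHom_apply, ← PolLaw.lTensor_algHom_apply, ← PolLaw.lTensor_algHom_apply,
        descend_apply, descend_apply, descend_apply]
      exact (G.mult S).2 x x'

theorem descendMul_apply {C : Type u} [CommRing C] [Algebra A C] (G : PolLaw.MulLaw A P C d)
    (hG : ∀ (S : Type u) [CommSemiring S] [Algebra A S] (x w : S ⊗[A] P),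
      w ∈ LinearMap.range ((LinearMap.ker π.toLinearMap).subtype.lTensor S) →
        G.law.toFun' S (x + w) = G.law.toFun' S x)
    (S : Type u) [CommSemiring S] [Algebra A S] (x : S ⊗[A] P) :
    (descendMul π hπ G hG).law.toFun' S (π.toLinearMap.lTensor S x) = G.law.toFun' S x :=
  descend_apply π.toLinearMap (surj_toLinearMap π hπ) G.law hG S x

/-- The universal law of the constructed divided power algebra. -/
noncomputable def gammaLaw (d : ℕ) : PolLaw.MulLaw A B (GammaPres e π hπ d) d :=
  descendMul π hπ (PolLaw.MulLaw.postcomp (C' := GammaPres e π hπ d) (mkG e π hπ d) (tauTS e d))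
    (preLaw_inv e π hπ)

theorem gammaLaw_apply (S : Type u) [CommSemiring S] [Algebra A S] (x : S ⊗[A] P) :
    (gammaLaw e π hπ d).law.toFun' S (π.toLinearMap.lTensor S x) =
      (Ideal.Quotient.mkₐ A (relIdeal e π hπ d)).toLinearMap.lTensor S
        ((tauTS e d).law.toFun' S x) :=
  descendMul_apply π hπ _ _ S x

theorem law_congr {M N : Type u} [AddCommGroup M] [Module A M] [AddCommGroup N] [Module A N]
    {F G : M →ₚₗ[A] N} (h : F = G) (S : Type u) [CommSemiring S] [Algebra A S] (x : S ⊗[A] M) :
    F.toFun' S x = G.toFun' S x := by rw [h]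

theorem postcomp_apply {M N N' : Type u} [AddCommGroup M] [Module A M] [AddCommGroup N] [Module A N]
    [AddCommGroup N'] [Module A N'] (g : N →ₗ[A] N') (F : M →ₚₗ[A] N)
    (S : Type u) [CommSemiring S] [Algebra A S] (x : S ⊗[A] M) :
    (PolLaw.postcomp g F).toFun' S x = g.lTensor S (F.toFun' S x) := rfl

/-- The algebra map out of `TS` attached to a multiplicative law out of a free algebra. -/
noncomputable def fromTSAlg (F : PolLaw.MulLaw A P C d) : SymTen.TS A P d →ₐ[A] C :=
  AlgHom.ofLinearMap (fromTS e d F.law)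
    (by
      have h := fromTS_apply e F.law F.homog (MvPolynomial PEmpty.{u+1} A) 1
      rw [((tauTS e d).mult _).1, (F.mult _).1, Algebra.TensorProduct.one_def,
        LinearMap.lTensor_tmul, Algebra.TensorProduct.one_def] at h
      have := congrArg (cf (0 : PEmpty.{u+1} →₀ ℕ)) h
      simpa using this)
    (by
      intro t t'
      suffices h : ∀ (s : Finset κ) (α : κ →₀ ℕ),
          fromTS e d F.law ∘ₗ LinearMap.mulLeft A (cf α ((tauTS e d).law.toFun' _ (gen A (⇑e) s))) =
            LinearMap.mulLeft A (fromTS e d F.law (cf α ((tauTS e d).law.toFun' _ (gen A (⇑e) s)))) ∘ₗ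
              fromTS e d F.law by
        have h' : fromTS e d F.law ∘ₗ LinearMap.mulRight A t' =
            LinearMap.mulRight A (fromTS e d F.law t') ∘ₗ fromTS e d F.law :=
          linearMap_ext_TS e fun s α => by
            simpa using LinearMap.congr_fun (h s α) t'
        simpa using LinearMap.congr_fun h' t
      intro s α
      refine linearMap_ext_TS e fun s' β => ?_
      simp only [LinearMap.comp_apply, LinearMap.mulLeft_apply]
      rw [← cf_mul_disjoint, mulLaw_compat, mulLaw_compat, ← ((tauTS e d).mult _).2, ← cf_lTensor,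
        fromTS_apply e F.law F.homog, (F.mult _).2, ← mulLaw_compat, ← mulLaw_compat,
        cf_mul_disjoint, ← cf_lTensor, ← cf_lTensor, fromTS_apply e F.law F.homog,
        fromTS_apply e F.law F.homog])

theorem fromTSAlg_apply (F : PolLaw.MulLaw A P C d) (S : Type u) [CommSemiring S] [Algebra A S]
    (x : S ⊗[A] P) :
    (fromTSAlg e F).toLinearMap.lTensor S ((tauTS e d).law.toFun' S x) = F.law.toFun' S x := by
  rw [show (fromTSAlg e F).toLinearMap = fromTS e d F.law from rfl]
  exact fromTS_apply e F.law F.homog S x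

theorem algHom_ext_TS {f g : SymTen.TS A P d →ₐ[A] C}
    (h : ∀ (S : Type u) [CommSemiring S] [Algebra A S] (x : S ⊗[A] P),
      f.toLinearMap.lTensor S ((tauTS e d).law.toFun' S x) =
        g.toLinearMap.lTensor S ((tauTS e d).law.toFun' S x)) : f = g :=
  AlgHom.toLinearMap_injective (linearMap_ext_TS e fun s α => by
    rw [← cf_lTensor, ← cf_lTensor, h])

theorem fromTSAlg_vanishes (F : PolLaw.MulLaw A B C d) {t : SymTen.TS A P d}
    (ht : t ∈ relIdeal e π hπ d) : fromTSAlg e (F.precomp π) t = 0 := by
  suffices h : relSub e π d ≤ LinearMap.ker (fromTSAlg e (F.precomp π)).toLinearMap from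
    LinearMap.mem_ker.mp (h ht)
  rw [relSub, Submodule.span_le]
  rintro _ ⟨n, x, w, α, hw, rfl⟩
  rw [SetLike.mem_coe, LinearMap.mem_ker, ← cf_lTensor, map_sub, fromTSAlg_apply, fromTSAlg_apply]
  change cf α (F.law.toFun' _ (π.toLinearMap.lTensor _ (x + w)) -
    F.law.toFun' _ (π.toLinearMap.lTensor _ x)) = 0
  rw [map_add, hw, add_zero, sub_self, map_zero]

/-- The constructed pair is a divided power algebra. -/
theorem isGammaD_gammaLaw : PolLaw.IsGammaD (gammaLaw e π hπ d) := by
  intro C' _ _ F
  refine ⟨Ideal.Quotient.liftₐ _ (fromTSAlg e (F.precomp π)) (fun t ht =>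
    fromTSAlg_vanishes e π hπ F ht), ?_, fun f hf => ?_⟩
  · refine PolynomialLaw.ext ?_
    funext S i1 i2 y
    obtain ⟨x, rfl⟩ := LinearMap.lTensor_surjective S (g := π.toLinearMap) hπ y
    rw [postcomp_apply, gammaLaw_apply, ← LinearMap.comp_apply, ← LinearMap.lTensor_comp]
    exact fromTSAlg_apply e (F.precomp π) S x
  · have : f.comp (Ideal.Quotient.mkₐ A (relIdeal e π hπ d)) = fromTSAlg e (F.precomp π) :=
      algHom_ext_TS e fun S _ _ x => by
        rw [fromTSAlg_apply, AlgHom.comp_toLinearMap, LinearMap.lTensor_comp, LinearMap.comp_apply,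
          ← gammaLaw_apply, ← postcomp_apply, law_congr hf]
        rfl
    refine AlgHom.ext fun q => ?_
    obtain ⟨t, rfl⟩ := Ideal.Quotient.mk_surjective q
    exact AlgHom.congr_fun this t

include e hπ in
/-- Any divided power algebra is presented by symmetric tensors of a free algebra. -/
theorem exists_presentation (γ : PolLaw.MulLaw A B C d) (hγ : PolLaw.IsGammaD γ) :
    ∃ q : SymTen.TS A P d →ₐ[A] C, Function.Surjective q ∧
      RingHom.ker q = relIdeal e π hπ d ∧
      ∀ (S : Type u) [CommSemiring S] [Algebra A S] (x : S ⊗[A] P),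
        q.toLinearMap.lTensor S ((tauTS e d).law.toFun' S x) =
          γ.law.toFun' S (π.toLinearMap.lTensor S x) := by
  let q := fromTSAlg e (γ.precomp π)
  obtain ⟨f, hf, -⟩ := hγ _ (gammaLaw e π hπ d)
  obtain ⟨g, hg, -⟩ := isGammaD_gammaLaw (d := d) e π hπ C γ
  obtain ⟨j, hj, huniq⟩ := hγ C γ
  have hid : PolLaw.postcomp (AlgHom.id A C).toLinearMap γ.law = γ.law :=
    PolynomialLaw.ext (by funext S i1 i2 x; simp [postcomp_apply])
  have hgf : g.comp f = AlgHom.id A C :=
    (huniq _ (PolynomialLaw.ext (by
      funext S i1 i2 x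
      rw [postcomp_apply, AlgHom.comp_toLinearMap, LinearMap.lTensor_comp, LinearMap.comp_apply,
        ← postcomp_apply, law_congr hf, ← postcomp_apply, law_congr hg]))).trans (huniq _ hid).symm
  have hgmk : g.comp (Ideal.Quotient.mkₐ A (relIdeal e π hπ d)) = q :=
    algHom_ext_TS e fun S _ _ x => by
      rw [fromTSAlg_apply, AlgHom.comp_toLinearMap, LinearMap.lTensor_comp, LinearMap.comp_apply,
        ← gammaLaw_apply, ← postcomp_apply, law_congr hg]
      rfl
  have hfq : f.comp q = mkG e π hπ d :=
    algHom_ext_TS (C := GammaPres e π hπ d) e fun S _ _ x => by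
      rw [AlgHom.comp_toLinearMap, LinearMap.lTensor_comp, LinearMap.comp_apply, fromTSAlg_apply]
      change f.toLinearMap.lTensor S (γ.law.toFun' S (π.toLinearMap.lTensor S x)) = _
      rw [← postcomp_apply, law_congr hf, gammaLaw_apply]
  refine ⟨q, fun c => ?_, ?_, fun S _ _ x => fromTSAlg_apply e (γ.precomp π) S x⟩
  · obtain ⟨t, ht⟩ := Ideal.Quotient.mkₐ_surjective A (relIdeal e π hπ d) (f c)
    refine ⟨t, ?_⟩
    rw [← hgmk, AlgHom.comp_apply, ht]
    exact AlgHom.congr_fun hgf c
  · refine le_antisymm (fun t ht => ?_) (fun t ht => ?_)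
    · rw [RingHom.mem_ker] at ht
      have := AlgHom.congr_fun hfq t
      rw [AlgHom.comp_apply, ht, map_zero] at this
      exact Ideal.Quotient.eq_zero_iff_mem.mp this.symm
    · exact fromTSAlg_vanishes e π hπ γ ht

end Setup

section Standard

variable (A : Type u) [CommRing A] (B : Type u) [CommRing B] [Algebra A B]

/-- The standard presentation of an algebra by a polynomial algebra. -/
noncomputable abbrev stdπ : MvPolynomial B A →ₐ[A] B := MvPolynomial.aeval _root_.id

theorem stdπ_surjective : Function.Surjective (stdπ A B) :=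
  fun b => ⟨MvPolynomial.X b, by simp⟩

/-- The monomial basis of the standard presentation. -/
noncomputable abbrev stdBasis : Module.Basis (B →₀ ℕ) A (MvPolynomial B A) :=
  MvPolynomial.basisMonomials B A

variable {B}

/-- Divided power algebras exist. -/
theorem exists_isGammaD (d : ℕ) :
    ∃ (C : Type u) (_ : CommRing C) (_ : Algebra A C) (γ : PolLaw.MulLaw A B C d),
      PolLaw.IsGammaD γ :=
  ⟨_, _, _, _, isGammaD_gammaLaw (stdBasis A B) (stdπ A B) (stdπ_surjective A B) (d := d)⟩

end Standard

end Groth.Agent.PLaw
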