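import Groth.Agent.PLaw.KerImage

/-!
# Kernels for finite algebras; the image over the base itself
-/

universe u

open scoped TensorProduct Polynomial

namespace Groth.Agent.PLaw

variable {A : Type u} [CommRing A] {B : Type u} [CommRing B] [Algebra A B] {d : ℕ}
  (F : PolLaw.MulLaw A B A d)

theorem exists_sum_eq_of_span {M : Type u} [AddCommGroup M] [Module A M] {κ : Type u} [Fintype κ]
    {g : κ → M} (hg : Submodule.span A (Set.range g) = ⊤) {S : Type*} [CommSemiring S] [Algebra A S]
    (x : S ⊗[A] M) : ∃ σ : κ → S, x = ∑ k, σ k ⊗ₜ[A] g k := by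
  induction x using TensorProduct.induction_on with
  | zero => exact ⟨0, by simp⟩
  | tmul s b =>
    obtain ⟨c, rfl⟩ := (Submodule.mem_span_range_iff_exists_fun A).mp
      (hg ▸ Submodule.mem_top : b ∈ Submodule.span A (Set.range g))
    exact ⟨fun k => c k • s, by simp [TensorProduct.tmul_sum, TensorProduct.smul_tmul]⟩
  | add x y hx hy =>
    obtain ⟨σ, rfl⟩ := hx
    obtain ⟨τ, rfl⟩ := hy
    exact ⟨σ + τ, by simp [TensorProduct.add_tmul, Finset.sum_add_distrib]⟩

section Finite

variable {κ : Type u} [Fintype κ] (g : κ → B) (A' : Type u) [CommRing A'] [Algebra A A']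

/-- `F (1 + Σ_k Y_k g_k β)` as a polynomial over `A'`. -/
noncomputable def kerPoly (β : A' ⊗[A] B) : MvPolynomial κ A' :=
  TensorProduct.rid A (MvPolynomial κ A') (F.law.toFun' (MvPolynomial κ A')
    (1 + (∑ k, (MvPolynomial.X k : MvPolynomial κ A') ⊗ₜ[A] g k) *
      Algebra.TensorProduct.map (IsScalarTower.toAlgHom A A' _) (AlgHom.id A B) β))

theorem rid_natural {R R' : Type u} [CommSemiring R] [Algebra A R] [CommSemiring R'] [Algebra A R']
    (θ : R →ₐ[A] R') (w : R ⊗[A] A) :
    TensorProduct.rid A R' (Algebra.TensorProduct.map θ (AlgHom.id A A) w) =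
      θ (TensorProduct.rid A R w) := by
  induction w using TensorProduct.induction_on with
  | zero => simp
  | tmul r a => simp
  | add a b ha hb => simp only [map_add, ha, hb]

theorem aeval_kerPoly (β : A' ⊗[A] B) (R : Type u) [CommRing R] [Algebra A R] [Algebra A' R]
    [IsScalarTower A A' R] (σ : κ → R) :
    MvPolynomial.aeval σ (kerPoly F g A' β) = TensorProduct.rid A R (F.law.toFun' R
      (1 + (∑ k, σ k ⊗ₜ[A] g k) *
        Algebra.TensorProduct.map (IsScalarTower.toAlgHom A A' R) (AlgHom.id A B) β)) := by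
  let θ : MvPolynomial κ A' →ₐ[A] R :=
    (MvPolynomial.aeval σ : MvPolynomial κ A' →ₐ[A'] R).restrictScalars A
  change θ (kerPoly F g A' β) = _
  rw [kerPoly, ← rid_natural, compatMap]
  congr 2
  rw [map_add, map_one, map_mul, map_sum]
  congr 2
  · exact Finset.sum_congr rfl fun k _ => by simp [θ]
  · rw [← AlgHom.comp_apply, ← Algebra.TensorProduct.map_comp]
    exact congrArg (fun f => Algebra.TensorProduct.map f (AlgHom.id A B) β)
      (AlgHom.ext fun a => (MvPolynomial.aeval σ : MvPolynomial κ A' →ₐ[A'] R).commutes a)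

theorem coeff_zero_kerPoly (β : A' ⊗[A] B) : (kerPoly F g A' β).coeff 0 = 1 := by
  have h := aeval_kerPoly F g A' β A' (fun _ => (0 : A'))
  simp only [TensorProduct.zero_tmul, Finset.sum_const_zero, zero_mul, add_zero] at h
  rw [(F.mult A').1, Algebra.TensorProduct.one_def, TensorProduct.rid_tmul, one_smul] at h
  rw [show (fun _ : κ => (0 : A')) = 0 from rfl, MvPolynomial.aeval_zero] at h
  simpa [MvPolynomial.constantCoeff_eq] using h

variable {g}

theorem mem_kerBC_of_kerPoly (hg : Submodule.span A (Set.range g) = ⊤) {β : A' ⊗[A] B}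
    (h : ∀ α, α ≠ 0 → (kerPoly F g A' β).coeff α = 0) : β ∈ PolLaw.kerBC F.law A' := by
  classical
  have h1 : kerPoly F g A' β = 1 := by
    ext α
    rw [MvPolynomial.coeff_one]
    split_ifs with hα
    · rw [← hα]; exact coeff_zero_kerPoly F g A' β
    · exact h α (Ne.symm hα)
  refine mem_kerBC_of_generic F Submodule.span_univ A' fun n c _ => ?_
  obtain ⟨σ, hσ⟩ := exists_sum_eq_of_span hg
    (∑ i, (MvPolynomial.X i : MvPolynomial (Fin n) A') ⊗ₜ[A] c i)
  apply (TensorProduct.rid A (MvPolynomial (Fin n) A')).injective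
  rw [hσ, ← aeval_kerPoly, h1, map_one, Algebra.TensorProduct.one_def, TensorProduct.rid_tmul, one_smul]

theorem kerPoly_of_mem_kerBC {β : A' ⊗[A] B} (h : β ∈ PolLaw.kerBC F.law A') :
    kerPoly F g A' β = 1 := by
  rw [kerPoly, h _ 1 _, (F.mult _).1, Algebra.TensorProduct.one_def, TensorProduct.rid_tmul, one_smul]

theorem kerPoly_map {A'' : Type u} [CommRing A''] [Algebra A A''] (φ : A' →ₐ[A] A'') (β : A' ⊗[A] B) :
    kerPoly F g A'' (Algebra.TensorProduct.map φ (AlgHom.id A B) β) =
      (kerPoly F g A' β).map φ.toRingHom := by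
  let θ : MvPolynomial κ A' →ₐ[A] MvPolynomial κ A'' := MvPolynomial.mapAlgHom φ
  change _ = θ (kerPoly F g A' β)
  rw [kerPoly, kerPoly, ← rid_natural, compatMap]
  congr 2
  rw [map_add, map_one, map_mul, map_sum]
  congr 2
  · exact Finset.sum_congr rfl fun k _ => by simp [θ]
  · rw [← AlgHom.comp_apply, ← Algebra.TensorProduct.map_comp, ← AlgHom.comp_apply,
      ← Algebra.TensorProduct.map_comp]
    exact congrArg (fun f => Algebra.TensorProduct.map f (AlgHom.id A B) β)
      (AlgHom.ext fun a => by simp [θ, MvPolynomial.algebraMap_eq])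

/-- Over the base the kernel of the base change is the kernel. -/
theorem mem_ker_of_mem_kerBC_self {b : B} (h : (1 : A) ⊗ₜ[A] b ∈ PolLaw.kerBC F.law A) :
    b ∈ PolLaw.ker F.law := fun S _ _ x w => by simpa using h S x w

end Finite

section Self

theorem comap_algebraMap_image :
    PrimeSpectrum.comap (algebraMap A (PolLaw.image F.law)) =
      PrimeSpectrum.comap (algebraMap A (A ⊗[A] PolLaw.image F.law)) ∘
        (PrimeSpectrum.homeomorphOfRingEquiv
          (Algebra.TensorProduct.lid A (PolLaw.image F.law)).toRingEquiv).symm := by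
  funext q
  refine PrimeSpectrum.ext (Ideal.ext fun a => ?_)
  change algebraMap A (PolLaw.image F.law) a ∈ q.asIdeal ↔
    Algebra.TensorProduct.lid A (PolLaw.image F.law) (algebraMap A _ a) ∈ q.asIdeal
  rw [AlgEquiv.commutes]

theorem isOpenMap_image : IsOpenMap (PrimeSpectrum.comap (algebraMap A (PolLaw.image F.law))) := by
  rw [comap_algebraMap_image]
  exact (isOpenMap_baseChange_image F).comp (Homeomorph.isOpenMap _)

theorem isClosedMap_image : IsClosedMap (PrimeSpectrum.comap (algebraMap A (PolLaw.image F.law))) :=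
  have := isIntegral_image F
  PrimeSpectrum.isClosedMap_comap_of_isIntegral _ Algebra.IsIntegral.isIntegral

theorem exists_fibre_points_image (p : PrimeSpectrum A) :
    ∃ s : Fin d → PrimeSpectrum (PolLaw.image F.law),
      ∀ q, PrimeSpectrum.comap (algebraMap A _) q = p → ∃ i, s i = q := by
  let h := PrimeSpectrum.homeomorphOfRingEquiv
    (Algebra.TensorProduct.lid A (PolLaw.image F.law)).toRingEquiv
  obtain ⟨s, hs⟩ := exists_fibre_points F (A' := A) p
  refine ⟨fun i => h (s i), fun q hq => ?_⟩
  obtain ⟨i, hi⟩ := hs (h.symm q) (by rw [← hq, comap_algebraMap_image]; rfl)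
  exact ⟨i, by simp [hi]⟩

end Self

end Groth.Agent.PLaw
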