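import Groth.Agent.PLaw.Basic
import Mathlib.RingTheory.TensorProduct.Maps
import Mathlib.LinearAlgebra.TensorProduct.Tower

/-!
# Base change of multiplicative polynomial laws

`lawBC A' g F` : for a law `F : B → C` over `A` and an algebra map `g : C → C'` to an `A'`-algebra,
the law `A' ⊗ B → C'` over `A'`.
-/

universe u

open scoped TensorProduct

namespace Groth.Agent.PLaw

variable {A : Type u} [CommRing A] (A' : Type u) [CommRing A'] [Algebra A A']
  {B : Type u} [CommRing B] [Algebra A B] {C : Type u} [CommRing C] [Algebra A C]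
  {C' : Type u} [CommRing C'] [Algebra A C'] [Algebra A' C'] [IsScalarTower A A' C']

section Maps

variable (R : Type u) [CommSemiring R] [Algebra A R] [Algebra A' R] [IsScalarTower A A' R]

/-- `R ⊗_{A'} (A' ⊗_A B) ≅ R ⊗_A B`. -/
noncomputable def bcEquiv : R ⊗[A'] (A' ⊗[A] B) ≃ₐ[R] R ⊗[A] B :=
  Algebra.TensorProduct.cancelBaseChange A A' R R B

/-- The map `R ⊗_A C → R ⊗_{A'} C'`. -/
noncomputable def bcOut (g : C →ₐ[A] C') : R ⊗[A] C →ₐ[R] R ⊗[A'] C' :=
  Algebra.TensorProduct.lift (Algebra.TensorProduct.includeLeft : R →ₐ[R] R ⊗[A'] C')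
    (((Algebra.TensorProduct.includeRight : C' →ₐ[A'] R ⊗[A'] C').restrictScalars A).comp g)
    (fun _ _ => Commute.all _ _)

theorem bcOut_tmul (g : C →ₐ[A] C') (r : R) (c : C) :
    bcOut A' R g (r ⊗ₜ[A] c) = r ⊗ₜ[A'] g c := by
  simp [bcOut]

theorem bcEquiv_symm_tmul (r : R) (b : B) :
    (bcEquiv A' R).symm (r ⊗ₜ[A] b) = r ⊗ₜ[A'] ((1 : A') ⊗ₜ[A] b) :=
  Algebra.TensorProduct.cancelBaseChange_symm_tmul ..

theorem bcEquiv_tmul (r : R) (a : A') (b : B) :
    bcEquiv A' R (r ⊗ₜ[A'] (a ⊗ₜ[A] b)) = (a • r) ⊗ₜ[A] b :=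
  Algebra.TensorProduct.cancelBaseChange_tmul ..

variable {A'} {R}
variable {R' : Type u} [CommSemiring R'] [Algebra A R'] [Algebra A' R'] [IsScalarTower A A' R']

theorem bcOut_natural (g : C →ₐ[A] C') (ψ : R →ₐ[A'] R') (x : R ⊗[A] C) :
    ψ.toLinearMap.rTensor C' (bcOut A' R g x) =
      bcOut A' R' g ((ψ.restrictScalars A).toLinearMap.rTensor C x) := by
  induction x using TensorProduct.induction_on with
  | zero => simp
  | tmul r c => simp [bcOut_tmul]
  | add a b ha hb => simp only [map_add, ha, hb]

theorem bcEquiv_natural (ψ : R →ₐ[A'] R') (x : R ⊗[A'] (A' ⊗[A] B)) :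
    (ψ.restrictScalars A).toLinearMap.rTensor B (bcEquiv A' R x) =
      bcEquiv A' R' (ψ.toLinearMap.rTensor _ x) := by
  induction x using TensorProduct.induction_on with
  | zero => simp
  | tmul r z =>
    induction z using TensorProduct.induction_on with
    | zero => simp
    | tmul a b => simp [bcEquiv_tmul]
    | add a b ha hb => simp only [TensorProduct.tmul_add, map_add, ha, hb]
  | add a b ha hb => simp only [map_add, ha, hb]

end Maps

variable {d : ℕ}

/-- The member of the base changed law, with the `A`-algebra structure of the test algebra given. -/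
noncomputable def bcFun (g : C →ₐ[A] C') (F : PolLaw.MulLaw A B C d) (R : Type u) [CommSemiring R]
    [Algebra A R] [Algebra A' R] [IsScalarTower A A' R] (z : R ⊗[A'] (A' ⊗[A] B)) : R ⊗[A'] C' :=
  bcOut A' R g (F.law.toFun' R (bcEquiv A' R z))

/-- Base change of a multiplicative law along `A → A'`. -/
noncomputable def lawBC (g : C →ₐ[A] C') (F : PolLaw.MulLaw A B C d) :
    PolLaw.MulLaw A' (A' ⊗[A] B) C' d where
  law :=
    { toFun' := fun R _ _ z =>
        letI : Algebra A R := ((algebraMap A' R).comp (algebraMap A A')).toAlgebra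
        haveI : IsScalarTower A A' R := IsScalarTower.of_algebraMap_eq' rfl
        bcFun A' g F R z
      isCompat' := fun {R} _ _ {R'} _ _ ψ => by
        letI : Algebra A R := ((algebraMap A' R).comp (algebraMap A A')).toAlgebra
        haveI : IsScalarTower A A' R := IsScalarTower.of_algebraMap_eq' rfl
        letI : Algebra A R' := ((algebraMap A' R').comp (algebraMap A A')).toAlgebra
        haveI : IsScalarTower A A' R' := IsScalarTower.of_algebraMap_eq' rfl
        funext z
        simp only [Function.comp_apply, bcFun, bcOut_natural, compat, bcEquiv_natural] }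
  homog R _ _ r z := by
    letI : Algebra A R := ((algebraMap A' R).comp (algebraMap A A')).toAlgebra
    haveI : IsScalarTower A A' R := IsScalarTower.of_algebraMap_eq' rfl
    change bcFun A' g F R (r • z) = r ^ d • bcFun A' g F R z
    simp only [bcFun, map_smul]
    rw [F.homog R r, map_smul]
  mult R _ _ := by
    letI : Algebra A R := ((algebraMap A' R).comp (algebraMap A A')).toAlgebra
    haveI : IsScalarTower A A' R := IsScalarTower.of_algebraMap_eq' rfl
    refine ⟨?_, fun x y => ?_⟩
    · change bcFun A' g F R 1 = 1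
      simp only [bcFun, map_one, (F.mult R).1]
    · change bcFun A' g F R (x * y) = bcFun A' g F R x * bcFun A' g F R y
      simp only [bcFun, map_mul, (F.mult R).2]

theorem lawBC_apply (g : C →ₐ[A] C') (F : PolLaw.MulLaw A B C d) (R : Type u) [CommSemiring R]
    [iAR : Algebra A R] [Algebra A' R] [IsScalarTower A A' R] (z : R ⊗[A'] (A' ⊗[A] B)) :
    (lawBC A' g F).law.toFun' R z = bcOut A' R g (F.law.toFun' R (bcEquiv A' R z)) := by
  have h : iAR = ((algebraMap A' R).comp (algebraMap A A')).toAlgebra :=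
    Algebra.algebra_ext _ _ fun a => IsScalarTower.algebraMap_apply A A' R a
  subst h
  rfl

theorem lawBC_apply' (g : C →ₐ[A] C') (F : PolLaw.MulLaw A B C d) (R : Type u) [CommSemiring R]
    [Algebra A R] [Algebra A' R] [IsScalarTower A A' R] (x : R ⊗[A] B) :
    (lawBC A' g F).law.toFun' R ((bcEquiv A' R).symm x) = bcOut A' R g (F.law.toFun' R x) := by
  rw [lawBC_apply, AlgEquiv.apply_symm_apply]

end Groth.Agent.PLaw
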