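import Groth.Agent.PLaw.BC
import Groth.Agent.PLaw.Gamma

/-!
# Divided powers commute with base change
-/

universe u

open scoped TensorProduct

namespace Groth.Agent.PLaw

variable {A : Type u} [CommRing A] (A' : Type u) [CommRing A'] [Algebra A A']
  {B : Type u} [CommRing B] [Algebra A B] {C : Type u} [CommRing C] [Algebra A C]
  {D : Type u} [CommRing D] [Algebra A D] [Algebra A' D] [IsScalarTower A A' D] {d : ℕ}

/-- `(A' ⊗ S) ⊗_{A'} D → S ⊗_A D`. -/
noncomputable def restrictOut (S : Type u) [CommSemiring S] [Algebra A S] :
    (A' ⊗[A] S) ⊗[A'] D →ₐ[A] S ⊗[A] D :=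
  (Algebra.TensorProduct.comm A D S).toAlgHom.comp
    (((Algebra.TensorProduct.cancelBaseChange A A' A' D S).restrictScalars A).toAlgHom.comp
      ((Algebra.TensorProduct.comm A' (A' ⊗[A] S) D).restrictScalars A).toAlgHom)

theorem restrictOut_tmul (S : Type u) [CommSemiring S] [Algebra A S] (a : A') (s : S) (e : D) :
    restrictOut A' S ((a ⊗ₜ[A] s) ⊗ₜ[A'] e) = s ⊗ₜ[A] (a • e) := by
  simp [restrictOut, Algebra.TensorProduct.cancelBaseChange_tmul]

/-- A law over `A'` out of `A' ⊗ B` restricts to a law over `A` out of `B`. -/
noncomputable def restrictLaw (G : PolLaw.MulLaw A' (A' ⊗[A] B) D d) : PolLaw.MulLaw A B D d where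
  law :=
    { toFun' := fun S _ _ x => restrictOut A' S (G.law.toFun' (A' ⊗[A] S)
        ((bcEquiv A' (A' ⊗[A] S)).symm
          ((Algebra.TensorProduct.includeRight : S →ₐ[A] A' ⊗[A] S).toLinearMap.rTensor B x)))
      isCompat' := fun {S} _ _ {S'} _ _ ψ => by
        funext x
        simp only [Function.comp_apply]
        let Ψ : A' ⊗[A] S →ₐ[A'] A' ⊗[A] S' := Algebra.TensorProduct.map (AlgHom.id A' A') ψ
        have h1 : ∀ w, restrictOut A' S' (Ψ.toLinearMap.rTensor D w) =
            ψ.toLinearMap.rTensor D (restrictOut (D := D) A' S w) := fun w => by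
          induction w using TensorProduct.induction_on with
          | zero => simp
          | tmul v e =>
            induction v using TensorProduct.induction_on with
            | zero => simp
            | tmul a s => simp [Ψ, restrictOut_tmul]
            | add u v hu hv => simp only [TensorProduct.add_tmul, map_add, hu, hv]
          | add u v hu hv => simp only [map_add, hu, hv]
        rw [← h1, compat]
        congr 2
        apply (bcEquiv (A := A) (B := B) A' (A' ⊗[A] S')).injective
        rw [← bcEquiv_natural, AlgEquiv.apply_symm_apply, AlgEquiv.apply_symm_apply,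
          ← LinearMap.comp_apply, ← LinearMap.rTensor_comp, ← LinearMap.comp_apply,
          ← LinearMap.rTensor_comp]
        congr 2 }
  homog S _ _ s x := by
    have h : ∀ (y : S ⊗[A] B), (Algebra.TensorProduct.includeRight : S →ₐ[A] A' ⊗[A] S).toLinearMap.rTensor B
        (s • y) = ((1 : A') ⊗ₜ[A] s) •
          (Algebra.TensorProduct.includeRight : S →ₐ[A] A' ⊗[A] S).toLinearMap.rTensor B y := fun y => by
      induction y using TensorProduct.induction_on with
      | zero => simp
      | tmul t b => simp [TensorProduct.smul_tmul']
      | add u v hu hv => simp only [smul_add, map_add, hu, hv]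
    change restrictOut (D := D) A' S _ = s ^ d • restrictOut (D := D) A' S _
    rw [h, map_smul, G.homog]
    generalize G.law.toFun' (A' ⊗[A] S) _ = w
    induction w using TensorProduct.induction_on with
    | zero => simp
    | tmul v e =>
      induction v using TensorProduct.induction_on with
      | zero => simp
      | tmul a t =>
        simp [restrictOut_tmul, TensorProduct.smul_tmul']
      | add u v hu hv => simp only [smul_add, TensorProduct.add_tmul, map_add, hu, hv]
    | add u v hu hv => simp only [smul_add, map_add, hu, hv]
  mult S _ _ := by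
    have h : ∀ x : S ⊗[A] B, (Algebra.TensorProduct.includeRight : S →ₐ[A] A' ⊗[A] S).toLinearMap.rTensor B x =
        Algebra.TensorProduct.map (Algebra.TensorProduct.includeRight : S →ₐ[A] A' ⊗[A] S) (AlgHom.id A B) x :=
      fun x => PolLaw.rTensor_algHom_apply _ x
    refine ⟨?_, fun x y => ?_⟩
    · change restrictOut (D := D) A' S _ = 1
      rw [h, map_one, map_one, (G.mult _).1, map_one]
    · change restrictOut (D := D) A' S _ = restrictOut (D := D) A' S _ * restrictOut (D := D) A' S _
      rw [h, map_mul, map_mul, (G.mult _).2, map_mul, ← h, ← h]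

/-- The base change of a divided power algebra is a divided power algebra. -/
theorem isGammaD_lawBC {γ : PolLaw.MulLaw A B C d} (hγ : PolLaw.IsGammaD γ) :
    PolLaw.IsGammaD
      (lawBC A' (Algebra.TensorProduct.includeRight : C →ₐ[A] A' ⊗[A] C) γ) := by
  intro D _ _ G
  letI : Algebra A D := ((algebraMap A' D).comp (algebraMap A A')).toAlgebra
  haveI : IsScalarTower A A' D := IsScalarTower.of_algebraMap_eq' rfl
  obtain ⟨f₀, hf₀, huniq⟩ := hγ D (restrictLaw A' G)
  refine ⟨Algebra.TensorProduct.lift (Algebra.ofId A' D) f₀ (fun _ _ => Commute.all _ _), ?_, ?_⟩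
  · refine PolynomialLaw.ext ?_
    funext R i1 i2 z
    letI : Algebra A R := ((algebraMap A' R).comp (algebraMap A A')).toAlgebra
    haveI : IsScalarTower A A' R := IsScalarTower.of_algebraMap_eq' rfl
    obtain ⟨x, rfl⟩ := (bcEquiv (A := A) (B := B) A' R).symm.surjective z
    have h1 : ∀ w : R ⊗[A] C, (Algebra.TensorProduct.lift (Algebra.ofId A' D) f₀
        (fun _ _ => Commute.all _ _)).toLinearMap.lTensor R
          (bcOut A' R (Algebra.TensorProduct.includeRight : C →ₐ[A] A' ⊗[A] C) w) =
        bcOut A' R (AlgHom.id A D) (f₀.toLinearMap.lTensor R w) := fun w => by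
      induction w using TensorProduct.induction_on with
      | zero => simp
      | tmul r c => simp [bcOut_tmul]
      | add u v hu hv => simp only [map_add, hu, hv]
    rw [postcomp_apply, lawBC_apply', h1, ← postcomp_apply, law_congr hf₀]
    change bcOut A' R _ (restrictOut (D := D) A' R _) = _
    let μ : A' ⊗[A] R →ₐ[A'] R :=
      Algebra.TensorProduct.lift (Algebra.ofId A' R) (AlgHom.id A R) (fun _ _ => Commute.all _ _)
    have h2 : ∀ w, bcOut A' R (AlgHom.id A D) (restrictOut A' R w) = μ.toLinearMap.rTensor D w := fun w => by
      induction w using TensorProduct.induction_on with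
      | zero => simp
      | tmul v e =>
        induction v using TensorProduct.induction_on with
        | zero => simp
        | tmul a r =>
          simp [restrictOut_tmul, bcOut_tmul, μ, ← Algebra.smul_def, TensorProduct.smul_tmul]
        | add u v hu hv => simp only [TensorProduct.add_tmul, map_add, hu, hv]
      | add u v hu hv => simp only [map_add, hu, hv]
    rw [h2, compat]
    congr 1
    apply (bcEquiv (A := A) (B := B) A' R).injective
    rw [← bcEquiv_natural, AlgEquiv.apply_symm_apply, AlgEquiv.apply_symm_apply,
      ← LinearMap.comp_apply, ← LinearMap.rTensor_comp]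
    have : (μ.restrictScalars A).toLinearMap ∘ₗ
        (Algebra.TensorProduct.includeRight : R →ₐ[A] A' ⊗[A] R).toLinearMap = LinearMap.id :=
      LinearMap.ext fun r => by simp [μ]
    rw [this, LinearMap.rTensor_id, LinearMap.id_apply]
  · intro f hf
    have key : (f.restrictScalars A).comp Algebra.TensorProduct.includeRight = f₀ := by
      refine huniq _ (PolynomialLaw.ext ?_)
      funext S i1 i2 x
      rw [postcomp_apply]
      change _ = restrictOut (D := D) A' S _
      rw [← hf, postcomp_apply, lawBC_apply', ← compat]
      generalize γ.law.toFun' S x = w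
      induction w using TensorProduct.induction_on with
      | zero => simp
      | tmul s c => simp [bcOut_tmul, restrictOut_tmul]
      | add u v hu hv => simp only [map_add, hu, hv]
    refine Algebra.TensorProduct.ext (Subsingleton.elim _ _) ?_
    rw [key]
    exact AlgHom.ext fun c => by simp

end Groth.Agent.PLaw
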