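import Mathlib.RingTheory.PolynomialLaw.Basic
import Mathlib.RingTheory.TensorProduct.Free
import Mathlib.LinearAlgebra.TensorProduct.RightExactness
import Mathlib.Algebra.MvPolynomial.Basic
import Mathlib.Algebra.MvPolynomial.Eval
import Groth.Prelude.Def_PolLaw

/-!
# Basic tools for polynomial laws

* `cf α z`: the coefficient at the exponent `α` of `z : MvPolynomial σ A ⊗[A] N`.
* `gen σ e s`: the generic element `∑ k ∈ s, X k ⊗ e k`.
* `law_ext_mvPolynomial`, `law_ext_gen`: laws agreeing on polynomial rings / generic elements are equal.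
* `descend`: a law invariant under the kernel of a surjection factors through it.
-/

universe u v w

open scoped TensorProduct

namespace Groth.Agent.PLaw

section Coeff

variable {A : Type u} [CommRing A] {σ : Type*} {N : Type w} [AddCommGroup N] [Module A N]

/-- The coefficient at `α` of an element of `A[X] ⊗ N`. -/
noncomputable def cf (α : σ →₀ ℕ) : MvPolynomial σ A ⊗[A] N →ₗ[A] N :=
  (TensorProduct.lid A N).toLinearMap ∘ₗ (MvPolynomial.lcoeff A α).rTensor N

@[simp]
theorem cf_tmul (α : σ →₀ ℕ) (p : MvPolynomial σ A) (n : N) :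
    cf α (p ⊗ₜ[A] n) = p.coeff α • n := by
  simp [cf, MvPolynomial.lcoeff]

theorem cf_monomial_tmul [DecidableEq σ] (α β : σ →₀ ℕ) (a : A) (n : N) :
    cf α (MvPolynomial.monomial β a ⊗ₜ[A] n) = if β = α then a • n else 0 := by
  rw [cf_tmul, MvPolynomial.coeff_monomial]
  split_ifs <;> simp

theorem cf_lTensor {N' : Type*} [AddCommGroup N'] [Module A N'] (g : N →ₗ[A] N') (α : σ →₀ ℕ)
    (z : MvPolynomial σ A ⊗[A] N) : cf α (g.lTensor _ z) = g (cf α z) := by
  induction z using TensorProduct.induction_on with
  | zero => simp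
  | tmul p n => simp
  | add x y hx hy => simp only [map_add, hx, hy]

theorem cf_smul_monomial [DecidableEq σ] (α β : σ →₀ ℕ) (z : MvPolynomial σ A ⊗[A] N) :
    cf (β + α) (MvPolynomial.monomial β (1 : A) • z) = cf α z := by
  induction z using TensorProduct.induction_on with
  | zero => simp
  | tmul p n => simp [TensorProduct.smul_tmul', MvPolynomial.coeff_monomial_mul]
  | add x y hx hy => simp only [smul_add, map_add, hx, hy]

/-- Every element of `A[X] ⊗ N` is the finite sum of its monomial parts. -/
theorem exists_sum_cf (z : MvPolynomial σ A ⊗[A] N) :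
    ∃ T : Finset (σ →₀ ℕ), (∀ α ∉ T, cf α z = 0) ∧
      ∀ T' : Finset (σ →₀ ℕ), T ⊆ T' → z = ∑ α ∈ T', MvPolynomial.monomial α (1 : A) ⊗ₜ[A] cf α z := by
  classical
  induction z using TensorProduct.induction_on with
  | zero => exact ⟨∅, by simp, by simp⟩
  | tmul p n =>
    refine ⟨p.support, fun α hα => ?_, fun T' hT' => ?_⟩
    · simp [MvPolynomial.notMem_support_iff.mp hα]
    · conv_lhs => rw [p.as_sum, TensorProduct.sum_tmul]
      rw [Finset.sum_subset hT' (fun α _ hα => by simp [MvPolynomial.notMem_support_iff.mp hα])]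
      refine Finset.sum_congr rfl fun α _ => ?_
      rw [cf_tmul, TensorProduct.tmul_smul, TensorProduct.smul_tmul', MvPolynomial.smul_monomial,
        smul_eq_mul, mul_one]
  | add x y hx hy =>
    obtain ⟨T₁, h₁, h₁'⟩ := hx
    obtain ⟨T₂, h₂, h₂'⟩ := hy
    refine ⟨T₁ ∪ T₂, fun α hα => ?_, fun T' hT' => ?_⟩
    · simp only [Finset.mem_union, not_or] at hα
      simp [h₁ α hα.1, h₂ α hα.2]
    · simp only [map_add, TensorProduct.tmul_add, Finset.sum_add_distrib]
      rw [← h₁' T' (Finset.union_subset_left hT'), ← h₂' T' (Finset.union_subset_right hT')]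

theorem cf_ext {z z' : MvPolynomial σ A ⊗[A] N} (h : ∀ α, cf α z = cf α z') : z = z' := by
  classical
  obtain ⟨T, -, hT⟩ := exists_sum_cf z
  obtain ⟨T', -, hT'⟩ := exists_sum_cf z'
  rw [hT (T ∪ T') Finset.subset_union_left, hT' (T ∪ T') Finset.subset_union_right]
  exact Finset.sum_congr rfl fun α _ => by rw [h α]

/-- Elements with all coefficients in a submodule lie in the range of its base change. -/
theorem mem_range_lTensor_of_cf_mem (R : Submodule A N) {z : MvPolynomial σ A ⊗[A] N}
    (h : ∀ α, cf α z ∈ R) : z ∈ LinearMap.range (R.subtype.lTensor (MvPolynomial σ A)) := by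
  obtain ⟨T, -, hT⟩ := exists_sum_cf z
  rw [hT T subset_rfl]
  exact Submodule.sum_mem _ fun α _ => ⟨MvPolynomial.monomial α 1 ⊗ₜ[A] ⟨cf α z, h α⟩, rfl⟩

theorem cf_mem_of_mem_range_lTensor (R : Submodule A N) {z : MvPolynomial σ A ⊗[A] N}
    (h : z ∈ LinearMap.range (R.subtype.lTensor (MvPolynomial σ A))) (α : σ →₀ ℕ) : cf α z ∈ R := by
  obtain ⟨y, rfl⟩ := h
  rw [cf_lTensor]
  exact Submodule.coe_mem _

end Coeff

section Laws

variable {A : Type u} [CommRing A] {M : Type v} [AddCommGroup M] [Module A M]
  {N : Type w} [AddCommGroup N] [Module A N]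

/-- Compatibility of a law with a map of test algebras. -/
theorem compat (F : M →ₚₗ[A] N) {S S' : Type u} [CommSemiring S] [Algebra A S] [CommSemiring S']
    [Algebra A S'] (φ : S →ₐ[A] S') (x : S ⊗[A] M) :
    φ.toLinearMap.rTensor N (F.toFun' S x) = F.toFun' S' (φ.toLinearMap.rTensor M x) :=
  PolynomialLaw.isCompat_apply' φ x

/-- Laws agreeing over all polynomial rings in finitely many variables are equal. -/
theorem law_ext_mvPolynomial {F G : M →ₚₗ[A] N}
    (h : ∀ (n : ℕ) (x : MvPolynomial (Fin n) A ⊗[A] M),
      F.toFun' (MvPolynomial (Fin n) A) x = G.toFun' (MvPolynomial (Fin n) A) x) : F = G := by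
  refine PolynomialLaw.ext ?_
  funext S i1 i2 x
  obtain ⟨n, ψ, p, rfl⟩ := PolynomialLaw.exists_lift x
  rw [← compat F ψ, ← compat G ψ, h]

/-- The generic element `∑ k ∈ s, X k ⊗ e k`. -/
noncomputable def gen (A : Type u) [CommRing A] {M : Type v} [AddCommGroup M] [Module A M]
    {κ : Type*} (e : κ → M) (s : Finset κ) : MvPolynomial κ A ⊗[A] M :=
  ∑ k ∈ s, MvPolynomial.X k ⊗ₜ[A] e k

theorem rTensor_gen {κ : Type*} (e : κ → M) (s : Finset κ) {S : Type u} [CommSemiring S] [Algebra A S]
    (φ : MvPolynomial κ A →ₐ[A] S) :
    φ.toLinearMap.rTensor M (gen A e s) = ∑ k ∈ s, φ (MvPolynomial.X k) ⊗ₜ[A] e k := by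
  simp [gen, map_sum]

theorem exists_sum_tmul {S : Type*} [CommSemiring S] [Algebra A S] (x : S ⊗[A] M) :
    ∃ (n : ℕ) (s : Fin n → S) (m : Fin n → M), x = ∑ i, s i ⊗ₜ[A] m i := by
  induction x using TensorProduct.induction_on with
  | zero => exact ⟨0, 0, 0, by simp⟩
  | tmul s m => exact ⟨1, fun _ => s, fun _ => m, by simp⟩
  | add x y hx hy =>
    obtain ⟨n, s, m, rfl⟩ := hx
    obtain ⟨n', s', m', rfl⟩ := hy
    exact ⟨n + n', Fin.append s s', Fin.append m m', by simp [Fin.sum_univ_add]⟩

/-- Laws agreeing on all generic elements are equal. -/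
theorem law_ext_gen {F G : M →ₚₗ[A] N}
    (h : ∀ (n : ℕ) (m : Fin n → M),
      F.toFun' (MvPolynomial (Fin n) A) (gen A m Finset.univ) =
        G.toFun' (MvPolynomial (Fin n) A) (gen A m Finset.univ)) : F = G := by
  refine PolynomialLaw.ext ?_
  funext S i1 i2 x
  obtain ⟨n, s, m, rfl⟩ := exists_sum_tmul x
  have := congrArg ((MvPolynomial.aeval (R := A) s).toLinearMap.rTensor N) (h n m)
  rw [compat, compat, rTensor_gen] at this
  simpa using this

variable {κ : Type u}

/-- Evaluation of a law at an arbitrary combination of the vectors `e k`, `k ∈ s`, from the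
coefficients at the generic element. -/
theorem exists_value_eq (F : M →ₚₗ[A] N) (e : κ → M) (s : Finset κ) :
    ∃ T : Finset (κ →₀ ℕ), (∀ α ∉ T, cf α (F.toFun' _ (gen A e s)) = 0) ∧
      ∀ (S : Type u) [CommSemiring S] [Algebra A S] (σ : κ → S),
        F.toFun' S (∑ k ∈ s, σ k ⊗ₜ[A] e k) =
          ∑ α ∈ T, (α.prod fun k j => σ k ^ j) ⊗ₜ[A] cf α (F.toFun' _ (gen A e s)) := by
  obtain ⟨T, h0, hT⟩ := exists_sum_cf (F.toFun' _ (gen A e s))
  refine ⟨T, h0, fun S _ _ σ => ?_⟩
  have h := congrArg ((MvPolynomial.aeval (R := A) σ).toLinearMap.rTensor N) (hT T subset_rfl)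
  rw [compat, rTensor_gen, map_sum] at h
  simpa [MvPolynomial.aeval_monomial] using h

/-- The coefficient of a law at a generic element is unchanged when the vectors are restricted to
a subset containing the exponent's support. -/
theorem cf_gen_mono (F : M →ₚₗ[A] N) (e : κ → M) {s t : Finset κ} (hts : t ⊆ s) (α : κ →₀ ℕ)
    (hα : α.support ⊆ t) :
    cf α (F.toFun' _ (gen A e s)) = cf α (F.toFun' _ (gen A e t)) := by
  classical
  let φ : MvPolynomial κ A →ₐ[A] MvPolynomial κ A :=
    MvPolynomial.aeval fun k => if k ∈ t then MvPolynomial.X k else 0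
  have h1 : φ.toLinearMap.rTensor M (gen A e s) = gen A e t := by
    rw [rTensor_gen, gen, ← Finset.sum_subset hts (fun k _ hk => by simp [φ, hk])]
    exact Finset.sum_congr rfl fun k hk => by simp [φ, hk]
  have h2 : ∀ z : MvPolynomial κ A ⊗[A] N, cf α (φ.toLinearMap.rTensor N z) = cf α z := by
    intro z
    induction z using TensorProduct.induction_on with
    | zero => simp
    | tmul p n =>
      simp only [LinearMap.rTensor_tmul, cf_tmul, AlgHom.toLinearMap_apply]
      congr 1
      induction p using MvPolynomial.induction_on' with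
      | monomial β a =>
        by_cases hβ : β.support ⊆ t
        · have : φ (MvPolynomial.monomial β a) = MvPolynomial.monomial β a := by
            rw [MvPolynomial.aeval_monomial]
            conv_rhs => rw [MvPolynomial.monomial_eq]
            congr 1
            exact Finset.prod_congr rfl fun k hk => by simp [hβ hk]
          rw [this]
        · obtain ⟨k, hk, hkt⟩ := Finset.not_subset.mp hβ
          have : φ (MvPolynomial.monomial β a) = 0 := by
            rw [MvPolynomial.aeval_monomial]
            refine mul_eq_zero_of_right _ (Finset.prod_eq_zero hk ?_)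
            simp [hkt, zero_pow (Finsupp.mem_support_iff.mp hk)]
          rw [this, MvPolynomial.coeff_zero, MvPolynomial.coeff_monomial, if_neg]
          rintro rfl
          exact hkt (hα hk)
      | add p q hp hq => simp only [map_add, MvPolynomial.coeff_add, hp, hq]
    | add x y hx hy => simp only [map_add, hx, hy]
  rw [← h2, compat, h1]

/-- Coefficients of exponents not supported in `s` vanish at `gen A e s`. -/
theorem cf_gen_eq_zero (F : M →ₚₗ[A] N) (e : κ → M) (s : Finset κ) (α : κ →₀ ℕ)
    (hα : ¬ α.support ⊆ s) : cf α (F.toFun' _ (gen A e s)) = 0 := by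
  classical
  let φ : MvPolynomial κ A →ₐ[A] MvPolynomial κ A :=
    MvPolynomial.aeval fun k => if k ∈ s then MvPolynomial.X k else 0
  have h1 : φ.toLinearMap.rTensor M (gen A e s) = gen A e s := by
    rw [rTensor_gen, gen]
    exact Finset.sum_congr rfl fun k hk => by simp [φ, hk]
  have h2 : ∀ z : MvPolynomial κ A ⊗[A] N, cf α (φ.toLinearMap.rTensor N z) = 0 := by
    intro z
    induction z using TensorProduct.induction_on with
    | zero => simp
    | tmul p n =>
      simp only [LinearMap.rTensor_tmul, cf_tmul, AlgHom.toLinearMap_apply]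
      suffices h : (φ p).coeff α = 0 by rw [h, zero_smul]
      induction p using MvPolynomial.induction_on' with
      | monomial β a =>
        by_cases hβ : β.support ⊆ s
        · have : φ (MvPolynomial.monomial β a) = MvPolynomial.monomial β a := by
            rw [MvPolynomial.aeval_monomial]
            conv_rhs => rw [MvPolynomial.monomial_eq]
            congr 1
            exact Finset.prod_congr rfl fun k hk => by simp [hβ hk]
          rw [this, MvPolynomial.coeff_monomial, if_neg]
          rintro rfl
          exact hα hβ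
        · obtain ⟨k, hk, hkt⟩ := Finset.not_subset.mp hβ
          have : φ (MvPolynomial.monomial β a) = 0 := by
            rw [MvPolynomial.aeval_monomial]
            refine mul_eq_zero_of_right _ (Finset.prod_eq_zero hk ?_)
            simp [hkt, zero_pow (Finsupp.mem_support_iff.mp hk)]
          rw [this, MvPolynomial.coeff_zero]
      | add p q hp hq => simp only [map_add, MvPolynomial.coeff_add, hp, hq, add_zero]
    | add x y hx hy => simp only [map_add, hx, hy, add_zero]
  have h := h2 (F.toFun' _ (gen A e s))
  rwa [compat, h1] at h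

/-- A law homogeneous of degree `d` has only coefficients of degree `d`. -/
theorem cf_gen_eq_zero_of_degree (F : M →ₚₗ[A] N) {d : ℕ}
    (hF : ∀ (S : Type u) [CommSemiring S] [Algebra A S] (r : S) (x : S ⊗[A] M),
      F.toFun' S (r • x) = r ^ d • F.toFun' S x)
    (e : κ → M) (s : Finset κ) (α : κ →₀ ℕ) (hα : (α.sum fun _ j => j) ≠ d) :
    cf α (F.toFun' _ (gen A e s)) = 0 := by
  classical
  -- scale all the variables by one extra variable
  let φ : MvPolynomial κ A →ₐ[A] MvPolynomial (Option κ) A :=
    MvPolynomial.aeval fun k => MvPolynomial.X none * MvPolynomial.X (some k)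
  let ι : MvPolynomial κ A →ₐ[A] MvPolynomial (Option κ) A := MvPolynomial.rename some
  have hgen : φ.toLinearMap.rTensor M (gen A e s) =
      (MvPolynomial.X none : MvPolynomial (Option κ) A) • ι.toLinearMap.rTensor M (gen A e s) := by
    rw [rTensor_gen, rTensor_gen, Finset.smul_sum]
    exact Finset.sum_congr rfl fun k _ => by
      simp [φ, ι, TensorProduct.smul_tmul']
  have hval := compat F φ (gen A e s)
  rw [hgen, hF, ← compat] at hval
  let α' : Option κ →₀ ℕ := α.mapDomain some + Finsupp.single none (α.sum fun _ j => j)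
  have key1 : ∀ z : MvPolynomial κ A ⊗[A] N, cf α' (φ.toLinearMap.rTensor N z) = cf α z := by
    intro z
    induction z using TensorProduct.induction_on with
    | zero => simp
    | tmul p n =>
      simp only [LinearMap.rTensor_tmul, cf_tmul, AlgHom.toLinearMap_apply]
      congr 1
      induction p using MvPolynomial.induction_on' with
      | monomial β a =>
        have : φ (MvPolynomial.monomial β a) = MvPolynomial.monomial
            (β.mapDomain some + Finsupp.single none (β.sum fun _ j => j)) a := by
          rw [MvPolynomial.aeval_monomial]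
          simp only [mul_pow, Finsupp.prod_mul]
          conv_rhs => rw [← mul_one a, ← MvPolynomial.monomial_mul]
          rw [← MvPolynomial.rename_monomial some β a, MvPolynomial.monomial_eq (a := a), map_mul,
            MvPolynomial.rename_C, ← MvPolynomial.X_pow_eq_monomial, map_finsuppProd]
          simp only [map_pow, MvPolynomial.rename_X, Finsupp.prod, Finset.prod_pow_eq_pow_sum,
            Finsupp.sum, MvPolynomial.algebraMap_eq]
          ring
        rw [this, MvPolynomial.coeff_monomial, MvPolynomial.coeff_monomial]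
        refine if_congr ⟨fun h => ?_, fun h => by rw [h]⟩ rfl rfl
        ext k
        have := DFunLike.congr_fun h (some k)
        simpa [α', Finsupp.mapDomain_apply (Option.some_injective κ)] using this
      | add p q hp hq => simp only [map_add, MvPolynomial.coeff_add, hp, hq]
    | add x y hx hy => simp only [map_add, hx, hy]
  have key2 : ∀ z : MvPolynomial κ A ⊗[A] N,
      cf α' ((MvPolynomial.X none : MvPolynomial (Option κ) A) ^ d • ι.toLinearMap.rTensor N z) = 0 := by
    intro z
    induction z using TensorProduct.induction_on with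
    | zero => simp
    | tmul p n =>
      simp only [LinearMap.rTensor_tmul, TensorProduct.smul_tmul', cf_tmul, AlgHom.toLinearMap_apply,
        smul_eq_mul]
      suffices h : ((MvPolynomial.X none : MvPolynomial (Option κ) A) ^ d * ι p).coeff α' = 0 by rw [h, zero_smul]
      induction p using MvPolynomial.induction_on' with
      | monomial β a =>
        rw [MvPolynomial.rename_monomial, MvPolynomial.X_pow_eq_monomial, MvPolynomial.monomial_mul,
          MvPolynomial.coeff_monomial, if_neg]
        intro h
        have := DFunLike.congr_fun h none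
        simp [α', Finsupp.mapDomain_notin_range] at this
        exact hα this.symm
      | add p q hp hq => simp only [map_add, mul_add, MvPolynomial.coeff_add, hp, hq, add_zero]
    | add x y hx hy => simp only [map_add, smul_add, hx, hy, add_zero]
  have h1 := key1 (F.toFun' _ (gen A e s))
  rw [hval, key2] at h1
  exact h1.symm

end Laws

section Descend

variable {A : Type u} [CommRing A] {M : Type v} [AddCommGroup M] [Module A M]
  {P : Type*} [AddCommGroup P] [Module A P]
  {N : Type w} [AddCommGroup N] [Module A N]

/-- Two lifts of the same element differ by an element coming from the kernel. -/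
theorem exists_add_of_lTensor_eq (π : M →ₗ[A] P) (hπ : Function.Surjective π)
    (S : Type*) [CommSemiring S] [Algebra A S] {x y : S ⊗[A] M}
    (h : π.lTensor S x = π.lTensor S y) :
    ∃ w ∈ LinearMap.range ((LinearMap.ker π).subtype.lTensor S), y = x + w := by
  letI : AddCommGroup S := Module.addCommMonoidToAddCommGroup A
  refine ⟨y - x, ?_, by abel⟩
  have hx : π.lTensor S (y - x) = 0 := by rw [map_sub, h, sub_self]
  exact (lTensor_exact S (LinearMap.exact_subtype_ker_map π) hπ _).mp hx

variable (π : M →ₗ[A] P) (hπ : Function.Surjective π) (G : M →ₚₗ[A] N)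
  (hG : ∀ (S : Type u) [CommSemiring S] [Algebra A S] (x w : S ⊗[A] M),
    w ∈ LinearMap.range ((LinearMap.ker π).subtype.lTensor S) → G.toFun' S (x + w) = G.toFun' S x)

include hπ hG in
theorem toFun'_eq_of_lTensor_eq (S : Type u) [CommSemiring S] [Algebra A S] {x y : S ⊗[A] M}
    (h : π.lTensor S x = π.lTensor S y) : G.toFun' S y = G.toFun' S x := by
  obtain ⟨w, hw, rfl⟩ := exists_add_of_lTensor_eq π hπ S h
  exact hG S x w hw

/-- A law invariant under the kernel of a surjection factors through it. -/
noncomputable def descend : P →ₚₗ[A] N where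
  toFun' S _ _ y := G.toFun' S (Function.surjInv (LinearMap.lTensor_surjective S hπ) y)
  isCompat' {S} _ _ {S'} _ _ φ := by
    funext y
    simp only [Function.comp_apply]
    rw [compat]
    apply toFun'_eq_of_lTensor_eq π hπ G hG S'
    rw [Function.surjInv_eq (LinearMap.lTensor_surjective S' hπ), ← LinearMap.comp_apply,
      LinearMap.lTensor_comp_rTensor, ← LinearMap.rTensor_comp_lTensor, LinearMap.comp_apply,
      Function.surjInv_eq (LinearMap.lTensor_surjective S hπ)]

theorem descend_apply (S : Type u) [CommSemiring S] [Algebra A S] (x : S ⊗[A] M) :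
    (descend π hπ G hG).toFun' S (π.lTensor S x) = G.toFun' S x := by
  apply toFun'_eq_of_lTensor_eq π hπ G hG S
  exact (Function.surjInv_eq (LinearMap.lTensor_surjective S hπ) _).symm

end Descend

end Groth.Agent.PLaw
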