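import Groth.Agent.PLaw.KerCrit
import Mathlib.RingTheory.IntegralClosure.IsIntegralClosure.Basic
import Mathlib.RingTheory.PolynomialAlgebra

/-!
# The characteristic polynomial of a multiplicative law and Cayley–Hamilton
-/

universe u

open scoped TensorProduct Polynomial

namespace Groth.Agent.PLaw

variable {A : Type u} [CommRing A] {B : Type u} [CommRing B] [Algebra A B]

/-- `A[X] ⊗ N → N[X]`. -/
noncomputable def toPoly (A : Type u) [CommRing A] (N : Type u) [CommRing N] [Algebra A N] :
    A[X] ⊗[A] N →ₐ[A] N[X] :=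
  Algebra.TensorProduct.lift (Polynomial.mapAlgHom (Algebra.ofId A N))
    (IsScalarTower.toAlgHom A N N[X]) fun _ _ => Commute.all _ _

@[simp]
theorem toPoly_tmul (N : Type u) [CommRing N] [Algebra A N] (p : A[X]) (n : N) :
    toPoly A N (p ⊗ₜ[A] n) = p.map (algebraMap A N) * Polynomial.C n := by
  simp [toPoly, Algebra.ofId, Polynomial.algebraMap_eq]

theorem toPoly_natural {N N' : Type u} [CommRing N] [Algebra A N] [CommRing N'] [Algebra A N']
    (g : N →ₐ[A] N') (z : A[X] ⊗[A] N) :
    toPoly A N' (g.toLinearMap.lTensor A[X] z) = (toPoly A N z).map g.toRingHom := by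
  induction z using TensorProduct.induction_on with
  | zero => simp
  | tmul p n =>
    simp only [LinearMap.lTensor_tmul, AlgHom.toLinearMap_apply, toPoly_tmul, Polynomial.map_mul,
      Polynomial.map_map, Polynomial.map_C,
      show g.toRingHom.comp (algebraMap A N) = algebraMap A N' from g.comp_algebraMap]
    rfl
  | add a b ha hb => simp only [map_add, Polynomial.map_add, ha, hb]

theorem toPoly_self (z : A[X] ⊗[A] A) : toPoly A A z = TensorProduct.rid A A[X] z := by
  induction z using TensorProduct.induction_on with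
  | zero => simp
  | tmul p a => simp [Polynomial.smul_eq_C_mul, mul_comm]
  | add a b ha hb => simp only [map_add, ha, hb]

variable {d : ℕ}

/-- `F (X - b)`, the characteristic polynomial of `b` with respect to `F`. -/
noncomputable def chi (F : PolLaw.MulLaw A B A d) (b : B) : A[X] :=
  TensorProduct.rid A A[X] (F.law.toFun' A[X] (Polynomial.X ⊗ₜ[A] (1 : B) - 1 ⊗ₜ[A] b))

section Generic

variable (U : Type u) [CommRing U] [Algebra A U] {T : Type u} [CommRing T] [Algebra A T]
  {P : Type u} [CommRing P] [Algebra A P]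

/-- `Σ_k c_k ⊗ p ^ k` in `(S ⊗ U) ⊗ P`. -/
noncomputable def bigQ (A : Type u) [CommRing A] (U : Type u) [CommRing U] [Algebra A U] {P : Type u}
    [CommRing P] [Algebra A P] (S : Type u) [CommRing S] [Algebra A S] (q : U[X]) (p : P) :
    (S ⊗[A] U) ⊗[A] P :=
  q.eval₂ ((Algebra.TensorProduct.includeLeft : S ⊗[A] U →ₐ[A] (S ⊗[A] U) ⊗[A] P).toRingHom.comp
      (Algebra.TensorProduct.includeRight : U →ₐ[A] S ⊗[A] U).toRingHom) ((1 : S ⊗[A] U) ⊗ₜ[A] p)

/-- Multiply the two copies of `U`. -/
noncomputable def bigMu (A : Type u) [CommRing A] (U : Type u) [CommRing U] [Algebra A U]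
    (S : Type u) [CommRing S] [Algebra A S] : (S ⊗[A] U) ⊗[A] U →ₐ[A] S ⊗[A] U :=
  Algebra.TensorProduct.lift (AlgHom.id A _) Algebra.TensorProduct.includeRight fun _ _ => Commute.all _ _

variable {U}

/-- `(S ⊗ U) ⊗ T → S ⊗ T`. -/
noncomputable def bigNu (v : U →ₐ[A] T) (S : Type u) [CommRing S] [Algebra A S] :
    (S ⊗[A] U) ⊗[A] T →ₐ[A] S ⊗[A] T :=
  Algebra.TensorProduct.lift (Algebra.TensorProduct.map (AlgHom.id A S) v)
    Algebra.TensorProduct.includeRight fun _ _ => Commute.all _ _

theorem lTensor_bigMu (v : U →ₐ[A] T) (S : Type u) [CommRing S] [Algebra A S]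
    (z : (S ⊗[A] U) ⊗[A] U) :
    v.toLinearMap.lTensor S (bigMu A U S z) = bigNu v S (v.toLinearMap.lTensor _ z) := by
  induction z using TensorProduct.induction_on with
  | zero => simp
  | tmul a c =>
    induction a using TensorProduct.induction_on with
    | zero => simp
    | tmul s c' => simp [bigMu, bigNu]
    | add a b ha hb => simp only [TensorProduct.add_tmul, map_add, ha, hb]
  | add a b ha hb => simp only [map_add, ha, hb]

theorem nu_prod_add_mul (v : U →ₐ[A] T) {ι : Type} [Fintype ι] (sl : ι → (P →ₐ[A] T)) (q : U[X]) (p : P)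
    (hq : ∀ j, (q.map v.toRingHom).eval (sl j p) = 0) (S : Type u) [CommRing S] [Algebra A S]
    (x w : (S ⊗[A] U) ⊗[A] P) :
    bigNu v S (∏ j, Algebra.TensorProduct.map (AlgHom.id (S ⊗[A] U) (S ⊗[A] U)) (sl j) (x + w * bigQ A U S q p)) =
      bigNu v S (∏ j, Algebra.TensorProduct.map (AlgHom.id (S ⊗[A] U) (S ⊗[A] U)) (sl j) x) := by
  rw [map_prod, map_prod]
  refine Finset.prod_congr rfl fun j _ => ?_
  have h0 : bigNu v S (Algebra.TensorProduct.map (AlgHom.id (S ⊗[A] U) (S ⊗[A] U)) (sl j)
      (bigQ A U S q p)) = 0 := by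
    let g : (S ⊗[A] U) ⊗[A] P →+* S ⊗[A] T :=
      (bigNu v S).toRingHom.comp
        (Algebra.TensorProduct.map (AlgHom.id (S ⊗[A] U) (S ⊗[A] U)) (sl j)).toRingHom
    change g _ = 0
    rw [bigQ, Polynomial.hom_eval₂]
    have hg : g.comp ((Algebra.TensorProduct.includeLeft : S ⊗[A] U →ₐ[A] (S ⊗[A] U) ⊗[A] P).toRingHom.comp
        (Algebra.TensorProduct.includeRight : U →ₐ[A] S ⊗[A] U).toRingHom) =
        (Algebra.TensorProduct.includeRight : T →ₐ[A] S ⊗[A] T).toRingHom.comp v.toRingHom :=
      RingHom.ext fun c => by simp [g, bigNu]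
    rw [hg, show g ((1 : S ⊗[A] U) ⊗ₜ[A] p) =
        (Algebra.TensorProduct.includeRight : T →ₐ[A] S ⊗[A] T).toRingHom (sl j p) by simp [g, bigNu],
      ← Polynomial.eval₂_map, Polynomial.eval₂_at_apply, hq, map_zero]
  rw [map_add, map_mul, map_add, map_mul, h0, mul_zero, add_zero]

variable (f : U →ₐ[A] A) (S : Type u) [CommRing S] [Algebra A S]

/-- `S ⊗ U → S` along `f`. -/
noncomputable def psi : S ⊗[A] U →ₐ[A] S :=
  Algebra.TensorProduct.lift (AlgHom.id A S) ((Algebra.ofId A S).comp f) fun _ _ => Commute.all _ _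

theorem psi_bigMu (z : (S ⊗[A] U) ⊗[A] U) :
    Algebra.TensorProduct.map (psi f S) (AlgHom.id A A) (f.toLinearMap.lTensor _ z) =
      f.toLinearMap.lTensor S (bigMu A U S z) := by
  induction z using TensorProduct.induction_on with
  | zero => simp
  | tmul a c =>
    induction a using TensorProduct.induction_on with
    | zero => simp
    | tmul s c' =>
      simp [bigMu, psi, Algebra.ofId_apply, map_mul, ← Algebra.smul_def, ← Algebra.commutes,
        TensorProduct.smul_tmul]
    | add a b ha hb => simp only [TensorProduct.add_tmul, map_add, ha, hb]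
  | add a b ha hb => simp only [map_add, ha, hb]

theorem psi_left (z : S ⊗[A] P) :
    Algebra.TensorProduct.map (psi f S) (AlgHom.id A P)
      (Algebra.TensorProduct.map (Algebra.TensorProduct.includeLeft : S →ₐ[A] S ⊗[A] U) (AlgHom.id A P) z) = z := by
  induction z using TensorProduct.induction_on with
  | zero => simp
  | tmul s c => simp [psi]
  | add a b ha hb => simp only [map_add, ha, hb]

theorem psi_bigQ (q : U[X]) (p : P) :
    Algebra.TensorProduct.map (psi f S) (AlgHom.id A P) (bigQ A U S q p) =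
      (1 : S) ⊗ₜ[A] Polynomial.aeval p (q.map f.toRingHom) := by
  change (Algebra.TensorProduct.map (psi f S) (AlgHom.id A P)).toRingHom (bigQ A U S q p) = _
  rw [bigQ, Polynomial.hom_eval₂, Polynomial.aeval_def, Polynomial.eval₂_map]
  change _ = (Algebra.TensorProduct.includeRight : P →ₐ[A] S ⊗[A] P).toRingHom _
  rw [Polynomial.hom_eval₂]
  congr 1
  · refine RingHom.ext fun c => ?_
    simp [psi, Algebra.ofId_apply, Algebra.algebraMap_eq_smul_one, TensorProduct.smul_tmul]
  · simp

end Generic

section Universal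

variable {P : Type u} [CommRing P] [Algebra A P] {κ : Type u} (e : Module.Basis κ A P)

/-- The slot `j` of the tensor power. -/
noncomputable abbrev slot (A : Type u) [CommRing A] (P : Type u) [CommRing P] [Algebra A P] (d : ℕ)
    (j : Fin d) : P →ₐ[A] ⨂[A] _ : Fin d, P :=
  PiTensorProduct.singleAlgHom (A := fun _ : Fin d => P) j

theorem tpowLaw_eq_prod (S : Type u) [CommSemiring S] [Algebra A S] (x : S ⊗[A] P) :
    (SymTen.tpowLaw A P d).law.toFun' S x =
      ∏ j, Algebra.TensorProduct.map (AlgHom.id S S) (slot A P d j) x := rfl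

/-- The universal characteristic polynomial. -/
noncomputable def chiTS (p : P) : (SymTen.TS A P d)[X] :=
  toPoly A (SymTen.TS A P d) ((tauTS e d).law.toFun' A[X] (Polynomial.X ⊗ₜ[A] (1 : P) - 1 ⊗ₜ[A] p))

theorem map_val_chiTS (p : P) :
    (chiTS e (d := d) p).map (SymTen.TS A P d).val.toRingHom =
      ∏ j, (Polynomial.X - Polynomial.C (slot A P d j p)) := by
  rw [chiTS, ← toPoly_natural, tauTS_val, tpowLaw_eq_prod, map_prod]
  exact Finset.prod_congr rfl fun j _ => by simp [← PiTensorProduct.one_def]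

theorem monic_chiTS (p : P) : (chiTS e (d := d) p).Monic := by
  refine Polynomial.monic_of_injective (f := (SymTen.TS A P d).val.toRingHom) Subtype.coe_injective ?_
  rw [map_val_chiTS]
  exact Polynomial.monic_prod_of_monic _ _ fun j _ => Polynomial.monic_X_sub_C _

theorem natDegree_chiTS_le (p : P) : (chiTS e (d := d) p).natDegree ≤ d := by
  rw [← Polynomial.natDegree_map_eq_of_injective
    (f := (SymTen.TS A P d).val.toRingHom) Subtype.coe_injective, map_val_chiTS]
  exact (Polynomial.natDegree_prod_le _ _).trans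
    ((Finset.sum_le_sum fun j _ => Polynomial.natDegree_X_sub_C_le _).trans (by simp))

variable {π : P →ₐ[A] B}

theorem chi_eq_map (F : PolLaw.MulLaw A B A d) (p : P) :
    chi F (π p) = (chiTS e p).map (fromTSAlg e (F.precomp π)).toRingHom := by
  rw [chiTS, ← toPoly_natural, fromTSAlg_apply, toPoly_self, chi]
  congr 1
  change _ = F.law.toFun' _ (π.toLinearMap.lTensor _ _)
  congr 1
  simp [map_sub]

set_option maxHeartbeats 4000000 in
/-- Cayley–Hamilton: the value of the characteristic polynomial is in the kernel. -/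
theorem aeval_map_chiTS_mem_ker (hπ : Function.Surjective π) (F : PolLaw.MulLaw A B A d) (p : P) :
    π (Polynomial.aeval p ((chiTS e p).map (fromTSAlg e (F.precomp π)).toRingHom)) ∈
      PolLaw.ker F.law := by
  intro S _ _ y v
  letI := toCommRing A S
  obtain ⟨x, rfl⟩ := LinearMap.lTensor_surjective S (g := π.toLinearMap) hπ y
  obtain ⟨w, rfl⟩ := LinearMap.lTensor_surjective S (g := π.toLinearMap) hπ v
  let Q := bigQ A (SymTen.TS A P d) S (chiTS e p) p
  let i : S →ₐ[A] S ⊗[A] SymTen.TS A P d := Algebra.TensorProduct.includeLeft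
  let x' := Algebra.TensorProduct.map i (AlgHom.id A P) x
  let w' := Algebra.TensorProduct.map i (AlgHom.id A P) w
  have hμ : bigMu A (SymTen.TS A P d) S ((tauTS e d).law.toFun' _ (x' + w' * Q)) =
      bigMu A (SymTen.TS A P d) S ((tauTS e d).law.toFun' _ x') := by
    apply lTensor_val_injective e S
    rw [lTensor_bigMu, lTensor_bigMu, tauTS_val, tauTS_val, tpowLaw_eq_prod, tpowLaw_eq_prod]
    refine nu_prod_add_mul (SymTen.TS A P d).val (slot A P d) (chiTS e p) p (fun j => ?_) S x' w'
    rw [map_val_chiTS]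
    simp [Polynomial.eval_prod, Finset.prod_eq_zero (Finset.mem_univ j)]
  have key := congrArg ((fromTSAlg e (F.precomp π)).toLinearMap.lTensor S) hμ
  rw [← psi_bigMu, ← psi_bigMu, fromTSAlg_apply, fromTSAlg_apply, compatMap, compatMap, map_add,
    map_mul, psi_bigQ, psi_left, psi_left] at key
  convert key using 1
  · change F.law.toFun' S _ = F.law.toFun' S (π.toLinearMap.lTensor S _)
    congr 1
    rw [PolLaw.lTensor_algHom_apply π, PolLaw.lTensor_algHom_apply π, PolLaw.lTensor_algHom_apply π,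
      map_add, map_mul]
    simp
  · rfl

end Universal

section Main

variable (F : PolLaw.MulLaw A B A d) (b : B)

theorem monic_chi : (chi F b).Monic := by
  obtain ⟨p, rfl⟩ := stdπ_surjective A B b
  rw [chi_eq_map (stdBasis A B) F p]
  exact (monic_chiTS _ p).map _

theorem natDegree_chi_le : (chi F b).natDegree ≤ d := by
  obtain ⟨p, rfl⟩ := stdπ_surjective A B b
  rw [chi_eq_map (stdBasis A B) F p]
  exact (Polynomial.natDegree_map_le).trans (natDegree_chiTS_le _ p)

theorem aeval_chi_mem_ker : Polynomial.aeval b (chi F b) ∈ PolLaw.ker F.law := by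
  obtain ⟨p, rfl⟩ := stdπ_surjective A B b
  rw [chi_eq_map (stdBasis A B) F p, Polynomial.aeval_algHom_apply]
  exact aeval_map_chiTS_mem_ker _ (stdπ_surjective A B) F p

theorem chi_of_mem_ker {b : B} (hb : b ∈ PolLaw.ker F.law) : chi F b = Polynomial.X ^ d := by
  have h : (Polynomial.X : A[X]) ⊗ₜ[A] (1 : B) - 1 ⊗ₜ[A] b =
      (Polynomial.X : A[X]) • (1 : A[X] ⊗[A] B) + (-1) * (1 ⊗ₜ[A] b) := by
    rw [neg_mul (α := Polynomial A ⊗[A] B), one_mul, ← sub_eq_add_neg, Algebra.TensorProduct.one_def, TensorProduct.smul_tmul',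
      smul_eq_mul, mul_one]
  rw [chi, h, hb, F.homog, (F.mult _).1, Algebra.TensorProduct.one_def, TensorProduct.smul_tmul']
  simp

theorem isIntegral_image : Algebra.IsIntegral A (PolLaw.image F.law) := by
  refine ⟨fun z => ?_⟩
  obtain ⟨b, rfl⟩ := Ideal.Quotient.mk_surjective z
  refine ⟨chi F b, monic_chi F b, ?_⟩
  rw [← Polynomial.aeval_def, ← Ideal.Quotient.mkₐ_eq_mk A, Polynomial.aeval_algHom_apply,
    Ideal.Quotient.mkₐ_eq_mk]
  exact Ideal.Quotient.eq_zero_iff_mem.mpr (aeval_chi_mem_ker F b)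

theorem pow_mem_span_of_chi_eq {b : B} (h : chi F b = Polynomial.X ^ d) :
    b ^ d ∈ PolLaw.ker F.law := by
  simpa [h] using aeval_chi_mem_ker F b

end Main

end Groth.Agent.PLaw
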