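import Groth.Agent.PLaw.KerCrit
import Mathlib.RingTheory.Finiteness.Projective
import Mathlib.RingTheory.LocalRing.Module
import Mathlib.RingTheory.LocalProperties.Basic
import Mathlib.RingTheory.Spectrum.Prime.FreeLocus
import Mathlib.LinearAlgebra.Determinant

/-!
# The determinant law of a finite projective module
-/

universe u

open scoped TensorProduct

namespace Groth.Agent.PLaw

variable {A : Type u} [CommRing A] {B : Type u} [CommRing B] [Algebra A B]
  {M : Type u} [AddCommGroup M] [Module A M] [Module B M] [IsScalarTower A B M]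
  {n : ℕ} (i : M →ₗ[A] Fin n → A) (p : (Fin n → A) →ₗ[A] M) (hpi : p ∘ₗ i = LinearMap.id)

/-- The action on `M` extended by the identity to the free module containing it. -/
noncomputable def extAct (R : Type u) [CommRing R] [Algebra A R] (x : R ⊗[A] B) :
    Module.End R (R ⊗[A] (Fin n → A)) :=
  i.baseChange R ∘ₗ PolLaw.actEnd M R x ∘ₗ p.baseChange R + (1 - i.baseChange R ∘ₗ p.baseChange R)

include hpi in
theorem baseChange_pi (R : Type u) [CommRing R] [Algebra A R] (z : R ⊗[A] M) :
    p.baseChange R (i.baseChange R z) = z := by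
  rw [← LinearMap.comp_apply, ← LinearMap.baseChange_comp, hpi, LinearMap.baseChange_id]
  rfl

omit [IsScalarTower A B M] in
theorem extAct_apply (R : Type u) [CommRing R] [Algebra A R] [IsScalarTower A B M] (x : R ⊗[A] B)
    (z : R ⊗[A] (Fin n → A)) :
    extAct i p R x z = i.baseChange R (PolLaw.actEnd M R x (p.baseChange R z)) +
      (z - i.baseChange R (p.baseChange R z)) := rfl

theorem extAct_one (R : Type u) [CommRing R] [Algebra A R] : extAct i p R (1 : R ⊗[A] B) = 1 := by
  refine LinearMap.ext fun z => ?_
  rw [extAct_apply, map_one, Module.End.one_apply, Module.End.one_apply, add_sub_cancel]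

include hpi in
theorem extAct_mul (R : Type u) [CommRing R] [Algebra A R] (x y : R ⊗[A] B) :
    extAct i p R (x * y) = extAct i p R x * extAct i p R y := by
  refine LinearMap.ext fun z => ?_
  simp only [Module.End.mul_apply, extAct_apply, map_mul, map_add, map_sub, baseChange_pi i p hpi]
  abel

theorem rTensor_baseChange {N N' : Type u} [AddCommGroup N] [Module A N] [AddCommGroup N'] [Module A N']
    (f : N →ₗ[A] N') {R R' : Type u} [CommRing R] [Algebra A R] [CommRing R'] [Algebra A R']
    (φ : R →ₐ[A] R') (z : R ⊗[A] N) :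
    φ.toLinearMap.rTensor N' (f.baseChange R z) = f.baseChange R' (φ.toLinearMap.rTensor N z) := by
  induction z using TensorProduct.induction_on with
  | zero => simp
  | tmul a b => simp
  | add a b ha hb => simp only [map_add, ha, hb]

theorem rTensor_extAct {R R' : Type u} [CommRing R] [Algebra A R] [CommRing R'] [Algebra A R']
    (φ : R →ₐ[A] R') (x : R ⊗[A] B) (z : R ⊗[A] (Fin n → A)) :
    φ.toLinearMap.rTensor _ (extAct i p R x z) =
      extAct i p R' (Algebra.TensorProduct.map φ (AlgHom.id A B) x) (φ.toLinearMap.rTensor _ z) := by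
  simp only [extAct_apply, map_add, map_sub, rTensor_baseChange, PolLaw.rTensor_actEnd]

theorem repr_rTensor {ι F : Type*} [Fintype ι] [AddCommGroup F] [Module A F] (b : Module.Basis ι A F)
    {R R' : Type u} [CommRing R] [Algebra A R] [CommRing R'] [Algebra A R']
    (φ : R →ₐ[A] R') (z : R ⊗[A] F) (j : ι) :
    (Algebra.TensorProduct.basis R' b).repr (φ.toLinearMap.rTensor F z) j =
      φ ((Algebra.TensorProduct.basis R b).repr z j) := by
  induction z using TensorProduct.induction_on with
  | zero => simp
  | tmul t m =>
      simp [LinearMap.rTensor_tmul, Algebra.TensorProduct.basis_repr_tmul, Finsupp.smul_apply,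
        Finsupp.mapRange_apply]
  | add z z' hz hz' => simp only [map_add, Finsupp.add_apply, hz, hz']

theorem det_extAct_map {R R' : Type u} [CommRing R] [Algebra A R] [CommRing R'] [Algebra A R']
    (φ : R →ₐ[A] R') (x : R ⊗[A] B) :
    LinearMap.det (extAct i p R' (Algebra.TensorProduct.map φ (AlgHom.id A B) x)) =
      φ (LinearMap.det (extAct i p R x)) := by
  classical
  let b := Pi.basisFun A (Fin n)
  rw [← LinearMap.det_toMatrix (Algebra.TensorProduct.basis R' b),
    ← LinearMap.det_toMatrix (Algebra.TensorProduct.basis R b), AlgHom.map_det]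
  congr 1
  ext k l
  simp only [AlgHom.mapMatrix_apply, Matrix.map_apply, LinearMap.toMatrix_apply,
    Algebra.TensorProduct.basis_apply]
  rw [← repr_rTensor b φ, rTensor_extAct, LinearMap.rTensor_tmul, AlgHom.toLinearMap_apply, map_one]

include hpi in
/-- Over a local ring the determinant of the extended action is the determinant of the action. -/
theorem det_extAct_of_isLocalRing [Module.Finite A M] [Module.Projective A M] (R : Type u) [CommRing R]
    [IsLocalRing R] [Algebra A R] (x : R ⊗[A] B) :
    LinearMap.det (extAct i p R x) = PolLaw.detAct M R x := by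
  let P := p.baseChange R
  let I := i.baseChange R
  let K := LinearMap.ker P
  have hq : ∀ z, z - I (P z) ∈ K := fun z => by
    simp [K, P, I, baseChange_pi i p hpi]
  let q : R ⊗[A] (Fin n → A) →ₗ[R] K := (LinearMap.id - I ∘ₗ P).codRestrict K hq
  have hqK : q ∘ₗ K.subtype = LinearMap.id := LinearMap.ext fun k => Subtype.ext (by
    have hk : P (k : R ⊗[A] (Fin n → A)) = 0 := k.2
    simp [q, hk])
  have : Module.Projective R K := Module.Projective.of_split K.subtype q hqK
  have : Module.Finite R K :=
    Module.Finite.of_surjective q fun k => ⟨k, LinearMap.congr_fun hqK k⟩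
  have : Module.Free R K := by
    have := Module.free_of_flat_of_isLocalRing (R := R) (P := K)
    exact this
  have : Module.Free R (R ⊗[A] M) := Module.free_of_flat_of_isLocalRing
  let e : R ⊗[A] (Fin n → A) ≃ₗ[R] (R ⊗[A] M) × K :=
    LinearEquiv.ofLinearMap (P.prod q) (I.coprod K.subtype)
      (LinearMap.ext fun ⟨m, k⟩ => by
        have hk : P (k : R ⊗[A] (Fin n → A)) = 0 := k.2
        refine Prod.ext ?_ (Subtype.ext ?_)
        · simp [P, I, baseChange_pi i p hpi] at hk ⊢
        · simp [q, P, I, baseChange_pi i p hpi] at hk ⊢)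
      (LinearMap.ext fun z => by simp [q])
  rw [← LinearMap.det_conj (N := (R ⊗[A] M) × K) (extAct i p R x) e]
  have he : ↑e ∘ₗ extAct i p R x ∘ₗ ↑e.symm =
      LinearMap.prodMap (PolLaw.actEnd M R x) (LinearMap.id : K →ₗ[R] K) := by
    refine LinearMap.ext fun ⟨m, k⟩ => ?_
    have hk : P (k : R ⊗[A] (Fin n → A)) = 0 := k.2
    refine Prod.ext ?_ (Subtype.ext ?_)
    · simp [e, extAct_apply, P, I, baseChange_pi i p hpi] at hk ⊢
    · simp [e, q, extAct_apply, P, I, baseChange_pi i p hpi] at hk ⊢
  rw [he, LinearMap.det_prodMap, LinearMap.det_id, mul_one]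
  rfl

/-- Values in `S ⊗ A` agreeing over all local algebras agree. -/
theorem eq_of_local {S : Type u} [CommRing S] [Algebra A S] {y y' : S ⊗[A] A}
    (h : ∀ (P : Ideal S) [P.IsMaximal],
      ((Algebra.ofId S (Localization.AtPrime P)).restrictScalars A).toLinearMap.rTensor A y =
        ((Algebra.ofId S (Localization.AtPrime P)).restrictScalars A).toLinearMap.rTensor A y') :
    y = y' := by
  apply (TensorProduct.rid A S).injective
  rw [← sub_eq_zero]
  refine eq_zero_of_localization _ fun P hP => ?_
  have h' := congrArg (TensorProduct.rid A (Localization.AtPrime P)) (h P)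
  have e : ∀ z : S ⊗[A] A, TensorProduct.rid A (Localization.AtPrime P)
      (((Algebra.ofId S (Localization.AtPrime P)).restrictScalars A).toLinearMap.rTensor A z) =
      algebraMap S (Localization.AtPrime P) (TensorProduct.rid A S z) := by
    intro z
    induction z using TensorProduct.induction_on with
    | zero => simp
    | tmul a b => simp [Algebra.smul_def, Algebra.ofId_apply,
        IsScalarTower.algebraMap_apply A S (Localization.AtPrime P)]
    | add a b ha hb => simp only [map_add, ha, hb]
  rw [e, e] at h'
  rw [map_sub, h', sub_self]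

/-- Laws agreeing on all local algebras are equal. -/
theorem law_ext_local {F G : B →ₚₗ[A] A}
    (h : ∀ (S : Type u) [CommRing S] [IsLocalRing S] [Algebra A S] (x : S ⊗[A] B),
      F.toFun' S x = G.toFun' S x) : F = G := by
  refine law_ext_mvPolynomial fun n x => eq_of_local fun P hP => ?_
  rw [compat, compat]
  exact h _ _

/-- The existence and uniqueness of the determinant law. -/
theorem exists_detLaw [Module.Finite A M] [Module.Projective A M] :
    ∃ N : B →ₚₗ[A] A, PolLaw.IsMult N ∧ ∀ (S : Type u) [CommRing S] [IsLocalRing S] [Algebra A S]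
      (x : S ⊗[A] B), N.toFun' S x = PolLaw.detAct M S x ⊗ₜ[A] (1 : A) := by
  obtain ⟨n, p, i, -, -, hpi⟩ := Module.Finite.exists_comp_eq_id_of_projective A M
  refine ⟨{ toFun' := fun S iS iA x =>
              letI := toCommRing A S
              LinearMap.det (extAct i p S x) ⊗ₜ[A] (1 : A)
            isCompat' := fun {S} _ _ {S'} _ _ φ => ?_ }, fun S _ _ => ?_, fun S _ _ _ x => ?_⟩
  · letI := toCommRing A S
    letI := toCommRing A S'
    funext x
    simp only [Function.comp_apply, LinearMap.rTensor_tmul, AlgHom.toLinearMap_apply]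
    rw [PolLaw.rTensor_algHom_apply, det_extAct_map]
  · letI := toCommRing A S
    refine ⟨?_, fun x y => ?_⟩
    · show LinearMap.det (extAct i p S (1 : S ⊗[A] B)) ⊗ₜ[A] (1 : A) = 1
      rw [extAct_one i p, map_one]
      rfl
    · show LinearMap.det (extAct i p S (x * y)) ⊗ₜ[A] (1 : A) = _ * _
      rw [extAct_mul i p hpi, map_mul, Algebra.TensorProduct.tmul_mul_tmul, one_mul]
  · rw [← det_extAct_of_isLocalRing i p hpi S x]
    rename_i iS _ iA
    let ψ := @AlgHom.id A S _ _ iA
    have h := @det_extAct_map A _ B _ _ M _ _ _ _ n i p S S (toCommRing A S) iA iS iA ψ x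
    have hx : Algebra.TensorProduct.map ψ (AlgHom.id A B) x = x := by
      simp [ψ]
    rw [hx] at h
    exact (congrArg (· ⊗ₜ[A] (1 : A)) h).symm

end Groth.Agent.PLaw

namespace Groth.Agent.PLaw

variable {A : Type u} [CommRing A] {B : Type u} [CommRing B] [Algebra A B]
  {M : Type u} [AddCommGroup M] [Module A M] [Module B M] [IsScalarTower A B M]

/-- In constant rank `d` the determinant is homogeneous of degree `d` over local algebras. -/
theorem detAct_smul_local [Module.Finite A M] [Module.Projective A M] {d : ℕ}
    (hd : ∀ p : PrimeSpectrum A, Module.rankAtStalk M p = d) (R : Type u) [CommRing R] [IsLocalRing R]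
    [Algebra A R] (r : R) (x : R ⊗[A] B) :
    PolLaw.detAct M R (r • x) = r ^ d * PolLaw.detAct M R x := by
  have : Module.Free R (R ⊗[A] M) := Module.free_of_flat_of_isLocalRing
  have h := Module.rankAtStalk_baseChange (R := A) (M := M) (IsLocalRing.closedPoint R)
  rw [hd, Module.rankAtStalk_eq_finrank_of_free] at h
  unfold PolLaw.detAct
  rw [map_smul, LinearMap.det_smul]
  congr 2

theorem isHomog_of_local [Module.Finite A M] [Module.Projective A M] {d : ℕ}
    (hd : ∀ p : PrimeSpectrum A, Module.rankAtStalk M p = d) {N : B →ₚₗ[A] A}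
    (hN : ∀ (S : Type u) [CommRing S] [IsLocalRing S] [Algebra A S] (x : S ⊗[A] B),
      N.toFun' S x = PolLaw.detAct M S x ⊗ₜ[A] (1 : A)) :
    PolLaw.IsHomog N d := by
  intro S _ _ s x
  letI := toCommRing A S
  refine eq_of_local fun P hP => ?_
  let φ : S →ₐ[A] Localization.AtPrime P := (Algebra.ofId S (Localization.AtPrime P)).restrictScalars A
  have hsm : ∀ {N' : Type u} [AddCommGroup N'] [Module A N'] (c : S) (z : S ⊗[A] N'),
      φ.toLinearMap.rTensor N' (c • z) = φ c • φ.toLinearMap.rTensor N' z := by
    intro N' _ _ c z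
    induction z using TensorProduct.induction_on with
    | zero => simp
    | tmul a b => simp [TensorProduct.smul_tmul']
    | add a b ha hb => simp only [smul_add, map_add, ha, hb]
  change φ.toLinearMap.rTensor A _ = φ.toLinearMap.rTensor A _
  rw [compat, hsm, hsm, compat, hN, hN, detAct_smul_local hd, TensorProduct.smul_tmul', map_pow,
    smul_eq_mul]

end Groth.Agent.PLaw
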