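import Groth.Agent.PLaw.PolyTest
import Groth.Prelude.Def_PolLaw2
import Mathlib.RingTheory.Polynomial.IsIntegral
import Mathlib.RingTheory.MvPolynomial.Basic
import Mathlib.Algebra.MvPolynomial.Equiv
import Mathlib.FieldTheory.IsAlgClosed.Spectrum
import Mathlib.FieldTheory.IsAlgClosed.AlgebraicClosure
import Mathlib.LinearAlgebra.Matrix.Charpoly.Eigs
import Mathlib.LinearAlgebra.Matrix.Charpoly.LinearMap
import Mathlib.LinearAlgebra.Determinant
import Mathlib.LinearAlgebra.Charpoly.BaseChange
import Mathlib.RingTheory.Localization.FractionRing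

/-!
# The determinant law over a normal base
-/

set_option linter.style.haveILetI false

universe u

open scoped TensorProduct

namespace Groth.Agent.PLaw

theorem isIntegrallyClosed_mvPolynomial (A : Type u) [CommRing A] [IsDomain A] [IsIntegrallyClosed A] :
    ∀ n, IsIntegrallyClosed (MvPolynomial (Fin n) A)
  | 0 => IsIntegrallyClosed.of_equiv (MvPolynomial.isEmptyRingEquiv A (Fin 0)).symm
  | n + 1 => by
    haveI := isIntegrallyClosed_mvPolynomial A n
    exact IsIntegrallyClosed.of_equiv (MvPolynomial.finSuccEquiv A n).toRingEquiv.symm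

/-- The determinant of an endomorphism killed by a monic polynomial over `R` is integral over `R`. -/
theorem isIntegral_det_of_aeval_eq_zero {R L V : Type u} [CommRing R] [Field L] [Algebra R L]
    [AddCommGroup V] [Module L V] [Module.Finite L V] [Module R V] [IsScalarTower R L V]
    (f : Module.End L V) {p : Polynomial R} (hp : p.Monic) (h : Polynomial.aeval f p = 0) :
    IsIntegral R (LinearMap.det f) := by
  classical
  let b := Module.Free.chooseBasis L V
  let K' := AlgebraicClosure L
  let Mx := LinearMap.toMatrixAlgEquiv b f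
  let Mx' : Matrix (Module.Free.ChooseBasisIndex L V) (Module.Free.ChooseBasisIndex L V) K' :=
    (IsScalarTower.toAlgHom R L K').mapMatrix Mx
  have h1 : Polynomial.aeval Mx p = 0 := by
    have e := Polynomial.aeval_algHom_apply
      ((LinearMap.toMatrixAlgEquiv b).toAlgHom.restrictScalars R) f p
    rw [h, map_zero] at e
    exact e
  have h2 : Polynomial.aeval Mx' p = 0 := by
    rw [Polynomial.aeval_algHom_apply, h1, map_zero]
  have h3 : IsIntegral R Mx'.det := by
    rw [Matrix.det_eq_prod_roots_charpoly]
    refine IsIntegral.multiset_prod fun μ hμ => ⟨p, hp, ?_⟩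
    rw [← Polynomial.aeval_def]
    have hspec : μ ∈ spectrum K' Mx' :=
      Matrix.mem_spectrum_iff_isRoot_charpoly.mpr (Polynomial.isRoot_of_mem_roots hμ)
    haveI : Nontrivial (Matrix (Module.Free.ChooseBasisIndex L V) (Module.Free.ChooseBasisIndex L V) K') := by
      rw [← not_subsingleton_iff_nontrivial]
      intro hsub
      rw [spectrum.of_subsingleton] at hspec
      exact hspec
    have := spectrum.subset_polynomial_aeval Mx' (p.map (algebraMap R K')) ⟨μ, hspec, rfl⟩
    rw [Polynomial.aeval_map_algebraMap, h2, spectrum.zero_eq, Set.mem_singleton_iff] at this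
    simp only [Polynomial.eval_map_algebraMap] at this
    exact this
  rw [← LinearMap.det_toMatrix b]
  rw [← AlgHom.map_det] at h3
  exact (isIntegral_algHom_iff (IsScalarTower.toAlgHom R L K') (RingHom.injective _)).mp h3

variable {A B M : Type u} [CommRing A] [CommRing B] [Algebra A B] [AddCommGroup M] [Module A M]
  [Module B M] [IsScalarTower A B M]

theorem map_comp_left {S₁ S₂ S₃ : Type u} [CommRing S₁] [Algebra A S₁] [CommRing S₂] [Algebra A S₂]
    [CommRing S₃] [Algebra A S₃] (g : S₂ →ₐ[A] S₃) (h : S₁ →ₐ[A] S₂) (x : S₁ ⊗[A] B) :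
    Algebra.TensorProduct.map (g.comp h) (AlgHom.id A B) x =
      Algebra.TensorProduct.map g (AlgHom.id A B) (Algebra.TensorProduct.map h (AlgHom.id A B) x) := by
  induction x using TensorProduct.induction_on with
  | zero => simp
  | tmul s b => simp
  | add u v hu hv => simp only [map_add, hu, hv]

/-- The action commutes with base change. -/
theorem actEnd_conj {S S' : Type u} [CommRing S] [Algebra A S] [CommRing S'] [Algebra A S']
    [Algebra S S'] [IsScalarTower A S S'] (x : S ⊗[A] B) :
    PolLaw.actEnd M S' (Algebra.TensorProduct.map (IsScalarTower.toAlgHom A S S') (AlgHom.id A B) x) =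
      (TensorProduct.AlgebraTensorModule.cancelBaseChange A S S' S' M).conj
        ((PolLaw.actEnd M S x).baseChange S') := by
  let φ : S →ₐ[A] S' := IsScalarTower.toAlgHom A S S'
  let e := TensorProduct.AlgebraTensorModule.cancelBaseChange A S S' S' M
  have key : ∀ (s' : S') (y : S ⊗[A] M), e (s' ⊗ₜ[S] y) = s' • φ.toLinearMap.rTensor M y := by
    intro s' y
    induction y using TensorProduct.induction_on with
    | zero => simp
    | tmul s m =>
      simp [e, φ, TensorProduct.smul_tmul', Algebra.smul_def, mul_comm]
    | add u v hu hv => simp only [TensorProduct.tmul_add, map_add, smul_add, hu, hv]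
  refine LinearMap.ext fun z => ?_
  obtain ⟨w, rfl⟩ := e.surjective z
  rw [LinearEquiv.conj_apply_apply, LinearEquiv.symm_apply_apply]
  induction w using TensorProduct.induction_on with
  | zero => simp
  | tmul s' y =>
    rw [LinearMap.baseChange_tmul, key, key, map_smul, PolLaw.rTensor_actEnd]
  | add u v hu hv => simp only [map_add, hu, hv]

theorem det_actEnd_map {S S' : Type u} [CommRing S] [Algebra A S] [CommRing S'] [Algebra A S']
    [Algebra S S'] [IsScalarTower A S S'] [Module.Free S (S ⊗[A] M)] [Module.Finite S (S ⊗[A] M)]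
    (x : S ⊗[A] B) :
    LinearMap.det (PolLaw.actEnd M S'
        (Algebra.TensorProduct.map (IsScalarTower.toAlgHom A S S') (AlgHom.id A B) x)) =
      algebraMap S S' (LinearMap.det (PolLaw.actEnd M S x)) := by
  rw [actEnd_conj, LinearEquiv.conj_apply, LinearMap.comp_assoc, LinearMap.det_conj,
    LinearMap.det_baseChange]

/-- The determinant of the action on a finite module lies in the integral closure. -/
theorem isIntegral_det_actEnd {S L : Type u} [CommRing S] [Algebra A S] [Field L] [Algebra A L]
    [Algebra S L] [IsScalarTower A S L] [Module.Finite A M] (x : S ⊗[A] B) :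
    IsIntegral S (LinearMap.det (PolLaw.actEnd M L
      (Algebra.TensorProduct.map (IsScalarTower.toAlgHom A S L) (AlgHom.id A B) x))) := by
  rw [actEnd_conj, LinearEquiv.conj_apply, LinearMap.comp_assoc, LinearMap.det_conj]
  obtain ⟨p, hp, h⟩ := LinearMap.exists_monic_and_aeval_eq_zero S (PolLaw.actEnd M S x)
  refine isIntegral_det_of_aeval_eq_zero (R := S) _ hp ?_
  have e : Polynomial.aeval ((Module.End.baseChangeHom S L (S ⊗[A] M)) (PolLaw.actEnd M S x)) p = 0 := by
    rw [Polynomial.aeval_algHom_apply, h, map_zero]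
  exact e

variable [IsDomain A]

/-- The determinant law over a normal domain. -/
theorem exists_detLaw_normal [IsIntegrallyClosed A] [Module.Finite A M] (d : ℕ)
    (hd : Module.finrank (FractionRing A) (FractionRing A ⊗[A] M) = d) :
    ∃! N : PolLaw.MulLaw A B A d, ∀ (n : ℕ) (x : MvPolynomial (Fin n) A ⊗[A] B),
      algebraMap (MvPolynomial (Fin n) A) (FractionRing (MvPolynomial (Fin n) A))
          (TensorProduct.rid A (MvPolynomial (Fin n) A) (N.law.toFun' (MvPolynomial (Fin n) A) x)) =
        LinearMap.det (PolLaw.actEnd M (FractionRing (MvPolynomial (Fin n) A))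
          (Algebra.TensorProduct.map
            (IsScalarTower.toAlgHom A (MvPolynomial (Fin n) A) (FractionRing (MvPolynomial (Fin n) A)))
            (AlgHom.id A B) x)) := by
  classical
  let K := FractionRing A
  let ι : ∀ n : ℕ, MvPolynomial (Fin n) A →ₐ[A] MvPolynomial (Fin n) K :=
    fun n => MvPolynomial.mapAlgHom (Algebra.ofId A K)
  have hι : ∀ n, Function.Injective (ι n) := fun n =>
    MvPolynomial.map_injective _ (IsFractionRing.injective A K)
  have hfree : ∀ n, Module.Free (MvPolynomial (Fin n) K) (MvPolynomial (Fin n) K ⊗[A] M) ∧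
      Module.Finite (MvPolynomial (Fin n) K) (MvPolynomial (Fin n) K ⊗[A] M) ∧
      Module.finrank (MvPolynomial (Fin n) K) (MvPolynomial (Fin n) K ⊗[A] M) = d := fun n => by
    let e := TensorProduct.AlgebraTensorModule.cancelBaseChange A K (MvPolynomial (Fin n) K)
      (MvPolynomial (Fin n) K) M
    exact ⟨Module.Free.of_equiv e, Module.Finite.equiv e, by
      rw [← e.finrank_eq, Module.finrank_baseChange, hd]⟩
  haveI := fun n => (hfree n).1
  haveI := fun n => (hfree n).2.1
  let D : ∀ n, MvPolynomial (Fin n) A ⊗[A] B → MvPolynomial (Fin n) K := fun n x =>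
    LinearMap.det (M := MvPolynomial (Fin n) K ⊗[A] M) (PolLaw.actEnd M (MvPolynomial (Fin n) K)
      (Algebra.TensorProduct.map (ι n) (AlgHom.id A B) x))
  let L : ℕ → Type u := fun n => FractionRing (MvPolynomial (Fin n) A)
  -- the field of fractions receives `K[t]`
  have key : ∀ n (x : MvPolynomial (Fin n) A ⊗[A] B), ∃ a : MvPolynomial (Fin n) A, ι n a = D n x ∧
      algebraMap (MvPolynomial (Fin n) A) (L n) a = LinearMap.det (PolLaw.actEnd M (L n)
        (Algebra.TensorProduct.map (IsScalarTower.toAlgHom A (MvPolynomial (Fin n) A) (L n))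
          (AlgHom.id A B) x)) := by
    intro n x
    haveI := isIntegrallyClosed_mvPolynomial A n
    have hinjA : Function.Injective (algebraMap A (L n)) := by
      rw [IsScalarTower.algebraMap_eq A (MvPolynomial (Fin n) A) (L n)]
      exact (IsFractionRing.injective (MvPolynomial (Fin n) A) (L n)).comp (MvPolynomial.C_injective _ _)
    let κ : K →ₐ[A] L n := IsFractionRing.liftAlgHom (g := Algebra.ofId A (L n)) hinjA
    let ψ : MvPolynomial (Fin n) K →+* L n := MvPolynomial.eval₂Hom κ.toRingHom
      fun i => algebraMap (MvPolynomial (Fin n) A) (L n) (MvPolynomial.X i)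
    letI : Algebra (MvPolynomial (Fin n) K) (L n) := ψ.toAlgebra
    haveI : IsScalarTower A (MvPolynomial (Fin n) K) (L n) := IsScalarTower.of_algebraMap_eq fun a => by
      rw [RingHom.algebraMap_toAlgebra]
      simp [ψ, IsScalarTower.algebraMap_apply A K (MvPolynomial (Fin n) K)]
    have hψ : (IsScalarTower.toAlgHom A (MvPolynomial (Fin n) K) (L n)).comp (ι n) =
        IsScalarTower.toAlgHom A (MvPolynomial (Fin n) A) (L n) := MvPolynomial.algHom_ext fun i => by
      change ψ (ι n (MvPolynomial.X i)) = _
      simp [ψ, ι]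
    have hdet : LinearMap.det (PolLaw.actEnd M (L n)
        (Algebra.TensorProduct.map (IsScalarTower.toAlgHom A (MvPolynomial (Fin n) A) (L n))
          (AlgHom.id A B) x)) = ψ (D n x) := by
      rw [← hψ, map_comp_left, det_actEnd_map]
      rfl
    obtain ⟨a, ha⟩ := IsIntegrallyClosed.isIntegral_iff.mp
      (isIntegral_det_actEnd (A := A) (S := MvPolynomial (Fin n) A) (L := L n) (M := M) x)
    refine ⟨a, ?_, ha⟩
    have hψinj : Function.Injective ψ := by
      refine (injective_iff_map_eq_zero ψ).mpr fun q hq => ?_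
      have hden : ∀ q : MvPolynomial (Fin n) K, ∃ c : A, c ≠ 0 ∧ ∃ r : MvPolynomial (Fin n) A,
          MvPolynomial.C (algebraMap A K c) * q = ι n r := by
        intro q
        induction q using MvPolynomial.induction_on with
        | C k =>
          obtain ⟨a, b, hb, hk⟩ := IsFractionRing.div_surjective A k
          refine ⟨b, nonZeroDivisors.ne_zero hb, MvPolynomial.C a, ?_⟩
          rw [← map_mul, ← hk, mul_div_cancel₀]
          · simp [ι]
          · exact IsFractionRing.to_map_ne_zero_of_mem_nonZeroDivisors hb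
        | add u v hu hv =>
          obtain ⟨c, hc, r, hr⟩ := hu
          obtain ⟨c', hc', r', hr'⟩ := hv
          refine ⟨c * c', mul_ne_zero hc hc', MvPolynomial.C c' * r + MvPolynomial.C c * r', ?_⟩
          simp only [map_add, map_mul, ← hr, ← hr']
          simp [ι]
          ring
        | mul_X u i hu =>
          obtain ⟨c, hc, r, hr⟩ := hu
          refine ⟨c, hc, r * MvPolynomial.X i, ?_⟩
          rw [← mul_assoc, hr, map_mul]
          simp [ι]
      obtain ⟨c, hc, r, hr⟩ := hden q
      have h0 := congrArg ψ hr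
      rw [map_mul, hq, mul_zero] at h0
      have hr0 : r = 0 := IsFractionRing.injective (MvPolynomial (Fin n) A) (L n)
        ((AlgHom.congr_fun hψ r).symm.trans (h0.symm.trans (map_zero _).symm))
      rw [hr0, map_zero, mul_eq_zero] at hr
      exact hr.resolve_left fun h => hc (IsFractionRing.injective A K
        (MvPolynomial.C_injective _ _ (h.trans (map_zero MvPolynomial.C).symm) |>.trans (map_zero _).symm))
    exact hψinj (by
      rw [← hdet, ← ha]
      exact AlgHom.congr_fun hψ a)
  choose T hT hTL using key
  have hnat : ∀ n m (φ : MvPolynomial (Fin n) A →ₐ[A] MvPolynomial (Fin m) A) x,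
      φ (T n x) = T m (Algebra.TensorProduct.map φ (AlgHom.id A B) x) := by
    intro n m φ x
    let φK : MvPolynomial (Fin n) K →ₐ[K] MvPolynomial (Fin m) K :=
      MvPolynomial.aeval fun i => ι m (φ (MvPolynomial.X i))
    letI : Algebra (MvPolynomial (Fin n) K) (MvPolynomial (Fin m) K) := φK.toRingHom.toAlgebra
    haveI : IsScalarTower A (MvPolynomial (Fin n) K) (MvPolynomial (Fin m) K) :=
      IsScalarTower.of_algebraMap_eq fun a => by
        rw [RingHom.algebraMap_toAlgebra]
        exact (AlgHom.commutes (φK.restrictScalars A) a).symm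
    have hcomp : (IsScalarTower.toAlgHom A (MvPolynomial (Fin n) K) (MvPolynomial (Fin m) K)).comp (ι n) =
        (ι m).comp φ := MvPolynomial.algHom_ext fun i => by
      change φK (ι n (MvPolynomial.X i)) = ι m (φ (MvPolynomial.X i))
      simp [φK, ι]
    apply hι m
    rw [hT]
    change _ = LinearMap.det _
    rw [← map_comp_left, ← hcomp, map_comp_left, det_actEnd_map, ← AlgHom.comp_apply,
      ← hcomp, AlgHom.comp_apply, hT]
    rfl
  let Td : PolyData A B A := ⟨fun n x => T n x ⊗ₜ[A] (1 : A), fun n m φ => funext fun x => by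
    simp only [Function.comp_apply, LinearMap.rTensor_tmul, AlgHom.toLinearMap_apply]
    rw [PolLaw.rTensor_algHom_apply, hnat]⟩
  have hN : ∀ n x, Td.law.toFun' (MvPolynomial (Fin n) A) x = T n x ⊗ₜ[A] (1 : A) :=
    fun n x => Td.law_toFun' n x
  have hone : ∀ n, T n 1 = 1 := fun n => hι n (by
    rw [hT, map_one]
    simp only [D, map_one])
  have hmul : ∀ n x y, T n (x * y) = T n x * T n y := fun n x y => hι n (by
    rw [hT, map_mul, hT, hT]
    simp only [D, map_mul])
  have hsmul : ∀ n (s : MvPolynomial (Fin n) A) x, T n (s • x) = s ^ d * T n x := fun n s x => hι n (by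
    rw [hT, map_mul, map_pow, hT]
    simp only [D]
    have : Algebra.TensorProduct.map (ι n) (AlgHom.id A B) (s • x) =
        ι n s • Algebra.TensorProduct.map (ι n) (AlgHom.id A B) x := by
      induction x using TensorProduct.induction_on with
      | zero => simp
      | tmul r b => simp [TensorProduct.smul_tmul']
      | add u v hu hv => simp only [smul_add, map_add, hu, hv]
    rw [this, map_smul, LinearMap.det_smul, (hfree n).2.2])
  have hsmulT : ∀ {S S' : Type u} [CommSemiring S] [Algebra A S] [CommSemiring S'] [Algebra A S']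
      {N' : Type u} [AddCommGroup N'] [Module A N'] (φ : S →ₐ[A] S') (c : S) (z : S ⊗[A] N'),
      φ.toLinearMap.rTensor N' (c • z) = φ c • φ.toLinearMap.rTensor N' z := by
    intro S S' _ _ _ _ N' _ _ φ c z
    induction z using TensorProduct.induction_on with
    | zero => simp
    | tmul a b => simp [TensorProduct.smul_tmul']
    | add a b ha hb => simp only [smul_add, map_add, ha, hb]
  have homog : PolLaw.IsHomog Td.law d := by
    intro S _ _ s x
    obtain ⟨n, ψ, p, rfl⟩ := PolynomialLaw.exists_lift x
    let Ψ : MvPolynomial (Fin (n + 1)) A →ₐ[A] S :=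
      MvPolynomial.aeval (Fin.snoc (fun i => ψ (MvPolynomial.X i)) s)
    have hΨ : Ψ.comp (MvPolynomial.rename Fin.castSucc) = ψ :=
      MvPolynomial.algHom_ext fun i => by simp [Ψ]
    rw [← hΨ, AlgHom.comp_toLinearMap, LinearMap.rTensor_comp_apply,
      show s = Ψ (MvPolynomial.X (Fin.last n)) by simp [Ψ], ← hsmulT, ← compat, ← compat, hN, hN, hsmul]
    rw [← smul_eq_mul, ← TensorProduct.smul_tmul', hsmulT, map_pow]
  have mult : PolLaw.IsMult Td.law := by
    intro S _ _
    refine ⟨?_, fun x y => ?_⟩
    · obtain ⟨n, ψ, p, -⟩ := PolynomialLaw.exists_lift (1 : S ⊗[A] B)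
      rw [show (1 : S ⊗[A] B) = ψ.toLinearMap.rTensor B 1 by
        rw [PolLaw.rTensor_algHom_apply, map_one], ← compat, hN, hone]
      simp [Algebra.TensorProduct.one_def]
    · obtain ⟨n, ψ, p, q, rfl, rfl⟩ := exists_lift₂ x y
      rw [PolLaw.rTensor_algHom_apply, PolLaw.rTensor_algHom_apply, ← map_mul,
        ← PolLaw.rTensor_algHom_apply, ← PolLaw.rTensor_algHom_apply, ← PolLaw.rTensor_algHom_apply,
        ← compat, ← compat, ← compat, hN, hN, hN, hmul]
      simp [Algebra.TensorProduct.tmul_mul_tmul]
  refine ⟨⟨Td.law, homog, mult⟩, fun n x => ?_, fun N' hN' => ?_⟩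
  · simp only [hN, TensorProduct.rid_tmul, one_smul]
    exact hTL n x
  · have e : N'.law = Td.law := law_ext_mvPolynomial fun n x =>
      (TensorProduct.rid A _).injective (IsFractionRing.injective (MvPolynomial (Fin n) A) (L n) (by
        rw [hN' n x, hN, TensorProduct.rid_tmul, one_smul, hTL]))
    cases N'
    simp only at e
    subst e
    rfl

end Groth.Agent.PLaw
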