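import Groth.Agent.PLaw.GammaTS

/-!
# `TS` is the divided power algebra for flat algebras, or when `d!` is invertible
-/

universe u

open scoped TensorProduct

namespace Groth.Agent.PLaw

section Congr

variable {A : Type u} [CommRing A] {B : Type u} [CommRing B] [Algebra A B] {P : Type u} [CommRing P]
  [Algebra A P] {d : ℕ} {κ : Type u} (e : Module.Basis κ A P) {π : P →ₐ[A] B}
  (hπ : Function.Surjective π)

open Classical in
theorem cf_tpow_vec {n : ℕ} (b : Fin n → P) (s : Finset (Fin n)) (α : Fin n →₀ ℕ) :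
    cf α ((SymTen.tpowLaw A P d).law.toFun' _ (gen A b s)) =
      if α.support ⊆ s then orb d b α else 0 := by
  rw [gen, tpowLaw_sum, map_sum]
  have hterm : ∀ c : Fin d → Fin n,
      cf α ((∏ i, (MvPolynomial.X (c i) : MvPolynomial (Fin n) A)) ⊗ₜ[A]
        PiTensorProduct.tprod A fun i => b (c i)) =
      if cnt c = α then PiTensorProduct.tprod A fun i => b (c i) else 0 := by
    intro c
    have : (∏ i, (MvPolynomial.X (c i) : MvPolynomial (Fin n) A)) = MvPolynomial.monomial (cnt c) 1 := by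
      simp only [MvPolynomial.X, cnt, ← MvPolynomial.monomial_sum_one]
    rw [this, cf_monomial_tmul, one_smul]
  simp only [hterm, ← Finset.sum_filter]
  by_cases hα : α.support ⊆ s
  · rw [if_pos hα, orb]
    refine Finset.sum_congr (Finset.ext fun c => ?_) fun _ _ => rfl
    simp only [Finset.mem_filter, Fintype.mem_piFinset, mem_words, and_iff_right_iff_imp]
    exact fun h i => hα (h ▸ mem_support_cnt i)
  · rw [if_neg hα]
    refine Finset.sum_eq_zero fun c hc => absurd ?_ hα
    simp only [Finset.mem_filter, Fintype.mem_piFinset] at hc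
    rw [← hc.2]
    intro k hk
    obtain ⟨i, rfl⟩ := exists_of_mem_support_cnt hk
    exact hc.1 i

theorem map_orb {n : ℕ} {N : Type*} [AddCommGroup N] [Module A N] {N' : Type*} [AddCommGroup N']
    [Module A N'] (j : N →ₗ[A] N') (b : Fin n → N) (α : Fin n →₀ ℕ) :
    PiTensorProduct.map (fun _ : Fin d => j) (orb d b α) = orb d (fun k => j (b k)) α := by
  simp only [orb, map_sum, PiTensorProduct.map_tprod]

include hπ in
/-- Symmetric tensors pushed along maps congruent modulo the kernel differ by a relation. -/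
theorem sub_mem_relIdeal {n : ℕ} (j j' : (Fin n →₀ A) →ₗ[A] P)
    (hjj : π.toLinearMap ∘ₗ j = π.toLinearMap ∘ₗ j') {u₀ : ⨂[A] _ : Fin d, Fin n →₀ A}
    (hu₀ : u₀ ∈ symTen A (Fin n →₀ A) d) (t : SymTen.TS A P d)
    (ht : (t : ⨂[A] _ : Fin d, P) =
      PiTensorProduct.map (fun _ : Fin d => j) u₀ - PiTensorProduct.map (fun _ : Fin d => j') u₀) :
    t ∈ relIdeal e π hπ d := by
  classical
  let D : (⨂[A] _ : Fin d, Fin n →₀ A) →ₗ[A] (⨂[A] _ : Fin d, P) :=
    PiTensorProduct.map (fun _ : Fin d => j) - PiTensorProduct.map (fun _ : Fin d => j')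
  suffices h : D u₀ ∈ (relSub e π d).map (SymTen.TS A P d).val.toLinearMap by
    obtain ⟨r, hr, hrt⟩ := h
    have : r = t := Subtype.ext (hrt.trans ht.symm)
    exact this ▸ hr
  rw [symTen_eq_span Finsupp.basisSingleOne] at hu₀
  refine Submodule.span_le (p := ((relSub e π d).map (SymTen.TS A P d).val.toLinearMap).comap D)
    |>.mpr ?_ hu₀
  rintro _ ⟨α, rfl⟩
  let b : Fin n → P := fun k => j (Finsupp.basisSingleOne k)
  let b' : Fin n → P := fun k => j' (Finsupp.basisSingleOne k)
  let x := gen A b' (Finset.univ : Finset (Fin n))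
  let w := gen A (fun k => b k - b' k) (Finset.univ : Finset (Fin n))
  have hw : π.toLinearMap.lTensor _ w = 0 := by
    simp only [w, gen, map_sum, LinearMap.lTensor_tmul]
    refine Finset.sum_eq_zero fun k _ => ?_
    have : π.toLinearMap (b k) = π.toLinearMap (b' k) :=
      LinearMap.congr_fun hjj (Finsupp.basisSingleOne k)
    rw [map_sub, this, sub_self, TensorProduct.tmul_zero]
  have hxw : x + w = gen A b Finset.univ := by
    simp only [x, w, gen, ← Finset.sum_add_distrib, ← TensorProduct.tmul_add, add_sub_cancel]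
  refine ⟨_, Submodule.subset_span ⟨n, x, w, α, hw, rfl⟩, ?_⟩
  simp only [map_sub, ← cf_lTensor, tauTS_val, hxw, x, cf_tpow_vec, Finset.subset_univ, if_true, D,
    LinearMap.sub_apply, map_orb]
  rfl

end Congr

section Iso

variable {A : Type u} [CommRing A] {B : Type u} [CommRing B] [Algebra A B] {d : ℕ}

/-- There are a divided power algebra and a comparison map. -/
theorem exists_comparison :
    ∃ (C : Type u) (_ : CommRing C) (_ : Algebra A C) (γ : PolLaw.MulLaw A B C d)
      (φ : C →ₐ[A] SymTen.TS A B d), PolLaw.IsGammaD γ ∧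
      ∀ (S : Type u) [CommSemiring S] [Algebra A S] (x : S ⊗[A] B),
        ((SymTen.TS A B d).val.comp φ).toLinearMap.lTensor S (γ.law.toFun' S x) =
          (SymTen.tpowLaw A B d).law.toFun' S x := by
  let π := stdπ A B
  let e := stdBasis A B
  have hπ := stdπ_surjective A B
  have hvan : relSub e π d ≤ LinearMap.ker (SymTen.TSmap A d π).toLinearMap := by
    rw [relSub, Submodule.span_le]
    rintro _ ⟨n, x, w, α, hw, rfl⟩
    rw [SetLike.mem_coe, LinearMap.mem_ker]
    apply Subtype.ext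
    change ((SymTen.tmap A d π).toLinearMap ∘ₗ (SymTen.TS A _ d).val.toLinearMap) _ = 0
    rw [← cf_lTensor, LinearMap.lTensor_comp, LinearMap.comp_apply, map_sub, tauTS_val, tauTS_val,
      map_sub, lTensor_tmap_tpowLaw, lTensor_tmap_tpowLaw, map_add, hw, add_zero, sub_self, map_zero]
  let φ : GammaPres e π hπ d →ₐ[A] SymTen.TS A B d :=
    Ideal.Quotient.liftₐ _ (SymTen.TSmap A d π) fun t ht => LinearMap.mem_ker.mp (hvan ht)
  refine ⟨GammaPres e π hπ d, inferInstance, inferInstance, gammaLaw e π hπ d, φ,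
    isGammaD_gammaLaw e π hπ, fun S _ _ x => ?_⟩
  obtain ⟨x, rfl⟩ := LinearMap.lTensor_surjective S (g := π.toLinearMap) hπ x
  rw [gammaLaw_apply, ← lTensor_tmap_tpowLaw, ← tauTS_val e, ← LinearMap.comp_apply,
    ← LinearMap.lTensor_comp, ← LinearMap.comp_apply, ← LinearMap.lTensor_comp]
  rfl

/-- For a flat algebra the comparison map is bijective. -/
theorem comparison_bijective_of_flat [Module.Flat A B] {C : Type u} [CommRing C] [Algebra A C]
    (γ : PolLaw.MulLaw A B C d) (hγ : PolLaw.IsGammaD γ) (φ : C →ₐ[A] SymTen.TS A B d)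
    (hφ : ∀ (S : Type u) [CommSemiring S] [Algebra A S] (x : S ⊗[A] B),
      ((SymTen.TS A B d).val.comp φ).toLinearMap.lTensor S (γ.law.toFun' S x) =
        (SymTen.tpowLaw A B d).law.toFun' S x) :
    Function.Bijective φ := by
  have hπ := stdπ_surjective A B
  obtain ⟨q, hqs, hker, hq⟩ := exists_presentation (stdBasis A B) (stdπ A B) hπ γ hγ
  have hφq := val_comp_pres (stdBasis A B) γ hφ hq
  constructor
  · rw [injective_iff_map_eq_zero]
    intro c hc
    obtain ⟨t, rfl⟩ := hqs c
    suffices h : t ∈ relIdeal (stdBasis A B) (stdπ A B) hπ d by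
      rw [← hker, RingHom.mem_ker] at h
      exact h
    haveI : Module.Free A (MvPolynomial B A) := Module.Free.of_basis (stdBasis A B)
    obtain ⟨k, g, u₀, hu₀, hgu⟩ :=
      exists_lift_symTen (A := A) (M := MvPolynomial B A) (TS_mem_iff.mp t.2)
    have h0 : PiTensorProduct.map (fun _ : Fin d => (stdπ A B).toLinearMap ∘ₗ g) u₀ = 0 := by
      rw [PiTensorProduct.map_comp, LinearMap.comp_apply, hgu, ← tmap_toLinearMap]
      exact congrArg Subtype.val ((AlgHom.congr_fun hφq t).symm.trans hc)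
    obtain ⟨k', a, y, hy, ha⟩ := exists_kill ((stdπ A B).toLinearMap ∘ₗ g) ({()} : Finset Unit)
      (fun _ => u₀) fun _ _ => h0
    obtain ⟨y', hy'⟩ := Module.projective_lifting_property (stdπ A B).toLinearMap y hπ
    refine sub_mem_relIdeal (stdBasis A B) hπ g (y' ∘ₗ a) ?_ hu₀ t ?_
    · rw [hy, ← LinearMap.comp_assoc, hy']
    · rw [PiTensorProduct.map_comp, LinearMap.comp_apply, ha () (Finset.mem_singleton_self _),
        map_zero, sub_zero, hgu]
  · intro y
    obtain ⟨s, hs, hsy⟩ := exists_symTen_map_eq (A := A) (stdπ A B).toLinearMap hπ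
      (TS_mem_iff.mp y.2)
    refine ⟨q ⟨s, TS_mem_iff.mpr hs⟩, ?_⟩
    rw [← AlgHom.comp_apply, hφq]
    exact Subtype.ext ((LinearMap.congr_fun (tmap_toLinearMap (stdπ A B)) s).trans hsy)

/-- If `d!` is invertible the comparison map is bijective. -/
theorem comparison_bijective_of_isUnit (h : IsUnit ((d.factorial : ℕ) : A)) {C : Type u} [CommRing C]
    [Algebra A C] (γ : PolLaw.MulLaw A B C d) (hγ : PolLaw.IsGammaD γ)
    (φ : C →ₐ[A] SymTen.TS A B d)
    (hφ : ∀ (S : Type u) [CommSemiring S] [Algebra A S] (x : S ⊗[A] B),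
      ((SymTen.TS A B d).val.comp φ).toLinearMap.lTensor S (γ.law.toFun' S x) =
        (SymTen.tpowLaw A B d).law.toFun' S x) :
    Function.Bijective φ := by
  obtain ⟨h1, h2⟩ := factorial_smul_comparison γ hγ φ hφ
  obtain ⟨v, hv⟩ := h.exists_left_inv
  constructor
  · rw [injective_iff_map_eq_zero]
    intro x hx
    have := h1 x hx
    rw [← Nat.cast_smul_eq_nsmul A] at this
    simpa [smul_smul, hv] using congrArg (v • ·) this
  · intro y
    obtain ⟨x, hx⟩ := h2 y
    refine ⟨v • x, ?_⟩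
    rw [AlgHom.toRingHom_eq_coe] at hx
    rw [map_smul, show φ x = d.factorial • y from hx, ← Nat.cast_smul_eq_nsmul A, smul_smul, hv,
      one_smul]

theorem isGammaD_postcomp {C C' : Type u} [CommRing C] [Algebra A C] [CommRing C'] [Algebra A C']
    {γ : PolLaw.MulLaw A B C d} (hγ : PolLaw.IsGammaD γ) (φ : C ≃ₐ[A] C') :
    PolLaw.IsGammaD (PolLaw.MulLaw.postcomp φ.toAlgHom γ) := by
  intro D _ _ F
  obtain ⟨f, hf, huniq⟩ := hγ D F
  have hcomp : ∀ g : C' →ₐ[A] D,
      PolLaw.postcomp g.toLinearMap (PolLaw.MulLaw.postcomp φ.toAlgHom γ).law =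
        PolLaw.postcomp (g.comp φ.toAlgHom).toLinearMap γ.law := fun g =>
    PolynomialLaw.ext (by
      funext S i1 i2 x
      rw [postcomp_apply, postcomp_apply, AlgHom.comp_toLinearMap, LinearMap.lTensor_comp,
        LinearMap.comp_apply]
      rfl)
  refine ⟨f.comp φ.symm.toAlgHom, ?_, fun g hg => ?_⟩
  · simp only
    rw [hcomp, AlgHom.comp_assoc]
    simpa using hf
  · have := huniq (g.comp φ.toAlgHom) ((hcomp g).symm.trans hg)
    rw [← this, AlgHom.comp_assoc]
    simp

/-- Divided power algebras are unique. -/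
theorem exists_equiv {C C' : Type u} [CommRing C] [Algebra A C] [CommRing C'] [Algebra A C']
    {γ : PolLaw.MulLaw A B C d} (hγ : PolLaw.IsGammaD γ) {γ' : PolLaw.MulLaw A B C' d}
    (hγ' : PolLaw.IsGammaD γ') :
    ∃ φ : C ≃ₐ[A] C', PolLaw.postcomp φ.toAlgHom.toLinearMap γ.law = γ'.law := by
  obtain ⟨f, hf, -⟩ := hγ C' γ'
  obtain ⟨g, hg, -⟩ := hγ' C γ
  obtain ⟨i, -, hi⟩ := hγ C γ
  obtain ⟨i', -, hi'⟩ := hγ' C' γ'
  have key : ∀ {D D' : Type u} [CommRing D] [Algebra A D] [CommRing D'] [Algebra A D']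
      {δ : PolLaw.MulLaw A B D d} {δ' : PolLaw.MulLaw A B D' d} (p : D →ₐ[A] D') (r : D' →ₐ[A] D),
      PolLaw.postcomp p.toLinearMap δ.law = δ'.law → PolLaw.postcomp r.toLinearMap δ'.law = δ.law →
      PolLaw.postcomp (r.comp p).toLinearMap δ.law = δ.law := by
    intro D D' _ _ _ _ δ δ' p r hp hr
    refine PolynomialLaw.ext (by
      funext S i1 i2 x
      rw [postcomp_apply, AlgHom.comp_toLinearMap, LinearMap.lTensor_comp, LinearMap.comp_apply,
        ← postcomp_apply, law_congr hp, ← postcomp_apply, law_congr hr])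
  have hid : ∀ {D : Type u} [CommRing D] [Algebra A D] {δ : PolLaw.MulLaw A B D d},
      PolLaw.postcomp (AlgHom.id A D).toLinearMap δ.law = δ.law := fun {D} _ _ {δ} =>
    PolynomialLaw.ext (by funext S i1 i2 x; simp [postcomp_apply])
  exact ⟨AlgEquiv.ofAlgHom f g ((hi' _ (key g f hg hf)).trans (hi' _ hid).symm)
    ((hi _ (key f g hf hg)).trans (hi _ hid).symm), hf⟩

/-- `TS` is a divided power algebra for a flat algebra, or if `d!` is invertible. -/
theorem exists_isGammaD_TS (h : Module.Flat A B ∨ IsUnit ((d.factorial : ℕ) : A)) :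
    ∃ τ : PolLaw.MulLaw A B (SymTen.TS A B d) d,
      (∀ (S : Type u) [CommSemiring S] [Algebra A S] (x : S ⊗[A] B),
        (SymTen.TS A B d).val.toLinearMap.lTensor S (τ.law.toFun' S x) =
          (SymTen.tpowLaw A B d).law.toFun' S x) ∧
      PolLaw.IsGammaD τ := by
  obtain ⟨C, _, _, γ, φ, hγ, hφ⟩ := exists_comparison (A := A) (B := B) (d := d)
  have hbij : Function.Bijective φ := by
    rcases h with h | h
    · exact comparison_bijective_of_flat γ hγ φ hφ
    · exact comparison_bijective_of_isUnit h γ hγ φ hφ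
  refine ⟨_, fun S _ _ x => ?_, isGammaD_postcomp hγ (AlgEquiv.ofBijective φ hbij)⟩
  rw [← hφ, AlgHom.comp_toLinearMap, LinearMap.lTensor_comp, LinearMap.comp_apply]
  rfl

/-- The divided power algebra of a flat algebra is flat. -/
theorem flat_of_isGammaD [Module.Flat A B] {C : Type u} [CommRing C] [Algebra A C]
    {γ : PolLaw.MulLaw A B C d} (hγ : PolLaw.IsGammaD γ) : Module.Flat A C := by
  obtain ⟨τ, -, hτ⟩ := exists_isGammaD_TS (A := A) (B := B) (d := d) (Or.inl inferInstance)
  obtain ⟨φ, -⟩ := exists_equiv hγ hτ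
  have := flat_symTen (A := A) (M := B) (d := d)
  rw [← TS_toSubmodule] at this
  exact Module.Flat.of_linearEquiv (M := Subalgebra.toSubmodule (SymTen.TS A B d))
    φ.toLinearEquiv

end Iso

end Groth.Agent.PLaw
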