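import Groth.Agent.PLaw.BCUniv
import Groth.Agent.PLaw.GammaFlat
import Mathlib.RingTheory.Extension.Presentation.Core
import Mathlib.RingTheory.Adjoin.Tower
import Mathlib.RingTheory.FiniteStability
import Mathlib.RingTheory.IntegralClosure.IsIntegralClosure.Basic

/-!
# Finiteness of divided power algebras
-/

universe u

open scoped TensorProduct

namespace Groth.Agent.PLaw

section TS

variable {A : Type u} [CommRing A] {B : Type u} [CommRing B] [Algebra A B] {d : ℕ}

theorem isIntegral_TS (t : ⨂[A] _ : Fin d, B) : IsIntegral (SymTen.TS A B d) t := by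
  classical
  let P : Polynomial (⨂[A] _ : Fin d, B) :=
    ∏ σ : Equiv.Perm (Fin d), (Polynomial.X - Polynomial.C (SymTen.perm A B d σ t))
  have hP : P.Monic := Polynomial.monic_prod_of_monic _ _ fun σ _ => Polynomial.monic_X_sub_C _
  have hfix : ∀ τ, P.map (SymTen.perm A B d τ : (⨂[A] _ : Fin d, B) →ₐ[A] _).toRingHom = P := fun τ => by
    simp only [P, Polynomial.map_prod, Polynomial.map_sub, Polynomial.map_X, Polynomial.map_C]
    exact Fintype.prod_equiv (Equiv.mulLeft τ) _ _ fun σ => by simp [perm_comp]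
  have hl : P ∈ Polynomial.lifts (algebraMap (SymTen.TS A B d) (⨂[A] _ : Fin d, B)) := by
    rw [Polynomial.lifts_iff_coeff_lifts]
    intro k
    refine ⟨⟨P.coeff k, mem_TS_iff_perm.mpr fun τ => ?_⟩, rfl⟩
    conv_rhs => rw [← hfix τ, Polynomial.coeff_map]
    rfl
  rcases subsingleton_or_nontrivial (⨂[A] _ : Fin d, B) with h0 | h0
  · exact ⟨1, Polynomial.monic_one, Subsingleton.elim _ _⟩
  obtain ⟨Q, hQ, -, hQm⟩ := Polynomial.lifts_and_degree_eq_and_monic hl hP
  refine ⟨Q, hQm, ?_⟩
  rw [← Polynomial.eval_map, hQ, Polynomial.eval_prod]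
  refine Finset.prod_eq_zero (Finset.mem_univ 1) ?_
  have h1 : SymTen.perm A B d 1 t = t := by
    rw [SymTen.perm_apply]
    simp [Equiv.Perm.one_def]
  simp [h1]

theorem finiteType_tensorPower [hB : Algebra.FiniteType A B] :
    Algebra.FiniteType A (⨂[A] _ : Fin d, B) := by
  classical
  obtain ⟨s, hs⟩ := hB.out
  let single : Fin d → (B →ₐ[A] ⨂[A] _ : Fin d, B) := fun j =>
    PiTensorProduct.singleAlgHom (A := fun _ : Fin d => B) j
  refine ⟨⟨Finset.univ.biUnion fun j => s.image (single j), ?_⟩⟩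
  rw [eq_top_iff]
  rintro z -
  induction z using PiTensorProduct.induction_on with
  | smul_tprod r f =>
    refine Subalgebra.smul_mem _ ?_ r
    have hf : PiTensorProduct.tprod A f = ∏ j, single j (f j) := by
      simp only [single, PiTensorProduct.singleAlgHom_apply, MonoidHom.mulSingle_apply]
      rw [← PiTensorProduct.tprod_prod, Finset.univ_prod_mulSingle]
    rw [hf]
    refine Subalgebra.prod_mem _ fun j _ => ?_
    have hle : Algebra.adjoin A (s : Set B) ≤
        (Algebra.adjoin A (↑(Finset.univ.biUnion fun j => s.image (single j)) : Set _)).comap (single j) := by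
      refine Algebra.adjoin_le fun b hb => Algebra.subset_adjoin ?_
      simp only [Finset.coe_biUnion, Finset.coe_univ, Finset.coe_image, Set.mem_iUnion]
      exact ⟨j, Set.mem_univ j, b, hb, rfl⟩
    exact hle (hs ▸ Algebra.mem_top)
  | add x y hx hy => exact add_mem hx hy

theorem finiteType_TS [IsNoetherianRing A] [Algebra.FiniteType A B] :
    Algebra.FiniteType A (SymTen.TS A B d) := by
  have := finiteType_tensorPower (A := A) (B := B) (d := d)
  have hT : Algebra.FiniteType (SymTen.TS A B d) (⨂[A] _ : Fin d, B) :=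
    Algebra.FiniteType.of_restrictScalars_finiteType A _ _
  have : Algebra.IsIntegral (SymTen.TS A B d) (⨂[A] _ : Fin d, B) := ⟨isIntegral_TS⟩
  have : Module.Finite (SymTen.TS A B d) (⨂[A] _ : Fin d, B) := Algebra.IsIntegral.finite
  exact ⟨fg_of_fg_of_fg A (SymTen.TS A B d) (⨂[A] _ : Fin d, B)
    (Algebra.FiniteType.out) Module.Finite.fg_top Subtype.coe_injective⟩

end TS

section Gamma

variable {A : Type u} [CommRing A] {B : Type u} [CommRing B] [Algebra A B] {d : ℕ}
  {C : Type u} [CommRing C] [Algebra A C]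

theorem finiteType_of_isGammaD_of_isNoetherian [IsNoetherianRing A] [Algebra.FiniteType A B]
    {γ : PolLaw.MulLaw A B C d} (hγ : PolLaw.IsGammaD γ) : Algebra.FiniteType A C := by
  obtain ⟨n, π, hπ⟩ := Algebra.FiniteType.iff_quotient_mvPolynomial''.mp ‹Algebra.FiniteType A B›
  let P := MvPolynomial (ULift.{u} (Fin n)) A
  let π' : P →ₐ[A] B := π.comp (MvPolynomial.renameEquiv A Equiv.ulift).toAlgHom
  have hπ' : Function.Surjective π' := hπ.comp (MvPolynomial.renameEquiv A Equiv.ulift).surjective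
  obtain ⟨q, hq, -, -⟩ :=
    exists_presentation (MvPolynomial.basisMonomials (ULift.{u} (Fin n)) A) π' hπ' γ hγ
  have := finiteType_TS (A := A) (B := P) (d := d)
  exact Algebra.FiniteType.of_surjective q hq

variable {B' : Type u} [CommRing B'] [Algebra A B']

theorem isGammaD_precomp {γ : PolLaw.MulLaw A B C d} (hγ : PolLaw.IsGammaD γ) (e : B' ≃ₐ[A] B) :
    PolLaw.IsGammaD (γ.precomp e.toAlgHom) := by
  intro D _ _ F
  obtain ⟨f, hf, huniq⟩ := hγ D (F.precomp e.symm.toAlgHom)
  have h1 : ∀ (S : Type u) [CommSemiring S] [Algebra A S] (x : S ⊗[A] B'),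
      e.symm.toAlgHom.toLinearMap.lTensor S (e.toAlgHom.toLinearMap.lTensor S x) = x := fun S _ _ x => by
    rw [← LinearMap.comp_apply, ← LinearMap.lTensor_comp]
    have : e.symm.toAlgHom.toLinearMap.comp e.toAlgHom.toLinearMap = LinearMap.id :=
      LinearMap.ext fun b => e.symm_apply_apply b
    rw [this, LinearMap.lTensor_id, LinearMap.id_apply]
  have h2 : ∀ (S : Type u) [CommSemiring S] [Algebra A S] (x : S ⊗[A] B),
      e.toAlgHom.toLinearMap.lTensor S (e.symm.toAlgHom.toLinearMap.lTensor S x) = x := fun S _ _ x => by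
    rw [← LinearMap.comp_apply, ← LinearMap.lTensor_comp]
    have : e.toAlgHom.toLinearMap.comp e.symm.toAlgHom.toLinearMap = LinearMap.id :=
      LinearMap.ext fun b => e.apply_symm_apply b
    rw [this, LinearMap.lTensor_id, LinearMap.id_apply]
  refine ⟨f, PolynomialLaw.ext ?_, fun g hg => huniq g (PolynomialLaw.ext ?_)⟩
  · funext S i1 i2 x
    rw [postcomp_apply]
    change f.toLinearMap.lTensor S (γ.law.toFun' S _) = _
    rw [← postcomp_apply, law_congr hf]
    change F.law.toFun' S (e.symm.toAlgHom.toLinearMap.lTensor S (e.toAlgHom.toLinearMap.lTensor S x)) = _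
    rw [h1]
  · funext S i1 i2 x
    rw [postcomp_apply]
    change _ = F.law.toFun' S _
    rw [← hg, postcomp_apply]
    change _ = g.toLinearMap.lTensor S (γ.law.toFun' S
      (e.toAlgHom.toLinearMap.lTensor S (e.symm.toAlgHom.toLinearMap.lTensor S x)))
    rw [h2]

theorem finitePresentation_of_isGammaD [Algebra.FinitePresentation A B]
    {γ : PolLaw.MulLaw A B C d} (hγ : PolLaw.IsGammaD γ) : Algebra.FinitePresentation A C := by
  let P := Algebra.Presentation.ofFinitePresentation A B
  have : IsNoetherianRing P.Core := Algebra.FiniteType.isNoetherianRing ℤ P.Core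
  obtain ⟨C₀, _, _, γ₀, hγ₀⟩ :=
    exists_isGammaD (A := P.Core) (B := P.ModelOfHasCoeffs P.Core) d
  have := finiteType_of_isGammaD_of_isNoetherian hγ₀
  have : Algebra.FinitePresentation P.Core C₀ := Algebra.FinitePresentation.of_finiteType.mp this
  let e := P.tensorModelOfHasCoeffsEquiv P.Core
  obtain ⟨Φ, -⟩ := exists_equiv (isGammaD_precomp (isGammaD_lawBC A hγ₀) e.symm) hγ
  have : Algebra.FinitePresentation A (A ⊗[P.Core] C₀) := inferInstance
  exact Algebra.FinitePresentation.equiv Φ

theorem finiteType_of_isGammaD [Algebra.FiniteType A B]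
    {γ : PolLaw.MulLaw A B C d} (hγ : PolLaw.IsGammaD γ) : Algebra.FiniteType A C := by
  obtain ⟨n, π, hπ⟩ := Algebra.FiniteType.iff_quotient_mvPolynomial''.mp ‹Algebra.FiniteType A B›
  let P := MvPolynomial (ULift.{u} (Fin n)) A
  let π' : P →ₐ[A] B := π.comp (MvPolynomial.renameEquiv A Equiv.ulift).toAlgHom
  have hπ' : Function.Surjective π' := hπ.comp (MvPolynomial.renameEquiv A Equiv.ulift).surjective
  obtain ⟨C₁, _, _, γ₁, hγ₁⟩ := exists_isGammaD (A := A) (B := P) d
  have : Algebra.FinitePresentation A C₁ := finitePresentation_of_isGammaD hγ₁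
  obtain ⟨f, hf, -⟩ := hγ₁ C (γ.precomp π')
  refine Algebra.FiniteType.of_surjective f fun c => ?_
  obtain ⟨q, hq, -, hval⟩ :=
    exists_presentation (MvPolynomial.basisMonomials (ULift.{u} (Fin n)) A) π' hπ' γ hγ
  obtain ⟨q₁, -, -, hval₁⟩ :=
    exists_presentation (MvPolynomial.basisMonomials (ULift.{u} (Fin n)) A) (AlgHom.id A P)
      Function.surjective_id γ₁ hγ₁
  have hfq : f.comp q₁ = q :=
    algHom_ext_TS (MvPolynomial.basisMonomials (ULift.{u} (Fin n)) A) fun S _ _ x => by
      rw [AlgHom.comp_toLinearMap, LinearMap.lTensor_comp, LinearMap.comp_apply, hval₁,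
        AlgHom.toLinearMap_id, LinearMap.lTensor_id, LinearMap.id_apply, ← postcomp_apply,
        law_congr hf, hval]
      rfl
  obtain ⟨t, rfl⟩ := hq c
  exact ⟨q₁ t, AlgHom.congr_fun hfq t⟩

end Gamma

end Groth.Agent.PLaw
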