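import Mathlib.LinearAlgebra.PiTensorProduct.Basis
import Mathlib.Data.Fintype.Pi
import Mathlib.Data.Fintype.Perm
import Mathlib.RingTheory.TensorProduct.Free
import Mathlib.Algebra.Module.Projective
import Groth.Prelude.Def_PolLaw

/-!
# Symmetric tensors of a free module

For a basis `e : κ → M`, the tensor power has the basis `c ↦ ⊗ e (c i)` and the symmetric tensors are
spanned by the orbit sums `orb e α`, indexed by exponents `α : κ →₀ ℕ`; they form a direct summand.
-/

universe u v w

open scoped TensorProduct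

namespace Groth.Agent.PLaw

section Fiber

/-- An element whose coordinates are constant on finite fibres of `key` is in the span of the
fibre sums. -/
theorem mem_span_fiber {R : Type*} {M : Type*} {ι : Type*} {Key : Type*} [CommSemiring R]
    [AddCommMonoid M] [Module R M] (b : Module.Basis ι R M) (key : ι → Key) (t : M)
    (ht : ∀ i j, key i = key j → b.repr t i = b.repr t j) (fib : Key → Finset ι)
    (hfib : ∀ q i, i ∈ fib q ↔ key i = q) :
    t ∈ Submodule.span R (Set.range fun q => ∑ i ∈ fib q, b i) := by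
  classical
  have h := b.linearCombination_repr t
  rw [Finsupp.linearCombination_apply, Finsupp.sum,
    ← Finset.sum_fiberwise_of_maps_to (g := key) (t := (b.repr t).support.image key)
      (fun i hi => Finset.mem_image_of_mem key hi)] at h
  rw [← h]
  refine Submodule.sum_mem _ fun q hq => ?_
  obtain ⟨i₀, hi₀, rfl⟩ := Finset.mem_image.mp hq
  have hfilter : (b.repr t).support.filter (fun i => key i = key i₀) = fib (key i₀) := by
    ext i
    simp only [Finset.mem_filter, Finsupp.mem_support_iff, hfib]
    refine ⟨fun h => h.2, fun h => ⟨?_, h⟩⟩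
    rw [ht i i₀ h]
    exact Finsupp.mem_support_iff.mp hi₀
  rw [hfilter, Finset.sum_congr rfl (g := fun i => b.repr t i₀ • b i)
    (fun i hi => by rw [ht i i₀ ((hfib _ _).mp hi)]), ← Finset.smul_sum]
  exact Submodule.smul_mem _ _ (Submodule.subset_span ⟨key i₀, rfl⟩)

/-- A linear map permuting a basis permutes the coordinates. -/
theorem repr_of_permute {R : Type*} {M : Type*} {ι : Type*} [CommSemiring R] [AddCommMonoid M]
    [Module R M] (b : Module.Basis ι R M) (p : ι ≃ ι) (L : M →ₗ[R] M) (hL : ∀ i, L (b i) = b (p i))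
    (t : M) (i : ι) : b.repr (L t) (p i) = b.repr t i := by
  conv_lhs => rw [← b.linearCombination_repr t, Finsupp.apply_linearCombination]
  rw [show (L ∘ b) = b ∘ p from funext hL, ← Finsupp.linearCombination_mapDomain,
    b.repr_linearCombination, Finsupp.mapDomain_apply p.injective]

end Fiber

section Words

variable {κ : Type*} {d : ℕ}

/-- The exponent of a word. -/
noncomputable def cnt (c : Fin d → κ) : κ →₀ ℕ := ∑ i, Finsupp.single (c i) 1

open Classical in
theorem cnt_apply (c : Fin d → κ) (k : κ) :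
    cnt c k = (Finset.univ.filter fun i => c i = k).card := by
  simp [cnt, Finsupp.finsetSum_apply, Finsupp.single_apply, Finset.sum_boole]

theorem cnt_comp (c : Fin d → κ) (σ : Equiv.Perm (Fin d)) : cnt (fun i => c (σ i)) = cnt c :=
  Equiv.sum_comp σ fun i => Finsupp.single (c i) 1

theorem sum_cnt (c : Fin d → κ) : ((cnt c).sum fun _ j => j) = d := by
  rw [cnt, ← Finsupp.sum_finsetSum_index (fun _ => rfl) (fun _ _ _ => rfl)]
  simp

theorem mem_support_cnt {c : Fin d → κ} (i : Fin d) : c i ∈ (cnt c).support := by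
  classical
  rw [Finsupp.mem_support_iff, cnt_apply]
  exact (Finset.card_pos.mpr ⟨i, by simp⟩).ne'

theorem exists_of_mem_support_cnt {c : Fin d → κ} {k : κ} (hk : k ∈ (cnt c).support) :
    ∃ i, c i = k := by
  classical
  rw [Finsupp.mem_support_iff, cnt_apply] at hk
  obtain ⟨i, hi⟩ := Finset.card_ne_zero.mp hk
  exact ⟨i, (Finset.mem_filter.mp hi).2⟩

theorem exists_perm_of_cnt_eq {c c' : Fin d → κ} (h : cnt c = cnt c') :
    ∃ σ : Equiv.Perm (Fin d), ∀ i, c' i = c (σ i) := by
  classical
  have hk : ∀ k, Fintype.card {i // c' i = k} = Fintype.card {i // c i = k} := fun k => by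
    rw [Fintype.card_subtype, Fintype.card_subtype, ← cnt_apply, ← cnt_apply, h]
  exact ⟨Equiv.ofFiberEquiv fun k => Fintype.equivOfCardEq (hk k),
    fun i => (Equiv.ofFiberEquiv_map _ i).symm⟩

open Classical in
/-- The words of exponent `α`. -/
noncomputable def words (d : ℕ) (α : κ →₀ ℕ) : Finset (Fin d → κ) :=
  (Fintype.piFinset fun _ => α.support).filter fun c => cnt c = α

theorem mem_words {c : Fin d → κ} {α : κ →₀ ℕ} : c ∈ words d α ↔ cnt c = α := by
  simp only [words, Finset.mem_filter, Fintype.mem_piFinset, and_iff_right_iff_imp]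
  rintro rfl i
  exact mem_support_cnt i

open Classical in
/-- Whether a word is the chosen representative of its exponent. -/
noncomputable def IsPick (c : Fin d → κ) : Prop :=
  c = (⟨c, rfl⟩ : ∃ c' : Fin d → κ, cnt c' = cnt c).choose

theorem exists_unique_pick {α : κ →₀ ℕ} {c₀ : Fin d → κ} (h₀ : cnt c₀ = α) :
    ∃ c : Fin d → κ,
      cnt c = α ∧ IsPick c ∧ ∀ c' : Fin d → κ, cnt c' = α → IsPick c' → c' = c := by
  have hex : ∃ c' : Fin d → κ, cnt c' = α := ⟨c₀, h₀⟩
  have key : ∀ c' : Fin d → κ, cnt c' = α →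
      (⟨c', rfl⟩ : ∃ c'' : Fin d → κ, cnt c'' = cnt c').choose = hex.choose := by
    intro c' hc'
    subst hc'
    rfl
  refine ⟨hex.choose, hex.choose_spec, ?_, fun c' h hp => ?_⟩
  · unfold IsPick
    rw [key _ hex.choose_spec]
  · unfold IsPick at hp
    rw [hp, key _ h]

theorem exists_word (α : κ →₀ ℕ) (h : (α.sum fun _ j => j) = d) : ∃ c : Fin d → κ, cnt c = α := by
  classical
  induction d generalizing α with
  | zero =>
    refine ⟨Fin.elim0, ?_⟩
    ext k
    by_cases hk : k ∈ α.support
    · exact absurd (Finset.sum_eq_zero_iff.mp h k hk) (Finsupp.mem_support_iff.mp hk)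
    · simp [cnt, Finsupp.notMem_support_iff.mp hk]
  | succ n ih =>
    obtain ⟨k, hk⟩ : α.support.Nonempty := by
      rw [Finset.nonempty_iff_ne_empty]
      intro h0
      simp [Finsupp.sum, h0] at h
    have hle : Finsupp.single k 1 ≤ α :=
      Finsupp.single_le_iff.mpr (Nat.one_le_iff_ne_zero.mpr (Finsupp.mem_support_iff.mp hk))
    obtain ⟨β, rfl⟩ := le_iff_exists_add.mp hle
    rw [Finsupp.sum_add_index' (fun _ => rfl) (fun _ _ _ => rfl), Finsupp.sum_single_index rfl] at h
    obtain ⟨c, hc⟩ := ih β (by omega)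
    exact ⟨Fin.cons k c, by simp [cnt, Fin.sum_univ_succ, ← hc]⟩

end Words

section Module

variable (A : Type*) [CommRing A] (M : Type*) [AddCommGroup M] [Module A M]

/-- The module of symmetric tensors. -/
noncomputable def symTen (d : ℕ) : Submodule A (⨂[A] _ : Fin d, M) :=
  ⨅ σ : Equiv.Perm (Fin d),
    LinearMap.eqLocus (PiTensorProduct.reindex A (fun _ : Fin d => M) σ).toLinearMap LinearMap.id

variable {A M}

theorem mem_symTen {d : ℕ} {t : ⨂[A] _ : Fin d, M} :
    t ∈ symTen A M d ↔
      ∀ σ : Equiv.Perm (Fin d), PiTensorProduct.reindex A (fun _ : Fin d => M) σ t = t := by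
  simp [symTen, LinearMap.mem_eqLocus]

variable {d : ℕ} {κ : Type*}

/-- The orbit sum of the words of exponent `α`. -/
noncomputable def orb (d : ℕ) (e : κ → M) (α : κ →₀ ℕ) : ⨂[A] _ : Fin d, M :=
  ∑ c ∈ words d α, PiTensorProduct.tprod A fun i => e (c i)

theorem reindex_tprod_fn (σ : Equiv.Perm (Fin d)) (f : Fin d → M) :
    PiTensorProduct.reindex A (fun _ : Fin d => M) σ (PiTensorProduct.tprod A f) =
      PiTensorProduct.tprod A fun i => f (σ.symm i) := by
  rw [PiTensorProduct.reindex_tprod]

theorem orb_mem (e : κ → M) (α : κ →₀ ℕ) : orb (A := A) d e α ∈ symTen A M d := by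
  rw [mem_symTen]
  intro σ
  rw [orb, map_sum]
  refine Finset.sum_nbij' (fun c i => c (σ.symm i)) (fun c i => c (σ i)) ?_ ?_ ?_ ?_ ?_
  · intro c hc
    rw [mem_words] at hc ⊢
    rw [← hc]; exact cnt_comp c σ.symm
  · intro c hc
    rw [mem_words] at hc ⊢
    rw [← hc]; exact cnt_comp c σ
  · intro c _; funext i; simp
  · intro c _; funext i; simp
  · intro c _; exact reindex_tprod_fn σ _

theorem orb_eq_zero_of_degree (e : κ → M) {α : κ →₀ ℕ} (h : (α.sum fun _ j => j) ≠ d) :
    orb (A := A) d e α = 0 :=
  Finset.sum_eq_zero fun c hc => absurd (by rw [← mem_words.mp hc]; exact sum_cnt c) h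

variable (e : Module.Basis κ A M)

/-- The basis of the tensor power. -/
noncomputable def pbasis (d : ℕ) : Module.Basis (Fin d → κ) A (⨂[A] _ : Fin d, M) :=
  Basis.piTensorProduct fun _ : Fin d => e

theorem pbasis_apply (c : Fin d → κ) :
    pbasis e d c = PiTensorProduct.tprod A fun i => e (c i) := by
  simp [pbasis]

open Classical in
/-- The map sending the representative word of `α` to `h α` and the other words to zero. -/
noncomputable def pickMap {N : Type*} [AddCommGroup N] [Module A N] (d : ℕ)
    (h : (κ →₀ ℕ) → N) : (⨂[A] _ : Fin d, M) →ₗ[A] N :=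
  (pbasis e d).constr A fun c => if IsPick c then h (cnt c) else 0

theorem pickMap_tprod {N : Type*} [AddCommGroup N] [Module A N] (h : (κ →₀ ℕ) → N)
    (c : Fin d → κ) [Decidable (IsPick c)] :
    pickMap e d h (PiTensorProduct.tprod A fun i => e (c i)) =
      if IsPick c then h (cnt c) else 0 := by
  rw [← pbasis_apply, pickMap, Module.Basis.constr_basis]
  congr

theorem pickMap_orb {N : Type*} [AddCommGroup N] [Module A N] (h : (κ →₀ ℕ) → N)
    (α : κ →₀ ℕ) (hα : (∀ c : Fin d → κ, cnt c ≠ α) → h α = 0) :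
    pickMap e d h (orb d e α) = h α := by
  classical
  rw [orb, map_sum]
  simp only [pickMap_tprod]
  by_cases hc : ∀ c : Fin d → κ, cnt c ≠ α
  · rw [hα hc]
    exact Finset.sum_eq_zero fun c hc' => absurd (mem_words.mp hc') (hc c)
  · push Not at hc
    obtain ⟨c₀, hc₀⟩ := hc
    obtain ⟨c, hc, hp, huniq⟩ := exists_unique_pick hc₀
    rw [Finset.sum_eq_single c]
    · rw [if_pos hp, hc]
    · intro c' hc' hne
      rw [if_neg]
      exact fun hp' => hne (huniq c' (mem_words.mp hc') hp')
    · exact fun hn => absurd (mem_words.mpr hc) hn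

theorem repr_invariant {t : ⨂[A] _ : Fin d, M} (σ : Equiv.Perm (Fin d))
    (ht : PiTensorProduct.reindex A (fun _ : Fin d => M) σ t = t) (c : Fin d → κ) :
    (pbasis e d).repr t (fun i => c (σ.symm i)) = (pbasis e d).repr t c := by
  conv_lhs => rw [← ht]
  exact repr_of_permute (pbasis e d) (Equiv.arrowCongr σ (Equiv.refl κ))
    (PiTensorProduct.reindex A (fun _ : Fin d => M) σ).toLinearMap
    (fun c => by
      rw [pbasis_apply, LinearEquiv.coe_coe, reindex_tprod_fn, pbasis_apply]
      rfl) t c

theorem repr_eq_of_cnt_eq {t : ⨂[A] _ : Fin d, M} (ht : t ∈ symTen A M d) {c c' : Fin d → κ}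
    (h : cnt c = cnt c') : (pbasis e d).repr t c = (pbasis e d).repr t c' := by
  obtain ⟨σ, hσ⟩ := exists_perm_of_cnt_eq h
  have := repr_invariant e σ.symm (mem_symTen.mp ht _) c
  rw [← this]
  congr 1
  funext i
  simp [hσ i]

/-- The symmetric tensors of a free module are spanned by the orbit sums. -/
theorem symTen_eq_span : symTen A M d = Submodule.span A (Set.range (orb (A := A) d e)) := by
  refine le_antisymm (fun t ht => ?_) (Submodule.span_le.mpr ?_)
  · have h := mem_span_fiber (pbasis e d) cnt t (fun c c' h => repr_eq_of_cnt_eq e ht h)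
      (words d) (fun q c => mem_words)
    simp only [pbasis_apply] at h
    exact h
  · rintro _ ⟨α, rfl⟩
    exact orb_mem _ α

/-- The retraction onto the symmetric tensors. -/
noncomputable def retr (d : ℕ) : (⨂[A] _ : Fin d, M) →ₗ[A] symTen A M d :=
  pickMap e d fun α => ⟨orb d e α, orb_mem _ α⟩

theorem retr_coe (t : symTen A M d) : retr e d (t : ⨂[A] _ : Fin d, M) = t := by
  have : ∀ x, ∀ hx : x ∈ symTen A M d, retr e d x = ⟨x, hx⟩ := by
    intro x hx
    have hx' := hx
    rw [symTen_eq_span e] at hx'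
    apply Subtype.ext
    change ((symTen A M d).subtype ∘ₗ retr e d) x =
      (LinearMap.id : (⨂[A] _ : Fin d, M) →ₗ[A] ⨂[A] _ : Fin d, M) x
    refine LinearMap.eqOn_span ?_ hx'
    rintro _ ⟨α, rfl⟩
    simp only [LinearMap.comp_apply, LinearMap.id_apply, Submodule.subtype_apply, retr]
    rw [pickMap_orb]
    intro h
    apply Subtype.ext
    exact Finset.sum_eq_zero fun c hc => absurd (mem_words.mp hc) (h c)
  exact this t.1 t.2

/-- The symmetric tensors of a free module are a projective module. -/
theorem projective_symTen [Module.Free A M] : Module.Projective A (symTen A M d) := by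
  have e := Module.Free.chooseBasis A M
  have : Module.Projective A (⨂[A] _ : Fin d, M) := Module.Projective.of_basis (pbasis e d)
  exact Module.Projective.of_split (symTen A M d).subtype (retr e d)
    (LinearMap.ext fun t => retr_coe e t)

end Module

section BaseChange

variable {A : Type u} [CommRing A] {M : Type v} [AddCommGroup M] [Module A M] {κ : Type*} {d : ℕ}
  (e : Module.Basis κ A M) (S : Type*) [CommSemiring S] [Algebra A S]

/-- The basis of the base changed tensor power. -/
noncomputable def sbasis (d : ℕ) :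
    Module.Basis (Fin d → κ) S (S ⊗[A] (⨂[A] _ : Fin d, M)) :=
  Algebra.TensorProduct.basis S (pbasis e d)

theorem sbasis_apply (c : Fin d → κ) :
    sbasis e S d c = 1 ⊗ₜ[A] PiTensorProduct.tprod A fun i => e (c i) := by
  rw [sbasis, Algebra.TensorProduct.basis_apply, pbasis_apply]

theorem sbasis_repr_invariant {y : S ⊗[A] (⨂[A] _ : Fin d, M)} (σ : Equiv.Perm (Fin d))
    (hy : (PiTensorProduct.reindex A (fun _ : Fin d => M) σ).toLinearMap.baseChange S y = y)
    (c : Fin d → κ) : (sbasis e S d).repr y (fun i => c (σ.symm i)) = (sbasis e S d).repr y c := by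
  conv_lhs => rw [← hy]
  exact repr_of_permute (sbasis e S d) (Equiv.arrowCongr σ (Equiv.refl κ)) _
    (fun c => by
      rw [sbasis_apply, LinearMap.baseChange_tmul, LinearEquiv.coe_coe, reindex_tprod_fn,
        sbasis_apply]
      rfl) y c

include e in
/-- Invariants of the base changed tensor power come from the symmetric tensors. -/
theorem exists_lTensor_subtype_eq {y : S ⊗[A] (⨂[A] _ : Fin d, M)}
    (hy : ∀ σ : Equiv.Perm (Fin d),
      (PiTensorProduct.reindex A (fun _ : Fin d => M) σ).toLinearMap.baseChange S y = y) :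
    ∃ z, (symTen A M d).subtype.lTensor S z = y := by
  have h := mem_span_fiber (sbasis e S d) cnt y (fun c c' hcc => by
      obtain ⟨σ, hσ⟩ := exists_perm_of_cnt_eq hcc
      rw [← sbasis_repr_invariant e S σ.symm (hy _) c]
      congr 1
      funext i
      simp [hσ i]) (words d) (fun q c => mem_words)
  have hr : Submodule.span S (Set.range fun q => ∑ c ∈ words d q, sbasis e S d c) ≤
      LinearMap.range ((symTen A M d).subtype.baseChange S) := by
    rw [Submodule.span_le]
    rintro _ ⟨q, rfl⟩
    refine ⟨1 ⊗ₜ[A] ⟨orb d e q, orb_mem _ q⟩, ?_⟩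
    simp [orb, TensorProduct.tmul_sum, sbasis_apply]
  exact hr h

end BaseChange

end Groth.Agent.PLaw
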