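import Groth.Agent.PLaw.Basic
import Groth.Agent.PLaw.SymFree
import Groth.Prelude.Def_PolLaw2
import Mathlib.RingTheory.Flat.Basic

/-!
# The universal law into the symmetric tensors of a free algebra

For an algebra `B` with a basis `e`, `tauTS e d` is the law `x ↦ x ⊗ ⋯ ⊗ x` with values in
`TS A B d`; every homogeneous law of degree `d` out of `B` factors uniquely through it (`fromTS`).
-/

universe u

open scoped TensorProduct

namespace Groth.Agent.PLaw

section General

variable {A : Type u} [CommRing A] {B : Type u} [CommRing B] [Algebra A B] {d : ℕ}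

theorem TS_mem_iff {t : ⨂[A] _ : Fin d, B} : t ∈ SymTen.TS A B d ↔ t ∈ symTen A B d :=
  (SymTen.mem_TS_iff A B d t).trans mem_symTen.symm

theorem TS_toSubmodule : Subalgebra.toSubmodule (SymTen.TS A B d) = symTen A B d :=
  Submodule.ext fun _ => TS_mem_iff

/-- The formula for the tensor power law on a combination of pure tensors. -/
theorem tpowLaw_sum {S : Type u} [CommSemiring S] [Algebra A S] {κ : Type*} (s : Finset κ)
    (σ : κ → S) (b : κ → B) :
    (SymTen.tpowLaw A B d).law.toFun' S (∑ k ∈ s, σ k ⊗ₜ[A] b k) =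
      ∑ c ∈ Fintype.piFinset fun _ : Fin d => s,
        (∏ i, σ (c i)) ⊗ₜ[A] PiTensorProduct.tprod A fun i => b (c i) := by
  classical
  simp only [SymTen.tpowLaw, PolLaw.MulLaw.prodMap_toFun', map_sum, Algebra.TensorProduct.map_tmul,
    AlgHom.id_apply, Finset.prod_univ_sum]
  refine Finset.sum_congr rfl fun c _ => ?_
  have hmul : ∀ (I : Finset (Fin d)),
      ∏ i ∈ I, (σ (c i) ⊗ₜ[A] PiTensorProduct.singleAlgHom (A := fun _ : Fin d => B) i (b (c i))) =
        (∏ i ∈ I, σ (c i)) ⊗ₜ[A]
          ∏ i ∈ I, PiTensorProduct.singleAlgHom (R := A) (A := fun _ : Fin d => B) i (b (c i)) := by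
    intro I
    induction I using Finset.induction_on with
    | empty => simp [Algebra.TensorProduct.one_def]
    | insert i I hi ih =>
      rw [Finset.prod_insert hi, Finset.prod_insert hi, Finset.prod_insert hi, ih,
        Algebra.TensorProduct.tmul_mul_tmul]
  rw [hmul]
  congr 1
  simp only [PiTensorProduct.singleAlgHom_apply, MonoidHom.mulSingle_apply]
  rw [← PiTensorProduct.tprod_prod]
  exact congrArg _ (Finset.univ_prod_mulSingle (fun i : Fin d => b (c i)))

theorem perm_comp (σ τ : Equiv.Perm (Fin d)) (t : ⨂[A] _ : Fin d, B) :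
    SymTen.perm A B d σ (SymTen.perm A B d τ t) = SymTen.perm A B d (σ * τ) t := by
  induction t using PiTensorProduct.induction_on with
  | smul_tprod r f => simp [Equiv.Perm.mul_def]
  | add x y hx hy => simp [hx, hy]

theorem perm_toLinearMap (σ : Equiv.Perm (Fin d)) :
    (SymTen.perm A B d σ).toLinearMap =
      (PiTensorProduct.reindex A (fun _ : Fin d => B) σ).toLinearMap :=
  LinearMap.ext fun t => SymTen.perm_apply A B d σ t

theorem mem_TS_iff_perm {t : ⨂[A] _ : Fin d, B} :
    t ∈ SymTen.TS A B d ↔ ∀ σ, SymTen.perm A B d σ t = t := by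
  simp only [SymTen.perm_apply, SymTen.mem_TS_iff]

theorem perm_TS (σ : Equiv.Perm (Fin d)) (t : SymTen.TS A B d) :
    SymTen.perm A B d σ (t : ⨂[A] _ : Fin d, B) = t :=
  mem_TS_iff_perm.mp t.2 σ

/-- Injectivity of the base change of the inclusion of `TS` along a flat algebra. -/
theorem lTensor_val_injective_of_flat (S : Type*) [CommRing S] [Algebra A S] [Module.Flat A S] :
    Function.Injective ((SymTen.TS A B d).val.toLinearMap.lTensor S) :=
  Module.Flat.lTensor_preserves_injective_linearMap _ Subtype.val_injective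

end General

section Free

variable {A : Type u} [CommRing A] {B : Type u} [CommRing B] [Algebra A B] {d : ℕ} {κ : Type u}
  (e : Module.Basis κ A B)

/-- The retraction of the tensor power onto the symmetric tensors. -/
noncomputable def retrTS (d : ℕ) : (⨂[A] _ : Fin d, B) →ₗ[A] SymTen.TS A B d where
  toFun t := ⟨(retr e d t : ⨂[A] _ : Fin d, B), TS_mem_iff.mpr (retr e d t).2⟩
  map_add' x y := Subtype.ext (by simp only [map_add, Submodule.coe_add]; rfl)
  map_smul' a x := Subtype.ext (by simp only [map_smul, Submodule.coe_smul]; rfl)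

theorem retrTS_val (t : SymTen.TS A B d) : retrTS e d (t : ⨂[A] _ : Fin d, B) = t := by
  have h := retr_coe e ⟨(t : ⨂[A] _ : Fin d, B), TS_mem_iff.mp t.2⟩
  refine Subtype.ext ?_
  change (retr e d (t : ⨂[A] _ : Fin d, B) : ⨂[A] _ : Fin d, B) = t
  rw [h]

theorem retrTS_comp_val (d : ℕ) :
    retrTS e d ∘ₗ (SymTen.TS A B d).val.toLinearMap = LinearMap.id :=
  LinearMap.ext fun t => retrTS_val e t

theorem lTensor_retrTS_val (S : Type*) [CommSemiring S] [Algebra A S]
    (z : S ⊗[A] SymTen.TS A B d) :
    (retrTS e d).lTensor S ((SymTen.TS A B d).val.toLinearMap.lTensor S z) = z := by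
  rw [← LinearMap.comp_apply, ← LinearMap.lTensor_comp, retrTS_comp_val, LinearMap.lTensor_id,
    LinearMap.id_apply]

include e in
theorem lTensor_val_injective (S : Type*) [CommSemiring S] [Algebra A S] :
    Function.Injective ((SymTen.TS A B d).val.toLinearMap.lTensor S) :=
  Function.LeftInverse.injective (g := (retrTS e d).lTensor S) (lTensor_retrTS_val e S)

include e in
/-- Invariant elements of `S ⊗ B^{⊗ d}` come from `S ⊗ TS`. -/
theorem exists_lTensor_val_eq {S : Type*} [CommSemiring S] [Algebra A S]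
    {y : S ⊗[A] (⨂[A] _ : Fin d, B)}
    (hy : ∀ σ, (SymTen.perm A B d σ).toLinearMap.lTensor S y = y) :
    ∃ z, (SymTen.TS A B d).val.toLinearMap.lTensor S z = y := by
  obtain ⟨z, hz⟩ := exists_lTensor_subtype_eq e S (y := y) fun σ => by
    rw [← perm_toLinearMap, LinearMap.baseChange_eq_ltensor]
    exact hy σ
  refine ⟨(LinearEquiv.ofEq _ _ (TS_toSubmodule (A := A) (B := B) (d := d)).symm).toLinearMap.lTensor S z, ?_⟩
  rw [← hz, ← LinearMap.comp_apply]
  erw [← LinearMap.lTensor_comp]
  rfl

open Classical in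
theorem cf_tpow_gen (s : Finset κ) (α : κ →₀ ℕ) :
    cf α ((SymTen.tpowLaw A B d).law.toFun' _ (gen A (⇑e) s)) =
      if α.support ⊆ s then orb d e α else 0 := by
  rw [gen, tpowLaw_sum, map_sum]
  have hterm : ∀ c : Fin d → κ,
      cf α ((∏ i, (MvPolynomial.X (c i) : MvPolynomial κ A)) ⊗ₜ[A]
        PiTensorProduct.tprod A fun i => e (c i)) =
      if cnt c = α then PiTensorProduct.tprod A fun i => e (c i) else 0 := by
    intro c
    have : (∏ i, (MvPolynomial.X (c i) : MvPolynomial κ A)) = MvPolynomial.monomial (cnt c) 1 := by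
      simp only [MvPolynomial.X, cnt, ← MvPolynomial.monomial_sum_one]
    rw [this, cf_monomial_tmul, one_smul]
  simp only [hterm, ← Finset.sum_filter]
  by_cases hα : α.support ⊆ s
  · rw [if_pos hα, orb]
    refine Finset.sum_congr (Finset.ext fun c => ?_) fun _ _ => rfl
    simp only [Finset.mem_filter, Fintype.mem_piFinset, mem_words, and_iff_right_iff_imp]
    exact fun h i => hα (h ▸ mem_support_cnt i)
  · rw [if_neg hα]
    refine Finset.sum_eq_zero fun c hc => absurd ?_ hα
    simp only [Finset.mem_filter, Fintype.mem_piFinset] at hc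
    rw [← hc.2]
    intro k hk
    obtain ⟨i, rfl⟩ := exists_of_mem_support_cnt hk
    exact hc.1 i

include e in
/-- Laws agreeing on the generic elements of a basis are equal. -/
theorem law_ext_basis {M' : Type*} [AddCommGroup M'] [Module A M'] {F G : B →ₚₗ[A] M'}
    (h : ∀ s : Finset κ, F.toFun' _ (gen A (⇑e) s) = G.toFun' _ (gen A (⇑e) s)) : F = G := by
  refine PolynomialLaw.ext ?_
  funext S i1 i2 x
  let be := Algebra.TensorProduct.basis S e
  have hx : x = ∑ k ∈ (be.repr x).support, (be.repr x k) ⊗ₜ[A] e k := by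
    conv_lhs => rw [← be.linearCombination_repr x, Finsupp.linearCombination_apply, Finsupp.sum]
    exact Finset.sum_congr rfl fun k _ => by
      simp [be, Algebra.TensorProduct.basis_apply, TensorProduct.smul_tmul']
  have := congrArg ((MvPolynomial.aeval (R := A) fun k => be.repr x k).toLinearMap.rTensor M')
    (h (be.repr x).support)
  rw [compat, compat, rTensor_gen] at this
  simp only [MvPolynomial.aeval_X] at this
  rwa [← hx] at this

/-- The law into the symmetric tensors underlying `tauTS`. -/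
noncomputable def tauLaw (d : ℕ) : B →ₚₗ[A] SymTen.TS A B d :=
  PolLaw.postcomp (retrTS e d) (SymTen.tpowLaw A B d).law

theorem tauLaw_apply {S : Type u} [CommSemiring S] [Algebra A S] (x : S ⊗[A] B) :
    (tauLaw e d).toFun' S x = (retrTS e d).lTensor S ((SymTen.tpowLaw A B d).law.toFun' S x) :=
  rfl

theorem tauLaw_val {S : Type u} [CommSemiring S] [Algebra A S] (x : S ⊗[A] B) :
    (SymTen.TS A B d).val.toLinearMap.lTensor S ((tauLaw e d).toFun' S x) =
      (SymTen.tpowLaw A B d).law.toFun' S x := by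
  suffices h : PolLaw.postcomp (SymTen.TS A B d).val.toLinearMap (tauLaw e d) =
      (SymTen.tpowLaw A B d).law from
    congrFun (congrFun (congrFun (congrFun (congrArg PolynomialLaw.toFun' h) S) _) _) x
  refine law_ext_basis e fun s => cf_ext fun α => ?_
  change cf α ((SymTen.TS A B d).val.toLinearMap.lTensor _
    ((tauLaw e d).toFun' _ (gen A (⇑e) s))) = _
  rw [cf_lTensor, tauLaw_apply, cf_lTensor, cf_tpow_gen]
  split_ifs with h
  · exact congrArg Subtype.val (retrTS_val e ⟨orb d e α, TS_mem_iff.mpr (orb_mem _ α)⟩)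
  · simp

/-- The law `x ↦ x ⊗ ⋯ ⊗ x` into the symmetric tensors of a free algebra. -/
noncomputable def tauTS (d : ℕ) : PolLaw.MulLaw A B (SymTen.TS A B d) d where
  law := tauLaw e d
  homog S _ _ r x := by
    apply lTensor_val_injective e S
    rw [tauLaw_val, (SymTen.tpowLaw A B d).homog S r x, PolLaw.lTensor_algHom_apply, map_smul,
      ← PolLaw.lTensor_algHom_apply, tauLaw_val]
  mult S _ _ := by
    refine ⟨?_, fun x y => ?_⟩
    · apply lTensor_val_injective e S
      rw [tauLaw_val, ((SymTen.tpowLaw A B d).mult S).1, PolLaw.lTensor_algHom_apply, map_one]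
    · apply lTensor_val_injective e S
      rw [tauLaw_val, ((SymTen.tpowLaw A B d).mult S).2, PolLaw.lTensor_algHom_apply, map_mul,
        ← PolLaw.lTensor_algHom_apply, ← PolLaw.lTensor_algHom_apply, tauLaw_val, tauLaw_val]

theorem tauTS_val {S : Type u} [CommSemiring S] [Algebra A S] (x : S ⊗[A] B) :
    (SymTen.TS A B d).val.toLinearMap.lTensor S ((tauTS e d).law.toFun' S x) =
      (SymTen.tpowLaw A B d).law.toFun' S x :=
  tauLaw_val e x

open Classical in
theorem cf_tauTS_gen (s : Finset κ) (α : κ →₀ ℕ) :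
    ((cf α ((tauTS e d).law.toFun' _ (gen A (⇑e) s)) : SymTen.TS A B d) : ⨂[A] _ : Fin d, B) =
      if α.support ⊆ s then orb d e α else 0 := by
  rw [← cf_tpow_gen e s α, ← tauTS_val e, cf_lTensor]
  rfl

/-- Linear maps out of `TS` are determined by the coefficients of `tauTS`. -/
theorem linearMap_ext_TS {N : Type*} [AddCommGroup N] [Module A N]
    {f g : SymTen.TS A B d →ₗ[A] N}
    (h : ∀ (s : Finset κ) (α : κ →₀ ℕ),
      f (cf α ((tauTS e d).law.toFun' _ (gen A (⇑e) s))) =
        g (cf α ((tauTS e d).law.toFun' _ (gen A (⇑e) s)))) : f = g := by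
  classical
  refine LinearMap.ext fun t => ?_
  have ht : (t : ⨂[A] _ : Fin d, B) ∈ symTen A B d := TS_mem_iff.mp t.2
  rw [symTen_eq_span e] at ht
  have key : f (retrTS e d (t : ⨂[A] _ : Fin d, B)) = g (retrTS e d (t : ⨂[A] _ : Fin d, B)) := by
    change (f ∘ₗ retrTS e d) _ = (g ∘ₗ retrTS e d) _
    refine LinearMap.eqOn_span ?_ ht
    rintro _ ⟨α, rfl⟩
    have h1 : retrTS e d (orb d e α) = cf α ((tauTS e d).law.toFun' _ (gen A (⇑e) α.support)) := by
      rw [← retrTS_val e (cf α _), cf_tauTS_gen, if_pos subset_rfl]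
    simp only [LinearMap.comp_apply, h1, h]
  rwa [retrTS_val] at key

variable {C : Type u} [AddCommGroup C] [Module A C]

/-- The linear map out of `TS` attached to a law out of a free algebra. -/
noncomputable def fromTS (d : ℕ) (F : B →ₚₗ[A] C) : SymTen.TS A B d →ₗ[A] C :=
  pickMap e d (fun α => cf α (F.toFun' _ (gen A (⇑e) α.support))) ∘ₗ
    (SymTen.TS A B d).val.toLinearMap

theorem fromTS_law (F : B →ₚₗ[A] C)
    (hF : ∀ (S : Type u) [CommSemiring S] [Algebra A S] (r : S) (x : S ⊗[A] B),
      F.toFun' S (r • x) = r ^ d • F.toFun' S x) :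
    PolLaw.postcomp (fromTS e d F) (tauTS e d).law = F := by
  classical
  refine law_ext_basis e fun s => cf_ext fun α => ?_
  change cf α ((fromTS e d F).lTensor _ ((tauTS e d).law.toFun' _ (gen A (⇑e) s))) = _
  rw [cf_lTensor, fromTS, LinearMap.comp_apply, AlgHom.toLinearMap_apply, Subalgebra.coe_val,
    cf_tauTS_gen]
  split_ifs with h
  · rw [pickMap_orb, cf_gen_mono F (⇑e) h α subset_rfl]
    intro hno
    refine cf_gen_eq_zero_of_degree F hF (⇑e) _ α fun hd => ?_
    obtain ⟨c, hc⟩ := exists_word α hd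
    exact hno c hc
  · rw [map_zero, cf_gen_eq_zero F (⇑e) s α h]

theorem fromTS_apply (F : B →ₚₗ[A] C)
    (hF : ∀ (S : Type u) [CommSemiring S] [Algebra A S] (r : S) (x : S ⊗[A] B),
      F.toFun' S (r • x) = r ^ d • F.toFun' S x)
    (S : Type u) [CommSemiring S] [Algebra A S] (x : S ⊗[A] B) :
    (fromTS e d F).lTensor S ((tauTS e d).law.toFun' S x) = F.toFun' S x :=
  congrFun (congrFun (congrFun (congrFun (congrArg PolynomialLaw.toFun' (fromTS_law e F hF)) S) _) _) x

end Free

end Groth.Agent.PLaw
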