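import Groth.Agent.PLaw.BC
import Groth.Agent.PLaw.TSAlg

/-!
# Base change of tensor powers and symmetric tensors, compared with base change of laws
-/

universe u

open scoped TensorProduct

namespace Groth.Agent.PLaw

variable {A : Type u} [CommRing A] (A' : Type u) [CommRing A'] [Algebra A A']
  {B : Type u} [CommRing B] [Algebra A B] {d : ℕ}

/-- The map of tensor powers along a base change. -/
noncomputable def tensorBC (d : ℕ) :
    (⨂[A] _ : Fin d, B) →ₐ[A] (⨂[A'] _ : Fin d, A' ⊗[A] B) :=
  PiTensorProduct.liftAlgHom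
    (((PiTensorProduct.tprod A').restrictScalars A).compLinearMap fun _ =>
      (Algebra.TensorProduct.includeRight : B →ₐ[A] A' ⊗[A] B).toLinearMap)
    (by simp [PiTensorProduct.one_def, ← Algebra.TensorProduct.one_def]; rfl)
    (by
      intro x y
      simp only [MultilinearMap.compLinearMap_apply, MultilinearMap.coe_restrictScalars,
        PiTensorProduct.tprod_mul_tprod, AlgHom.toLinearMap_apply,
        Algebra.TensorProduct.includeRight_apply, Pi.mul_apply]
      congr 1
      funext i
      simp [Algebra.TensorProduct.tmul_mul_tmul])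

theorem tensorBC_tprod (f : Fin d → B) :
    tensorBC A' d (PiTensorProduct.tprod A f) =
      PiTensorProduct.tprod A' (fun i => (1 : A') ⊗ₜ[A] f i) := by
  simp [tensorBC]

theorem tensorBC_perm (σ : Equiv.Perm (Fin d)) (t : ⨂[A] _ : Fin d, B) :
    tensorBC A' d (SymTen.perm A B d σ t) =
      SymTen.perm A' (A' ⊗[A] B) d σ (tensorBC A' d t) := by
  induction t using PiTensorProduct.induction_on with
  | smul_tprod r f =>
    simp only [map_smul, SymTen.perm_tprod, tensorBC_tprod]
    rw [← AlgHom.toLinearMap_apply (SymTen.perm A' (A' ⊗[A] B) d σ),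
      LinearMap.map_smul_of_tower, AlgHom.toLinearMap_apply, SymTen.perm_tprod]
  | add x y hx hy => simp only [map_add, hx, hy]

theorem tensorBC_single (j : Fin d) (b : B) :
    tensorBC A' d (PiTensorProduct.singleAlgHom (A := fun _ : Fin d => B) j b) =
      PiTensorProduct.singleAlgHom (A := fun _ : Fin d => A' ⊗[A] B) j ((1 : A') ⊗ₜ[A] b) := by
  simp only [PiTensorProduct.singleAlgHom_apply, MonoidHom.mulSingle_apply, tensorBC_tprod]
  congr 1
  funext i
  by_cases hij : i = j
  · subst hij; simp
  · simp [hij, Algebra.TensorProduct.one_def]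

/-- The map of symmetric tensors along a base change. -/
noncomputable def TSBC (d : ℕ) :
    SymTen.TS A B d →ₐ[A] (SymTen.TS A' (A' ⊗[A] B) d) :=
  ((tensorBC A' d).comp (SymTen.TS A B d).val).codRestrict
    ((SymTen.TS A' (A' ⊗[A] B) d).restrictScalars A) fun t => by
      change tensorBC A' d (t : ⨂[A] _ : Fin d, B) ∈ SymTen.TS A' (A' ⊗[A] B) d
      rw [mem_TS_iff_perm]
      intro σ
      rw [← tensorBC_perm, perm_TS]

theorem TSBC_val (t : SymTen.TS A B d) :
    ((TSBC A' d t : SymTen.TS A' (A' ⊗[A] B) d) : ⨂[A'] _ : Fin d, A' ⊗[A] B) =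
      tensorBC A' d (t : ⨂[A] _ : Fin d, B) := rfl

/-- Coefficients of a base changed law. -/
theorem cf_bcOut {n : ℕ} {C : Type u} [CommRing C] [Algebra A C] {C' : Type u} [CommRing C']
    [Algebra A C'] [Algebra A' C'] [IsScalarTower A A' C'] (g : C →ₐ[A] C') (α : Fin n →₀ ℕ)
    (z : MvPolynomial (Fin n) A ⊗[A] C) :
    cf α (bcOut A' (MvPolynomial (Fin n) A') g
      ((MvPolynomial.mapAlgHom (Algebra.ofId A A')).toLinearMap.rTensor C z)) = g (cf α z) := by
  induction z using TensorProduct.induction_on with
  | zero => simp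
  | tmul p c =>
    simp only [LinearMap.rTensor_tmul, AlgHom.toLinearMap_apply, bcOut_tmul, cf_tmul, map_smul]
    rw [show MvPolynomial.mapAlgHom (Algebra.ofId A A') p = MvPolynomial.map (algebraMap A A') p
      from rfl, MvPolynomial.coeff_map, algebraMap_smul]
  | add a b ha hb => simp only [map_add, ha, hb]

/-- The tensor power law commutes with base change. -/
theorem tpowLaw_bc (R : Type u) [CommSemiring R] [Algebra A R] [Algebra A' R] [IsScalarTower A A' R]
    (x : R ⊗[A] B) :
    (SymTen.tpowLaw A' (A' ⊗[A] B) d).law.toFun' R ((bcEquiv A' R).symm x) =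
      bcOut A' R (tensorBC A' d) ((SymTen.tpowLaw A B d).law.toFun' R x) := by
  simp only [SymTen.tpowLaw, PolLaw.MulLaw.prodMap_toFun', map_prod]
  refine Finset.prod_congr rfl fun j _ => ?_
  induction x using TensorProduct.induction_on with
  | zero => simp
  | tmul r b =>
    simp only [bcEquiv_symm_tmul, bcOut_tmul, Algebra.TensorProduct.map_tmul, AlgHom.id_apply,
      tensorBC_single]
  | add a b ha hb => simp only [map_add, ha, hb]

end Groth.Agent.PLaw
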