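import Groth.Agent.PLaw.NormApp
import Groth.Agent.PLaw.GammaFlat
import Groth.Agent.PLaw.TensorBC
import Groth.Agent.WN.Basic
import Mathlib.AlgebraicGeometry.ResidueField
import Mathlib.RingTheory.Polynomial.Basic

/-!
# `Spec TS → Spec Γ` is a universal homeomorphism with trivial residue field extensions
-/

universe u

open scoped TensorProduct

namespace Groth.Agent.PLaw

variable {A : Type u} [CommRing A] {B : Type u} [CommRing B] [Algebra A B] {d : ℕ}
  {C : Type u} [CommRing C] [Algebra A C] {γ : PolLaw.MulLaw A B C d}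

section

variable (hγ : PolLaw.IsGammaD γ) (φ : C →ₐ[A] SymTen.TS A B d)
  (hφ : ∀ (S : Type u) [CommSemiring S] [Algebra A S] (x : S ⊗[A] B),
      ((SymTen.TS A B d).val.comp φ).toLinearMap.lTensor S (γ.law.toFun' S x) =
        (SymTen.tpowLaw A B d).law.toFun' S x)

include hγ hφ

theorem isIntegral_comparison : φ.toRingHom.IsIntegral := by
  intro y
  obtain ⟨c, hc⟩ := (pow_factorial_comparison γ hγ φ hφ).2 y
  let _ := φ.toRingHom.toAlgebra
  exact IsIntegral.of_pow d.factorial_pos (hc ▸ φ.toRingHom.isIntegralElem_map (x := c))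

theorem surj_comparison : Function.Surjective (PrimeSpectrum.comap φ.toRingHom) :=
  WN.surj_of_isIntegral_of_ker_le (isIntegral_comparison hγ φ hφ) fun x hx =>
    mem_nilradical.mpr ⟨_, (pow_factorial_comparison γ hγ φ hφ).1 x (RingHom.mem_ker.mp hx)⟩

open Polynomial in
theorem radicial_comparison : WN.IsRadicial φ.toRingHom := by
  intro K _ g₁ g₂ hg
  refine RingHom.ext fun y => ?_
  obtain ⟨F, hF, -⟩ := exists_norm_TS γ hγ φ hφ
  let S := Polynomial A
  let z : S ⊗[A] SymTen.TS A B d := (X : S) ⊗ₜ[A] 1 + (1 : S) ⊗ₜ[A] y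
  have hw : φ.toLinearMap.lTensor S (F.law.toFun' S z) = z ^ d.factorial :=
    law_congr (congrArg PolLaw.MulLaw.law hF) S z
  -- evaluate at the two points
  letI : Algebra A K := (g₁.comp (algebraMap A (SymTen.TS A B d))).toAlgebra
  have hA : ∀ g : SymTen.TS A B d →+* K, g.comp φ.toRingHom = g₁.comp φ.toRingHom →
      ∀ a, g (algebraMap A (SymTen.TS A B d) a) = algebraMap A K a := fun g h a => by
    rw [← φ.commutes]
    exact (RingHom.congr_fun h (algebraMap A C a)).trans (congrArg g₁ (φ.commutes a))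
  let G : ∀ g : SymTen.TS A B d →+* K, g.comp φ.toRingHom = g₁.comp φ.toRingHom →
      (SymTen.TS A B d →ₐ[A] K) := fun g h =>
    { g with commutes' := hA g h }
  let ev : ∀ g : SymTen.TS A B d →+* K, g.comp φ.toRingHom = g₁.comp φ.toRingHom →
      (S ⊗[A] SymTen.TS A B d →ₐ[A] K[X]) := fun g h =>
    Algebra.TensorProduct.lift (Polynomial.mapAlgHom (Algebra.ofId A K))
      ((IsScalarTower.toAlgHom A K K[X]).comp (G g h)) fun _ _ => Commute.all _ _
  have hev : ∀ g h, ev g h (φ.toLinearMap.lTensor S (F.law.toFun' S z)) =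
      ev g₁ rfl (φ.toLinearMap.lTensor S (F.law.toFun' S z)) := by
    intro g h
    generalize F.law.toFun' S z = w
    induction w using TensorProduct.induction_on with
    | zero => simp
    | tmul s c =>
      simp only [LinearMap.lTensor_tmul, AlgHom.toLinearMap_apply, ev,
        Algebra.TensorProduct.lift_tmul, AlgHom.comp_apply]
      congr 2
      exact RingHom.congr_fun h c
    | add a b ha hb => simp only [map_add, ha, hb]
  have h := hev g₂ hg.symm
  rw [hw, map_pow, map_pow] at h
  have hz : ∀ g h, ev g h z = X + Polynomial.C (g y) := by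
    intro g h
    simp only [z, map_add, ev, Algebra.TensorProduct.lift_tmul, map_one, mul_one, one_mul,
      AlgHom.comp_apply, IsScalarTower.coe_toAlgHom', Polynomial.algebraMap_eq]
    congr 1
    exact Polynomial.map_X _
  rw [hz g₂ hg.symm, hz g₁ rfl] at h
  have h' := congrArg (Polynomial.eval (-(g₂ y))) h
  simp only [eval_pow, eval_add, eval_X, eval_C, neg_add_cancel,
    zero_pow d.factorial_ne_zero] at h'
  exact (sub_eq_zero.mp (by linear_combination (eq_zero_of_pow_eq_zero h'.symm) :
    g₁ y - g₂ y = 0))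

theorem isRadHomeo_comparison : WN.IsRadHomeo φ.toRingHom :=
  ⟨isIntegral_comparison hγ φ hφ, surj_comparison hγ φ hφ, radicial_comparison hγ φ hφ⟩

/-- A point of `Γ` with values in a field extends to `TS`, over the same field. -/
theorem exists_section_point (k : Type u) [Field k] [Algebra A k] (c : C →ₐ[A] k) :
    ∃ ψ : SymTen.TS A B d →ₐ[A] k, ψ.comp φ = c := by
  obtain ⟨τ, hτ, hg⟩ :=
    exists_isGammaD_TS (A := k) (B := k ⊗[A] B) (d := d) (Or.inl inferInstance)
  obtain ⟨f, hf, -⟩ := hg k (lawBC k c γ)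
  refine ⟨(f.restrictScalars A).comp (TSBC k d), ?_⟩
  obtain ⟨i, -, hi⟩ := hγ k (PolLaw.MulLaw.postcomp c γ)
  refine (hi _ ?_).trans (hi _ rfl).symm
  change PolLaw.postcomp _ γ.law = PolLaw.postcomp c.toLinearMap γ.law
  refine law_ext_mvPolynomial fun n x => cf_ext fun α => ?_
  rw [postcomp_apply, postcomp_apply, cf_lTensor, cf_lTensor]
  let R := MvPolynomial (Fin n) k
  let μ : MvPolynomial (Fin n) A →ₐ[A] R := MvPolynomial.mapAlgHom (Algebra.ofId A k)
  let xk := (bcEquiv k R).symm (μ.toLinearMap.rTensor B x)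
  have h1 : c.toLinearMap (cf α (γ.law.toFun' _ x)) = cf α ((lawBC k c γ).law.toFun' R xk) := by
    rw [lawBC_apply', ← compat, cf_bcOut]
    rfl
  have h2 : (cf α (τ.law.toFun' R xk) : SymTen.TS k (k ⊗[A] B) d) =
      TSBC k d (φ (cf α (γ.law.toFun' _ x))) := by
    apply Subtype.ext
    rw [TSBC_val]
    change (SymTen.TS k (k ⊗[A] B) d).val.toLinearMap _ =
      tensorBC k d (((SymTen.TS A B d).val.comp φ).toLinearMap _)
    rw [← cf_lTensor, ← cf_lTensor, hτ, hφ, tpowLaw_bc, ← compat, cf_bcOut]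
  rw [h1, AlgHom.comp_toLinearMap, LinearMap.comp_apply]
  change f (TSBC k d (φ (cf α (γ.law.toFun' _ x)))) = _
  rw [← h2, ← law_congr hf R xk, postcomp_apply, cf_lTensor]
  rfl

open AlgebraicGeometry CategoryTheory in
theorem residueFieldMap_surjective (x : ↥(Spec (CommRingCat.of (SymTen.TS A B d)))) :
    Function.Surjective
      ((Spec.map (CommRingCat.ofHom φ.toRingHom)).residueFieldMap x).hom := by
  let f := Spec.map (CommRingCat.ofHom φ.toRingHom)
  let T := CommRingCat.of (SymTen.TS A B d)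
  let eT : T ⟶ (Spec T).residueField x := (Scheme.ΓSpecIso T).inv ≫ (Spec T).Γevaluation x
  let eC : CommRingCat.of C ⟶ (Spec (CommRingCat.of C)).residueField (f x) :=
    (Scheme.ΓSpecIso _).inv ≫ (Spec (CommRingCat.of C)).Γevaluation (f x)
  have hcomm : eC ≫ f.residueFieldMap x = CommRingCat.ofHom φ.toRingHom ≫ eT := by
    simp only [eC, eT, Category.assoc]
    rw [Scheme.Γevaluation_naturality, reassoc_of% Scheme.ΓSpecIso_inv_naturality]
  letI : Algebra A ((Spec (CommRingCat.of C)).residueField (f x)) :=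
    (eC.hom.comp (algebraMap A C)).toAlgebra
  let c : C →ₐ[A] (Spec (CommRingCat.of C)).residueField (f x) :=
    { eC.hom with commutes' := fun _ => rfl }
  obtain ⟨ψ, hψ⟩ := exists_section_point hγ φ hφ _ c
  have heq : ((f.residueFieldMap x).hom.comp ψ.toRingHom :
      SymTen.TS A B d →+* (Spec T).residueField x) = eT.hom := by
    refine radicial_comparison hγ φ hφ _ _ _ (RingHom.ext fun a => ?_)
    refine (congrArg (f.residueFieldMap x).hom (AlgHom.congr_fun hψ a)).trans ?_
    exact ConcreteCategory.congr_hom hcomm a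
  have : x.asIdeal.IsPrime := x.isPrime
  have heT : eT = CommRingCat.ofHom (algebraMap T x.asIdeal.ResidueField) ≫
      (Scheme.Spec.residueFieldIso T x).inv :=
    (Scheme.Spec.algebraMap_residueFieldIso_inv T x).symm
  intro y
  obtain ⟨a, s, -, hy⟩ := IsFractionRing.div_surjective (A := T ⧸ x.asIdeal)
    ((Scheme.Spec.residueFieldIso T x).hom y)
  obtain ⟨a, rfl⟩ := Ideal.Quotient.mk_surjective a
  obtain ⟨s, rfl⟩ := Ideal.Quotient.mk_surjective s
  refine ⟨ψ a / ψ s, ?_⟩
  have key : ∀ t : T, (f.residueFieldMap x).hom (ψ t) = (Scheme.Spec.residueFieldIso T x).inv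
      (algebraMap (T ⧸ x.asIdeal) x.asIdeal.ResidueField (Ideal.Quotient.mk _ t)) := fun t => by
    refine (RingHom.congr_fun heq t).trans ?_
    rw [heT, Ideal.algebraMap_quotient_residueField_mk]
    rfl
  rw [map_div₀]
  calc _ = (Scheme.Spec.residueFieldIso T x).inv ((Scheme.Spec.residueFieldIso T x).hom y) := by
        rw [← hy, map_div₀]
        exact congrArg₂ (· / ·) (key a) (key s)
    _ = y := Iso.hom_inv_id_apply _ _

end

end Groth.Agent.PLaw
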