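import Groth.Agent.PLaw.SymFree
import Mathlib.RingTheory.Flat.EquationalCriterion
import Mathlib.LinearAlgebra.Multilinear.Basic

/-!
# Kernels of tensor powers and symmetric tensors of flat modules
-/

universe u v w

open scoped TensorProduct

namespace Groth.Agent.PLaw

section Kernel

variable {A : Type*} [CommRing A] {M : Type*} [AddCommGroup M] [Module A M]
  {N : Type*} [AddCommGroup N] [Module A N] {d : ℕ}

/-- The pure tensors with an entry in `K`. -/
def slotSet (d : ℕ) (K : Submodule A M) : Set (⨂[A] _ : Fin d, M) :=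
  {t | ∃ f : Fin d → M, (∃ i, f i ∈ K) ∧ t = PiTensorProduct.tprod A f}

theorem tprod_sub_mem_span (π : M →ₗ[A] N) {f g : Fin d → M} (h : ∀ i, π (f i) = π (g i)) :
    PiTensorProduct.tprod A f - PiTensorProduct.tprod A g ∈
      Submodule.span A (slotSet d (LinearMap.ker π)) := by
  classical
  suffices H : ∀ s : Finset (Fin d),
      PiTensorProduct.tprod A (s.piecewise g f) - PiTensorProduct.tprod A f ∈
        Submodule.span A (slotSet d (LinearMap.ker π)) by
    have := H Finset.univ
    rw [Finset.piecewise_univ] at this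
    simpa using (Submodule.neg_mem _ this)
  intro s
  induction s using Finset.induction_on with
  | empty => simp
  | insert i s hi ih =>
    have hstep : PiTensorProduct.tprod A ((insert i s).piecewise g f) -
        PiTensorProduct.tprod A (s.piecewise g f) ∈
          Submodule.span A (slotSet d (LinearMap.ker π)) := by
      refine Submodule.subset_span
        ⟨Function.update (s.piecewise g f) i (g i - f i), ⟨i, by simp [h i]⟩, ?_⟩
      rw [MultilinearMap.map_update_sub, Finset.piecewise_insert]
      congr 2
      funext j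
      by_cases hj : j = i
      · subst hj; simp [hi]
      · simp [hj]
    simpa using Submodule.add_mem _ hstep ih

/-- The kernel of the tensor power of a surjection is spanned by the pure tensors with an entry in
the kernel. -/
theorem ker_map_le_span (π : M →ₗ[A] N) (hπ : Function.Surjective π) :
    LinearMap.ker (PiTensorProduct.map fun _ : Fin d => π) ≤
      Submodule.span A (slotSet d (LinearMap.ker π)) := by
  classical
  let J := Submodule.span A (slotSet d (LinearMap.ker π))
  let lift := Function.surjInv hπ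
  have hlift : ∀ y, π (lift y) = y := Function.surjInv_eq hπ
  have hmk : ∀ f g : Fin d → M, (∀ i, π (f i) = π (g i)) →
      J.mkQ (PiTensorProduct.tprod A f) = J.mkQ (PiTensorProduct.tprod A g) := fun f g h => by
    rw [← sub_eq_zero, ← map_sub]
    exact (Submodule.Quotient.mk_eq_zero J).mpr (tprod_sub_mem_span π h)
  let L : MultilinearMap A (fun _ : Fin d => N) ((⨂[A] _ : Fin d, M) ⧸ J) :=
    { toFun := fun f => J.mkQ (PiTensorProduct.tprod A fun i => lift (f i))
      map_update_add' := by
        intro _ f i x y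
        rw [← map_add, hmk _ (Function.update (fun j => lift (f j)) i (lift x + lift y)),
          MultilinearMap.map_update_add, map_add, map_add]
        · congr 1 <;> refine hmk _ _ fun j => ?_ <;> by_cases hj : j = i <;>
            first | (subst hj; simp [hlift]) | simp [hj, hlift]
        · intro j
          by_cases hj : j = i
          · subst hj; simp [hlift]
          · simp [hj]
      map_update_smul' := by
        intro _ f i c x
        rw [← map_smul, hmk _ (Function.update (fun j => lift (f j)) i (c • lift x)),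
          MultilinearMap.map_update_smul, map_smul, map_smul]
        · congr 1
          refine hmk _ _ fun j => ?_
          by_cases hj : j = i
          · subst hj; simp [hlift]
          · simp [hj, hlift]
        · intro j
          by_cases hj : j = i
          · subst hj; simp [hlift]
          · simp [hj] }
  have hL : (PiTensorProduct.lift L) ∘ₗ (PiTensorProduct.map fun _ : Fin d => π) = J.mkQ := by
    refine PiTensorProduct.ext (MultilinearMap.ext fun f => ?_)
    simp only [LinearMap.compMultilinearMap_apply, LinearMap.comp_apply, PiTensorProduct.map_tprod,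
      PiTensorProduct.lift.tprod]
    exact hmk _ _ fun i => hlift _
  intro t ht
  change t ∈ J
  rw [← Submodule.ker_mkQ J, LinearMap.mem_ker, ← hL, LinearMap.comp_apply, LinearMap.mem_ker.mp ht,
    map_zero]

theorem span_le_ker_map (π : M →ₗ[A] N) :
    Submodule.span A (slotSet d (LinearMap.ker π)) ≤
      LinearMap.ker (PiTensorProduct.map fun _ : Fin d => π) := by
  rw [Submodule.span_le]
  rintro _ ⟨f, ⟨i, hi⟩, rfl⟩
  simp only [SetLike.mem_coe, LinearMap.mem_ker, PiTensorProduct.map_tprod]
  exact (PiTensorProduct.tprod A).map_coord_zero i (by simpa using hi)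

theorem map_surjective {π : M →ₗ[A] N} (hπ : Function.Surjective π) :
    Function.Surjective (PiTensorProduct.map fun _ : Fin d => π) := by
  intro t
  induction t using PiTensorProduct.induction_on with
  | smul_tprod r f =>
    exact ⟨r • PiTensorProduct.tprod A fun i => Function.surjInv hπ (f i),
      by simp [Function.surjInv_eq]⟩
  | add x y hx hy =>
    obtain ⟨a, rfl⟩ := hx
    obtain ⟨b, rfl⟩ := hy
    exact ⟨a + b, map_add _ a b⟩

theorem map_reindex_comm (g : M →ₗ[A] N) (σ : Equiv.Perm (Fin d)) (t : ⨂[A] _ : Fin d, M) :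
    PiTensorProduct.map (fun _ : Fin d => g) (PiTensorProduct.reindex A (fun _ : Fin d => M) σ t) =
      PiTensorProduct.reindex A (fun _ : Fin d => N) σ
        (PiTensorProduct.map (fun _ : Fin d => g) t) := by
  induction t using PiTensorProduct.induction_on with
  | smul_tprod r f => simp [PiTensorProduct.reindex_tprod]
  | add x y hx hy => simp [hx, hy]

theorem map_mem_symTen (g : M →ₗ[A] N) {t : ⨂[A] _ : Fin d, M} (ht : t ∈ symTen A M d) :
    PiTensorProduct.map (fun _ : Fin d => g) t ∈ symTen A N d := by
  rw [mem_symTen] at ht ⊢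
  intro σ
  rw [← map_reindex_comm, ht σ]

end Kernel

section Flat

variable {A : Type u} [CommRing A] {M : Type v} [AddCommGroup M] [Module A M] {d : ℕ}

/-- Finitely many tensors killed by a map from a finite free module to a flat module are killed at a
finite free stage. -/
theorem exists_kill [Module.Flat A M] {F : Type u} [AddCommGroup F] [Module A F] [Module.Free A F]
    [Module.Finite A F] (g : F →ₗ[A] M) {ι : Type*} (U : Finset ι) (u : ι → ⨂[A] _ : Fin d, F)
    (hu : ∀ i ∈ U, PiTensorProduct.map (fun _ : Fin d => g) (u i) = 0) :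
    ∃ (k : ℕ) (a : F →ₗ[A] (Fin k →₀ A)) (y : (Fin k →₀ A) →ₗ[A] M),
      g = y ∘ₗ a ∧ ∀ i ∈ U, PiTensorProduct.map (fun _ : Fin d => a) (u i) = 0 := by
  classical
  let e := Module.Free.chooseBasis A F
  let π : (M →₀ A) →ₗ[A] M := Finsupp.linearCombination A _root_.id
  have hπ : Function.Surjective π := fun m => ⟨Finsupp.single m 1, by simp [π]⟩
  let j : F →ₗ[A] (M →₀ A) := e.constr A fun k => Finsupp.single (g (e k)) 1
  have hj : π ∘ₗ j = g := e.ext fun k => by simp [π, j]
  have hker : ∀ i ∈ U, PiTensorProduct.map (fun _ : Fin d => j) (u i) ∈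
      Submodule.span A (slotSet d (LinearMap.ker π)) := fun i hi => by
    refine ker_map_le_span π hπ ?_
    rw [LinearMap.mem_ker, ← LinearMap.comp_apply, ← PiTensorProduct.map_comp, hj]
    exact hu i hi
  have hfin : ∀ i, ∃ T : Finset (⨂[A] _ : Fin d, M →₀ A), ↑T ⊆ slotSet d (LinearMap.ker π) ∧
      (i ∈ U → PiTensorProduct.map (fun _ : Fin d => j) (u i) ∈ Submodule.span A ↑T) := fun i => by
    by_cases hi : i ∈ U
    · obtain ⟨T, hT, hmem⟩ := Submodule.mem_span_finite_of_mem_span (hker i hi)
      exact ⟨T, hT, fun _ => hmem⟩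
    · exact ⟨∅, by simp, fun h => absurd h hi⟩
  choose T hT hmem using hfin
  let TT := U.biUnion T
  have hTT : ↑TT ⊆ slotSet d (LinearMap.ker π) := by
    intro x hx
    obtain ⟨i, -, hi⟩ := Finset.mem_biUnion.mp hx
    exact hT i hi
  choose f hf using fun t : {t // t ∈ TT} => hTT t.2
  let s : Finset M := Finset.univ.image (fun k => g (e k)) ∪
    (Finset.univ : Finset {t // t ∈ TT}).biUnion fun t => Finset.univ.biUnion fun i => (f t i).support
  -- the restriction to the coordinates in `s`
  let r : (M →₀ A) →ₗ[A] ({m // m ∈ s} →₀ A) := Finsupp.lsum A fun m =>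
    if h : m ∈ s then Finsupp.lsingle ⟨m, h⟩ else 0
  let π' : ({m // m ∈ s} →₀ A) →ₗ[A] M := Finsupp.linearCombination A Subtype.val
  have hr : ∀ x : M →₀ A, ↑x.support ⊆ (s : Set M) → π' (r x) = π x := by
    intro x hx
    conv_rhs => rw [show π x = Finsupp.linearCombination A _root_.id x from rfl,
      Finsupp.linearCombination_apply, Finsupp.sum]
    simp only [r, Finsupp.lsum_apply, Finsupp.sum, map_sum]
    refine Finset.sum_congr rfl fun m hm => ?_
    have hms : m ∈ s := hx hm
    rw [dif_pos hms, Finsupp.lsingle_apply, Finsupp.linearCombination_single]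
    rfl
  have hgs : ∀ k, r (j (e k)) = Finsupp.single ⟨g (e k), by simp [s]⟩ 1 := fun k => by
    have hk : g (e k) ∈ s := by simp [s]
    simp only [j, r, Module.Basis.constr_basis, Finsupp.lsum_single, dif_pos hk,
      Finsupp.lsingle_apply]
  have hg : π' ∘ₗ (r ∘ₗ j) = g := e.ext fun k => by
    rw [LinearMap.comp_apply, LinearMap.comp_apply, hgs]
    simp [π']
  let κ : ({t // t ∈ TT} →₀ A) →ₗ[A] ({m // m ∈ s} →₀ A) :=
    Finsupp.linearCombination A fun t => r (f t (hf t).1.choose)
  have hκ : π' ∘ₗ κ = 0 := by
    refine Finsupp.lhom_ext fun t a => ?_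
    simp only [κ, LinearMap.comp_apply, Finsupp.linearCombination_single, map_smul,
      LinearMap.zero_apply]
    rw [hr]
    · rw [LinearMap.mem_ker.mp (hf t).1.choose_spec, smul_zero]
    · intro m hm
      simp only [Finset.coe_union, Set.mem_union, Finset.mem_coe, s, Finset.mem_biUnion,
        Finset.mem_univ, true_and]
      exact Or.inr ⟨t, _, hm⟩
  obtain ⟨k, a, y, hy, ha⟩ := Module.Flat.exists_factorization_of_comp_eq_zero_of_free hκ
  refine ⟨k, a ∘ₗ (r ∘ₗ j), y, by rw [← LinearMap.comp_assoc, ← hy, hg], fun i hi => ?_⟩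
  have hzero : Submodule.span A (↑TT : Set (⨂[A] _ : Fin d, M →₀ A)) ≤
      LinearMap.ker (PiTensorProduct.map fun _ : Fin d => a ∘ₗ r) := by
    rw [Submodule.span_le]
    intro t ht
    have htf := (hf ⟨t, ht⟩)
    simp only [SetLike.mem_coe, LinearMap.mem_ker]
    rw [show t = PiTensorProduct.tprod A (f ⟨t, ht⟩) from htf.2, PiTensorProduct.map_tprod]
    refine (PiTensorProduct.tprod A).map_coord_zero htf.1.choose ?_
    have := LinearMap.congr_fun ha (Finsupp.single ⟨t, ht⟩ 1)
    simpa [κ] using this
  rw [← LinearMap.comp_assoc, PiTensorProduct.map_comp, LinearMap.comp_apply]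
  exact hzero ((Submodule.span_mono (Finset.coe_subset.mpr (Finset.subset_biUnion_of_mem T hi)))
    (hmem i hi))

/-- A symmetric tensor of a flat module comes from a symmetric tensor of a finite free module. -/
theorem exists_lift_symTen [Module.Flat A M] {t : ⨂[A] _ : Fin d, M} (ht : t ∈ symTen A M d) :
    ∃ (k : ℕ) (g : (Fin k →₀ A) →ₗ[A] M) (u : ⨂[A] _ : Fin d, Fin k →₀ A),
      u ∈ symTen A (Fin k →₀ A) d ∧ PiTensorProduct.map (fun _ : Fin d => g) u = t := by
  classical
  -- lift to some finite free module
  have hex : ∀ t : ⨂[A] _ : Fin d, M, ∃ (k : ℕ) (g : (Fin k →₀ A) →ₗ[A] M)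
      (u : ⨂[A] _ : Fin d, Fin k →₀ A), PiTensorProduct.map (fun _ : Fin d => g) u = t := by
    intro t
    induction t using PiTensorProduct.induction_on with
    | smul_tprod r f =>
      exact ⟨d, Finsupp.linearCombination A f,
        r • PiTensorProduct.tprod A fun i => Finsupp.single i 1, by simp⟩
    | add x y hx hy =>
      obtain ⟨k, g, u, rfl⟩ := hx
      obtain ⟨k', g', u', rfl⟩ := hy
      let i₁ : (Fin k →₀ A) →ₗ[A] (Fin (k + k') →₀ A) := Finsupp.lmapDomain A A (Fin.castAdd k')
      let i₂ : (Fin k' →₀ A) →ₗ[A] (Fin (k + k') →₀ A) := Finsupp.lmapDomain A A (Fin.natAdd k)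
      let G : (Fin (k + k') →₀ A) →ₗ[A] M := Finsupp.linearCombination A
        (Fin.append (fun i => g (Finsupp.single i 1)) fun i => g' (Finsupp.single i 1))
      have h1 : G ∘ₗ i₁ = g := Finsupp.lhom_ext fun i a => by
        simp [G, i₁, ← map_smul, Finsupp.smul_single]
      have h2 : G ∘ₗ i₂ = g' := Finsupp.lhom_ext fun i a => by
        simp [G, i₂, ← map_smul, Finsupp.smul_single]
      exact ⟨k + k', G, PiTensorProduct.map (fun _ : Fin d => i₁) u +
        PiTensorProduct.map (fun _ : Fin d => i₂) u', by
        rw [map_add, ← LinearMap.comp_apply, ← PiTensorProduct.map_comp, h1, ← LinearMap.comp_apply,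
          ← PiTensorProduct.map_comp, h2]⟩
  obtain ⟨k, g, u, rfl⟩ := hex t
  obtain ⟨k', a, y, hy, ha⟩ := exists_kill g Finset.univ
    (fun σ : Equiv.Perm (Fin d) => PiTensorProduct.reindex A (fun _ : Fin d => Fin k →₀ A) σ u - u)
    (fun σ _ => by rw [map_sub, map_reindex_comm, mem_symTen.mp ht σ, sub_self])
  refine ⟨k', y, PiTensorProduct.map (fun _ : Fin d => a) u, ?_, ?_⟩
  · rw [mem_symTen]
    intro σ
    have h := ha σ (Finset.mem_univ σ)
    rw [map_sub, sub_eq_zero] at h
    rw [← map_reindex_comm]
    exact h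
  · rw [← LinearMap.comp_apply, ← PiTensorProduct.map_comp, ← hy]

/-- Symmetric tensors of a flat module lift along surjections. -/
theorem exists_symTen_map_eq [Module.Flat A M] {P : Type*} [AddCommGroup P] [Module A P]
    (f : P →ₗ[A] M) (hf : Function.Surjective f) {t : ⨂[A] _ : Fin d, M} (ht : t ∈ symTen A M d) :
    ∃ s ∈ symTen A P d, PiTensorProduct.map (fun _ : Fin d => f) s = t := by
  obtain ⟨k, g, u, hu, rfl⟩ := exists_lift_symTen ht
  obtain ⟨h, hh⟩ := Module.projective_lifting_property f g hf
  refine ⟨PiTensorProduct.map (fun _ : Fin d => h) u, map_mem_symTen h hu, ?_⟩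
  rw [← LinearMap.comp_apply, ← PiTensorProduct.map_comp, hh]

theorem isTrivialRelation_symTen_of_free {N : Type*} [AddCommGroup N] [Module A N] [Module.Free A N]
    {l : ℕ} {f : Fin l → A} {x : Fin l → symTen A N d} (h : ∑ i, f i • x i = 0) :
    Module.IsTrivialRelation f x :=
  haveI := projective_symTen (A := A) (M := N) (d := d)
  Module.Flat.isTrivialRelation_of_sum_smul_eq_zero h

/-- Symmetric tensors of a flat module form a flat module. -/
theorem flat_symTen [Module.Flat A M] : Module.Flat A (symTen A M d) := by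
  classical
  refine Module.Flat.of_forall_isTrivialRelation fun {l f x} hfx => ?_
  -- lift all the `x i` to a common finite free module
  choose k g u hu hgu using fun i => exists_lift_symTen (x i).2
  let F := (Σ i : Fin l, Fin (k i)) →₀ A
  let incl : ∀ i, (Fin (k i) →₀ A) →ₗ[A] F := fun i =>
    Finsupp.lmapDomain A A fun m => (⟨i, m⟩ : Σ i : Fin l, Fin (k i))
  let G : F →ₗ[A] M := Finsupp.linearCombination A fun p => g p.1 (Finsupp.single p.2 1)
  have hG : ∀ i, G ∘ₗ incl i = g i := fun i => Finsupp.lhom_ext fun m a => by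
    simp only [G, incl, LinearMap.comp_apply]
    erw [Finsupp.lmapDomain_apply, Finsupp.mapDomain_single, Finsupp.linearCombination_single]
    rw [← map_smul, Finsupp.smul_single, smul_eq_mul, mul_one]
  let U : ⨂[A] _ : Fin d, F := ∑ i, f i • PiTensorProduct.map (fun _ : Fin d => incl i) (u i)
  have hU : PiTensorProduct.map (fun _ : Fin d => G) U = 0 := by
    simp only [U, map_sum, map_smul]
    have := congrArg Subtype.val hfx
    simp only [Submodule.coe_sum, Submodule.coe_smul, Submodule.coe_zero] at this
    rw [← this]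
    refine Finset.sum_congr rfl fun i _ => ?_
    rw [← LinearMap.comp_apply, ← PiTensorProduct.map_comp, hG, hgu]
  obtain ⟨k', a, y, hy, ha⟩ := exists_kill G ({()} : Finset Unit) (fun _ => U) (fun _ _ => hU)
  let z : Fin l → symTen A (Fin k' →₀ A) d := fun i =>
    ⟨PiTensorProduct.map (fun _ : Fin d => a) (PiTensorProduct.map (fun _ : Fin d => incl i) (u i)),
      map_mem_symTen a (map_mem_symTen _ (hu i))⟩
  have hz : ∑ i, f i • z i = 0 := Subtype.ext (by
    simpa [z, U, map_sum, map_smul] using ha () (by simp))
  obtain ⟨m, b, w, hw, hb⟩ := isTrivialRelation_symTen_of_free hz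
  refine ⟨m, b, fun j => ⟨PiTensorProduct.map (fun _ : Fin d => y) (w j),
    map_mem_symTen y (w j).2⟩, fun i => Subtype.ext ?_, hb⟩
  simp only [Submodule.coe_sum, Submodule.coe_smul]
  have h := congrArg (fun t : symTen A (Fin k' →₀ A) d =>
    PiTensorProduct.map (fun _ : Fin d => y) (t : ⨂[A] _ : Fin d, Fin k' →₀ A)) (hw i)
  simp only [Submodule.coe_sum, Submodule.coe_smul, map_sum, map_smul, z] at h
  rw [← h, ← LinearMap.comp_apply, ← PiTensorProduct.map_comp, ← LinearMap.comp_apply,
    ← PiTensorProduct.map_comp, ← hy, hG, hgu]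

end Flat

end Groth.Agent.PLaw
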