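import Groth.Agent.PLaw.Gamma
import Groth.Agent.PLaw.SymFlat

/-!
# The comparison map from divided powers to symmetric tensors
-/

universe u

open scoped TensorProduct

namespace Groth.Agent.PLaw

variable {A : Type u} [CommRing A] {B : Type u} [CommRing B] [Algebra A B] {P : Type u} [CommRing P]
  [Algebra A P] {d : ℕ} {κ : Type u} (e : Module.Basis κ A P) {π : P →ₐ[A] B}
  (hπ : Function.Surjective π)

theorem tmap_toLinearMap (π : P →ₐ[A] B) :
    (SymTen.tmap A d π).toLinearMap = PiTensorProduct.map fun _ : Fin d => π.toLinearMap :=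
  PiTensorProduct.ext (MultilinearMap.ext fun f => by simp)

theorem tmap_surjective (hπ : Function.Surjective π) :
    Function.Surjective (SymTen.tmap A d π) := by
  intro t
  obtain ⟨u, hu⟩ := map_surjective (d := d) (π := π.toLinearMap) hπ t
  exact ⟨u, (LinearMap.congr_fun (tmap_toLinearMap π) u).trans hu⟩

theorem tmap_perm (σ : Equiv.Perm (Fin d)) (t : ⨂[A] _ : Fin d, P) :
    SymTen.tmap A d π (SymTen.perm A P d σ t) = SymTen.perm A B d σ (SymTen.tmap A d π t) := by
  rw [SymTen.perm_apply, SymTen.perm_apply, SymTen.tmap_reindex]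

theorem tmap_singleAlgHom (j : Fin d) (p : P) :
    SymTen.tmap A d π (PiTensorProduct.singleAlgHom (A := fun _ : Fin d => P) j p) =
      PiTensorProduct.singleAlgHom (A := fun _ : Fin d => B) j (π p) := by
  simp only [PiTensorProduct.singleAlgHom_apply, MonoidHom.mulSingle_apply, SymTen.tmap_tprod]
  congr 1
  funext i
  by_cases hij : i = j
  · subst hij; simp
  · simp [hij]

/-- Naturality of the tensor power law. -/
theorem lTensor_tmap_tpowLaw {S : Type u} [CommSemiring S] [Algebra A S] (x : S ⊗[A] P) :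
    (SymTen.tmap A d π).toLinearMap.lTensor S ((SymTen.tpowLaw A P d).law.toFun' S x) =
      (SymTen.tpowLaw A B d).law.toFun' S (π.toLinearMap.lTensor S x) := by
  simp only [SymTen.tpowLaw, PolLaw.MulLaw.prodMap_toFun', PolLaw.lTensor_algHom_apply, map_prod]
  refine Finset.prod_congr rfl fun j _ => ?_
  induction x using TensorProduct.induction_on with
  | zero => simp
  | tmul s p => simp only [Algebra.TensorProduct.map_tmul, AlgHom.id_apply, tmap_singleAlgHom]
  | add a b ha hb => simp only [map_add, ha, hb]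

variable {C : Type u} [CommRing C] [Algebra A C] (γ : PolLaw.MulLaw A B C d)

/-- The defining formula of the comparison map says that it carries `γ` to the tensor power law. -/
theorem val_comp_apply (φ : C →ₐ[A] SymTen.TS A B d)
    (hφ : ∀ (S : Type u) [CommSemiring S] [Algebra A S] (n : ℕ) (s : Fin n → S) (b : Fin n → B),
      ((SymTen.TS A B d).val.comp φ).toLinearMap.lTensor S (γ.law.toFun' S (∑ j, s j ⊗ₜ[A] b j)) =
        ∑ c : Fin d → Fin n, (∏ i, s (c i)) ⊗ₜ[A] PiTensorProduct.tprod A (fun i => b (c i)))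
    (S : Type u) [CommSemiring S] [Algebra A S] (x : S ⊗[A] B) :
    ((SymTen.TS A B d).val.comp φ).toLinearMap.lTensor S (γ.law.toFun' S x) =
      (SymTen.tpowLaw A B d).law.toFun' S x := by
  classical
  obtain ⟨n, s, m, rfl⟩ := exists_sum_tmul x
  rw [hφ, tpowLaw_sum]
  simp

include e in
/-- The comparison map is induced by `TS` of the presentation. -/
theorem val_comp_pres {φ : C →ₐ[A] SymTen.TS A B d}
    (hφ : ∀ (S : Type u) [CommSemiring S] [Algebra A S] (x : S ⊗[A] B),
      ((SymTen.TS A B d).val.comp φ).toLinearMap.lTensor S (γ.law.toFun' S x) =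
        (SymTen.tpowLaw A B d).law.toFun' S x)
    {q : SymTen.TS A P d →ₐ[A] C}
    (hq : ∀ (S : Type u) [CommSemiring S] [Algebra A S] (x : S ⊗[A] P),
        q.toLinearMap.lTensor S ((tauTS e d).law.toFun' S x) =
          γ.law.toFun' S (π.toLinearMap.lTensor S x)) :
    φ.comp q = SymTen.TSmap A d π := by
  suffices h : (SymTen.TS A B d).val.comp (φ.comp q) =
      (SymTen.tmap A d π).comp (SymTen.TS A P d).val from
    AlgHom.ext fun t => Subtype.ext (AlgHom.congr_fun h t)
  refine algHom_ext_TS e fun S _ _ x => ?_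
  rw [← AlgHom.comp_assoc, AlgHom.comp_toLinearMap, LinearMap.lTensor_comp, LinearMap.comp_apply, hq,
    hφ, AlgHom.comp_toLinearMap, LinearMap.lTensor_comp, LinearMap.comp_apply, tauTS_val,
    lTensor_tmap_tpowLaw]

/-- The symmetrisation of a tensor, as an element of `TS`. -/
noncomputable def symmTS (t : ⨂[A] _ : Fin d, P) : SymTen.TS A P d :=
  ⟨∑ σ : Equiv.Perm (Fin d), SymTen.perm A P d σ t, mem_TS_iff_perm.mpr fun τ => by
    rw [map_sum]
    simp only [perm_comp]
    exact Equiv.sum_comp (Equiv.mulLeft τ) fun σ => SymTen.perm A P d σ t⟩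

theorem symmTS_add (t t' : ⨂[A] _ : Fin d, P) : symmTS (t + t') = symmTS t + symmTS t' :=
  Subtype.ext (by simp [symmTS, map_add, Finset.sum_add_distrib])

theorem symmTS_smul (a : A) (t : ⨂[A] _ : Fin d, P) : symmTS (a • t) = a • symmTS t :=
  Subtype.ext (by simp [symmTS, map_smul, Finset.smul_sum])

/-- Symmetrisation, linearly. -/
noncomputable def symmTSₗ : (⨂[A] _ : Fin d, P) →ₗ[A] SymTen.TS A P d where
  toFun := symmTS
  map_add' := symmTS_add
  map_smul' := symmTS_smul

theorem symmTS_val (t : SymTen.TS A P d) :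
    symmTS (t : ⨂[A] _ : Fin d, P) = d.factorial • t := by
  refine Subtype.ext ?_
  simp only [symmTS, perm_TS, Finset.sum_const, Finset.card_univ, Fintype.card_perm,
    Fintype.card_fin]
  rfl

include hπ in
theorem symmTS_mem_relIdeal {f : Fin d → P} {j : Fin d} (hj : π (f j) = 0) :
    symmTS (PiTensorProduct.tprod A f) ∈ relIdeal e π hπ d := by
  classical
  -- it is the coefficient of `∏ X i` of the difference at `∑_{i ≠ j} X i ⊗ f i` and `X j ⊗ f j`
  let x : MvPolynomial (Fin d) A ⊗[A] P :=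
    ∑ i ∈ Finset.univ.erase j, MvPolynomial.X i ⊗ₜ[A] f i
  let w : MvPolynomial (Fin d) A ⊗[A] P := MvPolynomial.X j ⊗ₜ[A] f j
  let α : Fin d →₀ ℕ := ∑ i, Finsupp.single i 1
  have hxw : x + w = ∑ i ∈ Finset.univ, MvPolynomial.X i ⊗ₜ[A] f i := by
    rw [← Finset.sum_erase_add _ _ (Finset.mem_univ j)]
  refine Submodule.subset_span ⟨d, x, w, α, ?_, ?_⟩
  · simp [w, hj]
  have hterm : ∀ c : Fin d → Fin d,
      cf α ((∏ i, (MvPolynomial.X (c i) : MvPolynomial (Fin d) A)) ⊗ₜ[A]
        PiTensorProduct.tprod A fun i => f (c i)) =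
      if Function.Bijective c then PiTensorProduct.tprod A fun i => f (c i) else 0 := by
    intro c
    have : (∏ i, (MvPolynomial.X (c i) : MvPolynomial (Fin d) A)) =
        MvPolynomial.monomial (cnt c) 1 := by
      simp only [MvPolynomial.X, cnt, ← MvPolynomial.monomial_sum_one]
    rw [this, cf_monomial_tmul, one_smul]
    refine if_congr ⟨fun h => ?_, fun h => ?_⟩ rfl rfl
    · refine Finite.surjective_iff_bijective.mp fun k => exists_of_mem_support_cnt ?_
      rw [h, Finsupp.mem_support_iff]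
      simp [α, Finsupp.finsetSum_apply, Finsupp.single_apply]
    · exact Equiv.sum_comp (Equiv.ofBijective c h) fun i => Finsupp.single i 1
  apply Subtype.ext
  rw [map_sub, AddSubgroupClass.coe_sub]
  change _ = (SymTen.TS A P d).val.toLinearMap _ - (SymTen.TS A P d).val.toLinearMap _
  rw [← cf_lTensor, ← cf_lTensor, tauTS_val, tauTS_val, hxw, tpowLaw_sum, tpowLaw_sum, map_sum,
    map_sum]
  simp only [hterm]
  have hzero : ∀ c ∈ Fintype.piFinset (fun _ : Fin d => Finset.univ.erase j),
      (if Function.Bijective c then PiTensorProduct.tprod A fun i => f (c i) else 0) =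
        (0 : ⨂[A] _ : Fin d, P) := by
    intro c hc
    rw [if_neg]
    intro h
    obtain ⟨i, hi⟩ := h.2 j
    exact (Finset.mem_erase.mp (Fintype.mem_piFinset.mp hc i)).1 hi
  rw [Finset.sum_eq_zero hzero, sub_zero, ← Finset.sum_filter]
  refine Finset.sum_bij' (fun σ _ => ⇑σ.symm) (fun c hc => (Equiv.ofBijective c
      (Finset.mem_filter.mp hc).2).symm) ?_ ?_ ?_ ?_ ?_
  · intro σ _
    exact Finset.mem_filter.mpr ⟨Fintype.mem_piFinset.mpr fun _ => Finset.mem_univ _, σ.symm.bijective⟩
  · intro c _; simp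
  · intro σ _; ext i; simp
  · intro c _; rfl
  · intro σ _; rw [SymTen.perm_tprod]

include e hπ in
/-- `q ∘ symm` factors through the tensor power of `B`. -/
theorem exists_polarisation {q : SymTen.TS A P d →ₐ[A] C}
    (hker : RingHom.ker q = relIdeal e π hπ d) :
    ∃ g : (⨂[A] _ : Fin d, B) →ₗ[A] C,
      ∀ u, g (SymTen.tmap A d π u) = q (symmTS u) := by
  let h : (⨂[A] _ : Fin d, P) →ₗ[A] C := q.toLinearMap ∘ₗ symmTSₗ
  let T := PiTensorProduct.map fun _ : Fin d => π.toLinearMap
  have hle : LinearMap.ker T ≤ LinearMap.ker h := by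
    refine (ker_map_le_span π.toLinearMap hπ).trans ?_
    rw [Submodule.span_le]
    rintro _ ⟨f, ⟨j, hj⟩, rfl⟩
    have := symmTS_mem_relIdeal e hπ (f := f) (j := j) (LinearMap.mem_ker.mp hj)
    rw [← hker, RingHom.mem_ker] at this
    exact this
  have hT : LinearMap.range T = ⊤ := LinearMap.range_eq_top.mpr (map_surjective hπ)
  let eqv := (LinearMap.quotKerEquivRange T).trans (LinearEquiv.ofTop _ hT)
  refine ⟨(LinearMap.ker T).liftQ h hle ∘ₗ eqv.symm.toLinearMap, fun u => ?_⟩
  have : eqv.symm (SymTen.tmap A d π u) = Submodule.Quotient.mk u :=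
    eqv.symm_apply_eq.mpr (LinearMap.congr_fun (tmap_toLinearMap π) u)
  rw [LinearMap.comp_apply, LinearEquiv.coe_coe, this, Submodule.liftQ_apply]
  rfl

/-- `d!` kills the kernel of the comparison map, and multiplies `TS` into its image. -/
theorem factorial_smul_comparison (hγ : PolLaw.IsGammaD γ) (φ : C →ₐ[A] SymTen.TS A B d)
    (hφ : ∀ (S : Type u) [CommSemiring S] [Algebra A S] (x : S ⊗[A] B),
      ((SymTen.TS A B d).val.comp φ).toLinearMap.lTensor S (γ.law.toFun' S x) =
        (SymTen.tpowLaw A B d).law.toFun' S x) :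
    (∀ x : C, φ x = 0 → d.factorial • x = 0) ∧ ∀ y, d.factorial • y ∈ φ.range := by
  have hπ := stdπ_surjective A B
  obtain ⟨q, hqs, hker, hq⟩ := exists_presentation (stdBasis A B) (stdπ A B) hπ γ hγ
  obtain ⟨g, hg⟩ := exists_polarisation (stdBasis A B) hπ hker
  have hφq := val_comp_pres (stdBasis A B) γ hφ hq
  constructor
  · intro x hx
    obtain ⟨t, rfl⟩ := hqs x
    have h0 : SymTen.tmap A d (stdπ A B) (t : ⨂[A] _ : Fin d, MvPolynomial B A) = 0 := by
      have := congrArg Subtype.val ((AlgHom.congr_fun hφq t).symm.trans hx)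
      exact this
    rw [← map_nsmul, ← symmTS_val, ← hg, h0, map_zero]
  · intro y
    obtain ⟨u, hu⟩ := tmap_surjective (d := d) hπ (y : ⨂[A] _ : Fin d, B)
    refine ⟨g y, Subtype.ext ?_⟩
    change ((φ (g (y : ⨂[A] _ : Fin d, B)) : SymTen.TS A B d) : ⨂[A] _ : Fin d, B) = _
    rw [← hu, hg, ← AlgHom.comp_apply, hφq]
    change SymTen.tmap A d (stdπ A B) (symmTS u : SymTen.TS A _ d).1 = _
    simp only [symmTS, map_sum, tmap_perm, hu, perm_TS, Finset.sum_const, Finset.card_univ,
      Fintype.card_perm, Fintype.card_fin]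
    rfl

end Groth.Agent.PLaw
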