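import Groth.Agent.PLaw.Span
import Mathlib.RingTheory.AdjoinRoot
import Mathlib.Algebra.Ring.GeomSum
import Groth.Prelude.Def_PolLaw2

/-!
# Criteria for membership in the kernel of a multiplicative law
-/

universe u

open scoped TensorProduct Polynomial

namespace Groth.Agent.PLaw

variable {A : Type u} [CommRing A] {B : Type u} [CommRing B] [Algebra A B]
  {C : Type u} [CommRing C] [Algebra A C] {d : ℕ}

/-- A test semiring is a ring. -/
@[reducible] noncomputable def toCommRing (A : Type u) [CommRing A] (S : Type u) [i : CommSemiring S]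
    [Algebra A S] : CommRing S :=
  { i, Algebra.semiringToRing A (A := S) with }

theorem compatMap (F : B →ₚₗ[A] C) {S S' : Type u} [CommSemiring S] [Algebra A S] [CommSemiring S']
    [Algebra A S'] (φ : S →ₐ[A] S') (x : S ⊗[A] B) :
    Algebra.TensorProduct.map φ (AlgHom.id A C) (F.toFun' S x) =
      F.toFun' S' (Algebra.TensorProduct.map φ (AlgHom.id A B) x) := by
  rw [← PolLaw.rTensor_algHom_apply, compat, PolLaw.rTensor_algHom_apply]

/-- `R[X] → R[X]` keeping the coefficients of degree at most `d`. -/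
noncomputable def trunc (A : Type u) [CommRing A] (R : Type u) [CommRing R] [Algebra A R] (d : ℕ) :
    R[X] →ₗ[A] R[X] :=
  ∑ k ∈ Finset.range (d + 1), ((Polynomial.monomial k).comp (Polynomial.lcoeff R k)).restrictScalars A

theorem trunc_apply (R : Type u) [CommRing R] [Algebra A R] (p : R[X]) :
    trunc A R d p = ∑ k ∈ Finset.range (d + 1), Polynomial.monomial k (p.coeff k) := by
  simp [trunc]

theorem trunc_eq_self (R : Type u) [CommRing R] [Algebra A R] {p : R[X]} (h : p.natDegree ≤ d) :
    trunc A R d p = p := by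
  rw [trunc_apply, ← p.as_sum_range' (d + 1) (Nat.lt_succ_of_le h)]

variable (F : PolLaw.MulLaw A B C d)

theorem trunc_law (R : Type u) [CommRing R] [Algebra A R] (z : R ⊗[A] B) :
    (trunc A R d).rTensor C (F.law.toFun' R[X] (1 + (Polynomial.X ⊗ₜ[A] (1 : B)) *
      Algebra.TensorProduct.map ((Algebra.ofId R R[X]).restrictScalars A) (AlgHom.id A B) z)) =
    F.law.toFun' R[X] (1 + (Polynomial.X ⊗ₜ[A] (1 : B)) *
      Algebra.TensorProduct.map ((Algebra.ofId R R[X]).restrictScalars A) (AlgHom.id A B) z) := by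
  classical
  obtain ⟨n, s, b, rfl⟩ := exists_sum_tmul z
  let e : ULift.{u} (Option (Fin n)) → B := fun i => i.down.elim 1 b
  let σ : ULift.{u} (Option (Fin n)) → R[X] := fun i =>
    i.down.elim 1 fun j => Polynomial.X * Polynomial.C (s j)
  have hsum : ∑ i, σ i ⊗ₜ[A] e i = 1 + (Polynomial.X ⊗ₜ[A] (1 : B)) *
      Algebra.TensorProduct.map ((Algebra.ofId R R[X]).restrictScalars A) (AlgHom.id A B)
        (∑ i, s i ⊗ₜ[A] b i) := by
    rw [← Equiv.ulift.symm.sum_comp, Fintype.sum_option, map_sum, Finset.mul_sum]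
    simp [σ, e, Algebra.TensorProduct.one_def, Algebra.ofId_apply, Polynomial.algebraMap_eq]
  rw [← hsum]
  obtain ⟨T, -, hT⟩ := exists_value_eq F.law e Finset.univ
  rw [hT, map_sum]
  refine Finset.sum_congr rfl fun α _ => ?_
  by_cases hα : (α.sum fun _ j => j) = d
  · rw [LinearMap.rTensor_tmul, trunc_eq_self]
    refine (Polynomial.natDegree_prod_le _ _).trans (le_of_le_of_eq (Finset.sum_le_sum fun i _ => ?_) hα)
    refine Polynomial.natDegree_pow_le.trans (le_of_le_of_eq ?_ (mul_one _))
    refine Nat.mul_le_mul le_rfl ?_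
    rcases i with ⟨_ | j⟩
    · simp [σ]
    · exact (Polynomial.natDegree_mul_C_le _ _).trans Polynomial.natDegree_X_le
  · rw [cf_gen_eq_zero_of_degree F.law F.homog e Finset.univ α hα, TensorProduct.tmul_zero, map_zero]

/-- If `F (1 + v β) = 1` universally then `F` is invariant under adding multiples of `β`. -/
theorem add_mul_eq_of_forall {R : Type u} [CommRing R] [Algebra A R] (β : R ⊗[A] B)
    (h : ∀ (R' : Type u) [CommRing R'] [Algebra A R'] (φ : R →ₐ[A] R') (v : R' ⊗[A] B),
      F.law.toFun' R' (1 + v * Algebra.TensorProduct.map φ (AlgHom.id A B) β) = 1)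
    (x w : R ⊗[A] B) : F.law.toFun' R (x + w * β) = F.law.toFun' R x := by
  suffices key : ∀ x : R ⊗[A] B, F.law.toFun' R (1 + x + w * β) = F.law.toFun' R (1 + x) by
    simpa using key (x - 1)
  intro x
  let ι : R →ₐ[A] R[X] := (Algebra.ofId R R[X]).restrictScalars A
  let I : Ideal R[X] := Ideal.span {Polynomial.X ^ (d + 1)}
  let mk : R[X] →ₐ[A] R[X] ⧸ I := Ideal.Quotient.mkₐ A I
  let T : R[X] ⊗[A] B := Polynomial.X ⊗ₜ[A] (1 : B)
  let m := Algebra.TensorProduct.map ι (AlgHom.id A B)
  let q := Algebra.TensorProduct.map mk (AlgHom.id A B)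
  have ht : q T ^ (d + 1) = 0 := by
    rw [← map_pow, Algebra.TensorProduct.tmul_pow, Algebra.TensorProduct.map_tmul,
      show mk (Polynomial.X ^ (d + 1)) = 0 from
        Ideal.Quotient.eq_zero_iff_mem.mpr (Ideal.mem_span_singleton_self _), TensorProduct.zero_tmul]
  let t := q T
  let X' := q (m x)
  let W := q (m w)
  let β' := q (m β)
  let y := W * ∑ k ∈ Finset.range (d + 1), (-(t * X')) ^ k
  have hgeom : (1 + t * X') * ∑ k ∈ Finset.range (d + 1), (-(t * X')) ^ k = 1 := by
    have := geom_sum_mul (-(t * X')) (d + 1)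
    have h0 : t ^ (d + 1) = 0 := ht
    have h0' : (-(t * X')) ^ (d + 1) = 0 := by
      linear_combination (norm := ring_nf) ((-1) ^ (d + 1) * X' ^ (d + 1)) * h0
    rw [h0'] at this
    linear_combination -this
  have hq : q (1 + T * m (x + w * β)) = q (1 + T * m x) * (1 + (t * y) * β') := by
    have e1 : q (1 + T * m (x + w * β)) = 1 + t * X' + t * W * β' := by
      simp only [map_add, map_mul, map_one, t, X', W, β']; ring
    have e2 : q (1 + T * m x) = 1 + t * X' := by simp only [map_add, map_mul, map_one, t, X']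
    rw [e1, e2]
    linear_combination (-(t * W * β')) * hgeom
  have hval : q (m β) = Algebra.TensorProduct.map (mk.comp ι) (AlgHom.id A B) β := by
    change (q.comp m) β = _
    congr 1
    rw [← Algebra.TensorProduct.map_comp, AlgHom.comp_id]
  have hQ : (Algebra.TensorProduct.map mk (AlgHom.id A C)) (F.law.toFun' R[X] (1 + T * m (x + w * β))) =
      (Algebra.TensorProduct.map mk (AlgHom.id A C)) (F.law.toFun' R[X] (1 + T * m x)) := by
    rw [compatMap, compatMap]
    refine (congrArg _ hq).trans ?_
    rw [(F.mult _).2, show β' = _ from hval, h, mul_one]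
  let L : (R[X] ⧸ I) →ₗ[A] R[X] :=
    ((I.restrictScalars A).liftQ (trunc A R d) (fun p hp => by
        obtain ⟨c, rfl⟩ := Ideal.mem_span_singleton'.mp hp
        rw [LinearMap.mem_ker, trunc_apply]
        refine Finset.sum_eq_zero fun k hk => ?_
        rw [Polynomial.coeff_mul_X_pow', if_neg (by simpa using Finset.mem_range.mp hk), map_zero])).comp
      (Submodule.Quotient.restrictScalarsEquiv A I).symm.toLinearMap
  have hL : ∀ u, (trunc A R d).rTensor C u =
      L.rTensor C (Algebra.TensorProduct.map mk (AlgHom.id A C) u) := by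
    intro u
    induction u using TensorProduct.induction_on with
    | zero => simp
    | tmul p c => rfl
    | add a b ha hb => simp only [map_add, ha, hb]
  have hG : F.law.toFun' R[X] (1 + T * m (x + w * β)) = F.law.toFun' R[X] (1 + T * m x) := by
    rw [← trunc_law F R (x + w * β), ← trunc_law F R x, hL, hL]
    exact congrArg _ hQ
  have h1 := congrArg (Algebra.TensorProduct.map
    ((Polynomial.aeval (1 : R)).restrictScalars A) (AlgHom.id A C)) hG
  rw [compatMap, compatMap] at h1
  have hev : ∀ z : R ⊗[A] B, Algebra.TensorProduct.map ((Polynomial.aeval (1 : R)).restrictScalars A)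
      (AlgHom.id A B) (1 + T * m z) = 1 + z := by
    intro z
    rw [map_add, map_one, map_mul]
    congr 1
    rw [show Algebra.TensorProduct.map ((Polynomial.aeval (1 : R)).restrictScalars A) (AlgHom.id A B) T = 1
      by simp [T, Algebra.TensorProduct.one_def], one_mul]
    change ((Algebra.TensorProduct.map _ _).comp m) z = z
    rw [← Algebra.TensorProduct.map_comp, AlgHom.comp_id,
      show ((Polynomial.aeval (1 : R)).restrictScalars A).comp ι = AlgHom.id A R from
        AlgHom.ext fun r => by simp [ι, Algebra.ofId_apply], Algebra.TensorProduct.map_id, AlgHom.id_apply]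
  rw [hev, hev, ← add_assoc] at h1
  exact h1

/-- Membership in the kernel is tested on generic elements. -/
theorem mem_ker_of_generic {G : Set B} (hG : Submodule.span A G = ⊤) {b : B}
    (h : ∀ (n : ℕ) (c : Fin n → B), (∀ i, c i ∈ G) →
      F.law.toFun' (MvPolynomial (Fin n) A) (1 + gen A c Finset.univ * (1 ⊗ₜ[A] b)) = 1) :
    b ∈ PolLaw.ker F.law := by
  intro S _ _ x w
  letI := toCommRing A S
  refine add_mul_eq_of_forall F _ (fun R' _ _ φ v => ?_) x w
  obtain ⟨n, s, c, hc, rfl⟩ := exists_sum_tmul_of_span_eq_top hG v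
  have h1 := congrArg (Algebra.TensorProduct.map
    (MvPolynomial.aeval s : MvPolynomial (Fin n) A →ₐ[A] R') (AlgHom.id A C)) (h n c hc)
  rw [map_one, compatMap] at h1
  simpa [gen, map_sum] using h1

/-- Membership in the kernel of a base change is tested on generic elements. -/
theorem mem_kerBC_of_generic {G : Set B} (hG : Submodule.span A G = ⊤) (A' : Type u) [CommRing A']
    [Algebra A A'] {b : A' ⊗[A] B}
    (h : ∀ (n : ℕ) (c : Fin n → B), (∀ i, c i ∈ G) → F.law.toFun' (MvPolynomial (Fin n) A')
      (1 + (∑ i, (MvPolynomial.X i : MvPolynomial (Fin n) A') ⊗ₜ[A] c i) *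
        Algebra.TensorProduct.map (IsScalarTower.toAlgHom A A' _) (AlgHom.id A B) b) = 1) :
    b ∈ PolLaw.kerBC F.law A' := by
  intro R _ _ _ _ x w
  letI := toCommRing A R
  refine add_mul_eq_of_forall F _ (fun R' _ _ φ v => ?_) x w
  obtain ⟨n, s, c, hc, rfl⟩ := exists_sum_tmul_of_span_eq_top hG v
  let := (φ.toRingHom.comp (algebraMap A' R)).toAlgebra
  have : IsScalarTower A A' R' := IsScalarTower.of_algebraMap_eq fun a => by
    change algebraMap A R' a = φ (algebraMap A' R (algebraMap A A' a))
    rw [← IsScalarTower.algebraMap_apply, AlgHom.commutes]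
  let ψ : MvPolynomial (Fin n) A' →ₐ[A] R' :=
    (MvPolynomial.aeval s : MvPolynomial (Fin n) A' →ₐ[A'] R').restrictScalars A
  have h1 := congrArg (Algebra.TensorProduct.map ψ (AlgHom.id A C)) (h n c hc)
  rw [map_one, compatMap, map_add, map_one, map_mul, map_sum] at h1
  simp only [Algebra.TensorProduct.map_tmul, AlgHom.id_apply, ψ, AlgHom.restrictScalars_apply,
    MvPolynomial.aeval_X] at h1
  refine Eq.trans ?_ h1
  congr 3
  rw [← AlgHom.comp_apply, ← AlgHom.comp_apply, ← Algebra.TensorProduct.map_comp,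
    ← Algebra.TensorProduct.map_comp]
  refine congrArg (fun f => Algebra.TensorProduct.map f _ b) (AlgHom.ext fun a => ?_)
  exact ((MvPolynomial.aeval s : MvPolynomial (Fin n) A' →ₐ[A'] R').commutes a).symm

theorem eq_one_of_mem_ker {b : B} (hb : b ∈ PolLaw.ker F.law) (S : Type u) [CommSemiring S]
    [Algebra A S] (v : S ⊗[A] B) : F.law.toFun' S (1 + v * (1 ⊗ₜ[A] b)) = 1 :=
  (hb S 1 v).trans (F.mult S).1

theorem map_ker_le_kerBC (A' : Type u) [CommRing A'] [Algebra A A'] :
    (PolLaw.ker F.law).map (Algebra.TensorProduct.includeRight : B →ₐ[A] A' ⊗[A] B) ≤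
      PolLaw.kerBC F.law A' := by
  rw [Ideal.map_le_iff_le_comap]
  intro b hb R _ _ _ _ x w
  simpa using hb R x w

end Groth.Agent.PLaw
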