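import Groth.Agent.PLaw.IversenSurj
import Groth.Agent.PLaw.KerCrit

/-!
# Generators of divided power algebras: the coefficients of `γ(1 + T b)`
-/

universe u

open scoped TensorProduct

namespace Groth.Agent.PLaw

variable {A B C : Type u} [CommRing A] [CommRing B] [Algebra A B] [CommRing C] [Algebra A C] {d : ℕ}

/-- Base change of a subalgebra inside the base change of the algebra. -/
noncomputable def bcSub (U : Subalgebra A C) (S : Type u) [CommRing S] [Algebra A S] :
    Subalgebra A (S ⊗[A] C) :=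
  (Algebra.TensorProduct.map (AlgHom.id A S) U.val).range

theorem map_mem_bcSub (U : Subalgebra A C) {S S' : Type u} [CommRing S] [Algebra A S] [CommRing S']
    [Algebra A S'] (φ : S →ₐ[A] S') {z : S ⊗[A] C} (hz : z ∈ bcSub U S) :
    Algebra.TensorProduct.map φ (AlgHom.id A C) z ∈ bcSub U S' := by
  obtain ⟨w, rfl⟩ := hz
  refine ⟨Algebra.TensorProduct.map φ (AlgHom.id A U) w, ?_⟩
  change (Algebra.TensorProduct.map (AlgHom.id A S') U.val).comp
      (Algebra.TensorProduct.map φ (AlgHom.id A U)) w =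
    (Algebra.TensorProduct.map φ (AlgHom.id A C)).comp
      (Algebra.TensorProduct.map (AlgHom.id A S) U.val) w
  simp [← Algebra.TensorProduct.map_comp]

theorem exists_sum_of_mem_map {R : Type u} [CommRing R] [Algebra A R] (J : Ideal R) {y : R ⊗[A] B}
    (hy : y ∈ J.map (Algebra.TensorProduct.includeLeft : R →ₐ[A] R ⊗[A] B)) :
    ∃ (k : ℕ) (s : Fin k → R) (b : Fin k → B), (∀ j, s j ∈ J) ∧ y = ∑ j, s j ⊗ₜ[A] b j := by
  induction hy using Submodule.span_induction with
  | mem x hx =>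
    obtain ⟨s, hs, rfl⟩ := hx
    exact ⟨1, fun _ => s, fun _ => 1, fun _ => hs, by simp⟩
  | zero => exact ⟨0, 0, 0, fun j => j.elim0, by simp⟩
  | add x y _ _ hx hy =>
    obtain ⟨k, s, b, hs, rfl⟩ := hx
    obtain ⟨k', s', b', hs', rfl⟩ := hy
    refine ⟨k + k', Fin.append s s', Fin.append b b', fun j => ?_, by simp [Fin.sum_univ_add]⟩
    exact Fin.addCases (fun i => by simpa using hs i) (fun i => by simpa using hs' i) j
  | smul c x _ hx =>
    obtain ⟨k, s, b, hs, rfl⟩ := hx
    obtain ⟨m, t, e, rfl⟩ := exists_sum_tmul c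
    refine ⟨m * k, fun l => t (finProdFinEquiv.symm l).1 * s (finProdFinEquiv.symm l).2,
      fun l => e (finProdFinEquiv.symm l).1 * b (finProdFinEquiv.symm l).2,
      fun l => J.mul_mem_left _ (hs _), ?_⟩
    rw [smul_eq_mul, Finset.sum_mul_sum, ← finProdFinEquiv.sum_comp, Fintype.sum_prod_type]
    simp

/-- One step lemma: values at `1 + (nilpotent)` from values at `1 + s ⊗ b`. -/
theorem mem_bcSub_of_nilpotent (γ : PolLaw.MulLaw A B C d) (U : Subalgebra A C) (Q : Type u)
    [CommRing Q] [Algebra A Q] (hone : ∀ (s : Q) (b : B), γ.law.toFun' Q (1 + s ⊗ₜ[A] b) ∈ bcSub U Q)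
    (m : Ideal Q) (hm : m ^ (d + 1) = ⊥) (x : Q ⊗[A] B)
    (hx0 : x - 1 ∈ m.map (Algebra.TensorProduct.includeLeft : Q →ₐ[A] Q ⊗[A] B)) :
    γ.law.toFun' Q x ∈ bcSub U Q := by
  classical
  let J : Ideal (Q ⊗[A] B) := m.map (Algebra.TensorProduct.includeLeft : Q →ₐ[A] Q ⊗[A] B)
  have hJpow : ∀ k : ℕ, J ^ k = (m ^ k).map
      (Algebra.TensorProduct.includeLeft : Q →ₐ[A] Q ⊗[A] B) := fun k => (Ideal.map_pow _ m k).symm
  have key : ∀ (j k : ℕ), j + k = d → ∀ x : Q ⊗[A] B, x - 1 ∈ J ^ (k + 1) →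
      γ.law.toFun' Q x ∈ bcSub U Q := by
    intro j
    induction j with
    | zero =>
      intro k hk x hx
      rw [zero_add] at hk
      have : J ^ (k + 1) = ⊥ := by rw [hk, hJpow, hm, Ideal.map_bot]
      rw [this, Ideal.mem_bot, sub_eq_zero] at hx
      rw [hx, (γ.mult Q).1]
      exact one_mem _
    | succ j ih =>
      intro k hk x hx
      rw [hJpow] at hx
      obtain ⟨l, s, c, hs, hy⟩ := exists_sum_of_mem_map _ hx
      let z : Fin l → Q ⊗[A] B := fun i => s i ⊗ₜ[A] c i
      have hz : ∀ i, z i ∈ J ^ (k + 1) := fun i => by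
        rw [hJpow]
        have := Ideal.mul_mem_right ((1 : Q) ⊗ₜ[A] c i) _ (Ideal.mem_map_of_mem
          (Algebra.TensorProduct.includeLeft (R := A) (S := A) (A := Q) (B := B)) (hs i))
        simpa [z] using this
      have hprod : ∀ I' : Finset (Fin l), ∏ i ∈ I', (1 + z i) - (1 + ∑ i ∈ I', z i) ∈ J ^ (k + 2) ∧
          ∑ i ∈ I', z i ∈ J ^ (k + 1) ∧ γ.law.toFun' Q (∏ i ∈ I', (1 + z i)) ∈ bcSub U Q := by
        intro I'
        induction I' using Finset.induction_on with
        | empty => simp [(γ.mult Q).1]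
        | insert i I'' hi hI =>
          obtain ⟨h1, h2, h3⟩ := hI
          rw [Finset.prod_insert hi, Finset.sum_insert hi]
          refine ⟨?_, add_mem (hz i) h2, ?_⟩
          · have e : (1 + z i) * ∏ j ∈ I'', (1 + z j) - (1 + (z i + ∑ j ∈ I'', z j)) =
                (1 + z i) * (∏ j ∈ I'', (1 + z j) - (1 + ∑ j ∈ I'', z j)) +
                  z i * ∑ j ∈ I'', z j := by ring
            rw [e]
            refine add_mem (Ideal.mul_mem_left _ _ h1) ?_
            refine Ideal.pow_le_pow_right (show k + 2 ≤ (k + 1) + (k + 1) by omega) ?_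
            rw [pow_add]
            exact Ideal.mul_mem_mul (hz i) h2
          · rw [(γ.mult Q).2]
            exact mul_mem (hone _ _) h3
      obtain ⟨h1, h2, h3⟩ := hprod Finset.univ
      have hnil : IsNilpotent (∏ i, (1 + z i) - 1) := by
        refine ⟨d + 1, ?_⟩
        have : ∏ i, (1 + z i) - 1 ∈ J := by
          have hJ : J ^ (k + 2) ≤ J := Ideal.pow_le_self (by omega)
          have hJ' : J ^ (k + 1) ≤ J := Ideal.pow_le_self (by omega)
          have := add_mem (hJ h1) (hJ' h2)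
          rwa [show ∏ i, (1 + z i) - (1 + ∑ i, z i) + ∑ i, z i = ∏ i, (1 + z i) - 1 by ring] at this
        have h4 := Ideal.pow_mem_pow this (d + 1)
        rwa [hJpow, hm, Ideal.map_bot, Ideal.mem_bot] at h4
      obtain ⟨v, hv⟩ := IsNilpotent.isUnit_one_add hnil
      rw [add_sub_cancel] at hv
      have hx' : x * ↑v⁻¹ - 1 ∈ J ^ (k + 2) := by
        have e : x * ↑v⁻¹ - 1 = (x - ↑v) * ↑v⁻¹ := by
          rw [sub_mul, Units.mul_inv]
        rw [e, hv]
        refine Ideal.mul_mem_right _ _ ?_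
        have : x - ∏ i, (1 + z i) = -(∏ i, (1 + z i) - (1 + ∑ i, z i)) := by
          have hy' : x = 1 + ∑ i, z i := by rw [← hy]; ring
          rw [hy']; ring
        rw [this]
        exact neg_mem h1
      have := mul_mem (ih (k + 1) (by omega) _ hx') h3
      rwa [← (γ.mult Q).2, mul_assoc, ← hv, Units.inv_mul, mul_one] at this
  exact key d 0 (add_zero d) _ (by rw [zero_add, pow_one]; exact hx0)

/-- A subalgebra containing the coefficients of all `γ(1 + T b)` is everything. -/
theorem eq_top_of_one_add_mem (γ : PolLaw.MulLaw A B C d) (hγ : PolLaw.IsGammaD γ) (U : Subalgebra A C)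
    (h : ∀ (b : B) (α : PUnit.{u + 1} →₀ ℕ), cf α (γ.law.toFun' (MvPolynomial PUnit.{u + 1} A)
      (1 + (MvPolynomial.X PUnit.unit : MvPolynomial PUnit.{u + 1} A) ⊗ₜ[A] b)) ∈ U) :
    U = ⊤ := by
  classical
  have hone : ∀ (S : Type u) [CommRing S] [Algebra A S] (s : S) (b : B),
      γ.law.toFun' S (1 + s ⊗ₜ[A] b) ∈ bcSub U S := by
    intro S _ _ s b
    have h1 : γ.law.toFun' (MvPolynomial PUnit.{u + 1} A)
        (1 + (MvPolynomial.X PUnit.unit : MvPolynomial PUnit.{u + 1} A) ⊗ₜ[A] b) ∈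
          bcSub U (MvPolynomial PUnit.{u + 1} A) := by
      obtain ⟨T, -, hT⟩ := exists_sum_cf (γ.law.toFun' (MvPolynomial PUnit.{u + 1} A)
        (1 + (MvPolynomial.X PUnit.unit : MvPolynomial PUnit.{u + 1} A) ⊗ₜ[A] b))
      rw [hT T subset_rfl]
      exact Subalgebra.sum_mem _ fun α _ => ⟨MvPolynomial.monomial α 1 ⊗ₜ[A] ⟨_, h b α⟩, rfl⟩
    have h2 := map_mem_bcSub U (MvPolynomial.aeval (R := A) fun _ : PUnit.{u + 1} => s) h1
    rw [compatMap, map_add, map_one, Algebra.TensorProduct.map_tmul, MvPolynomial.aeval_X] at h2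
    exact h2
  -- the truncated polynomial rings
  rw [← Algebra.toSubmodule_eq_top, eq_top_iff,
    ← span_cf_gamma_eq_top hγ (Submodule.span_univ (R := A) (M := B)), Submodule.span_le]
  rintro c ⟨n, b, β, -, rfl⟩
  by_cases hβ : (β.sum fun _ j => j) = d
  swap
  · rw [cf_gen_fin_eq_zero γ b β hβ]
    exact U.zero_mem
  have hβ' : ∑ i, β i = d := by rwa [Finsupp.sum_fintype _ _ (fun _ => rfl)] at hβ
  let I : Ideal (MvPolynomial (Fin n) A) := MvPolynomial.idealOfVars (Fin n) A
  let π : MvPolynomial (Fin n) A →ₐ[A] MvPolynomial (Fin n) A ⧸ I ^ (d + 1) :=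
    Ideal.Quotient.mkₐ A _
  let Q := MvPolynomial (Fin n) A ⧸ I ^ (d + 1)
  let m : Ideal Q := I.map π
  have hm : m ^ (d + 1) = ⊥ := by
    rw [← Ideal.map_pow]
    exact (Ideal.map_eq_bot_iff_le_ker _).mpr fun p hp => Ideal.Quotient.eq_zero_iff_mem.mpr hp
  let u : MvPolynomial (Fin n) A ⊗[A] B := gen A b Finset.univ
  let Φ := Algebra.TensorProduct.map π (AlgHom.id A B)
  have hu : Φ (1 + u) - 1 ∈ m.map (Algebra.TensorProduct.includeLeft : Q →ₐ[A] Q ⊗[A] B) := by
    rw [map_add, map_one, add_sub_cancel_left, show Φ u = ∑ i, π (MvPolynomial.X i) ⊗ₜ[A] b i by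
      simp [Φ, u, gen, map_sum]]
    refine Ideal.sum_mem _ fun i _ => ?_
    have hX : π (MvPolynomial.X i) ∈ m :=
      Ideal.mem_map_of_mem _ (Ideal.subset_span (Set.mem_range_self i))
    have := Ideal.mul_mem_left _ ((1 : Q) ⊗ₜ[A] b i) (Ideal.mem_map_of_mem
      (Algebra.TensorProduct.includeLeft (R := A) (S := A) (A := Q) (B := B)) hX)
    simpa using this
  have hmem := mem_bcSub_of_nilpotent γ U Q (hone Q) m hm _ hu
  rw [← compatMap] at hmem
  obtain ⟨w, hw⟩ := hmem
  have hker : ((I ^ (d + 1)).restrictScalars A) ≤ LinearMap.ker (MvPolynomial.lcoeff A β) := by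
    intro p hp
    exact (MvPolynomial.mem_pow_idealOfVars_iff' (d + 1) p).mp hp β (by
      rw [Finsupp.degree_eq_sum]; omega)
  let q : Q →ₗ[A] A :=
    (((I ^ (d + 1)).restrictScalars A).liftQ (MvPolynomial.lcoeff A β) hker).comp
      (Submodule.Quotient.restrictScalarsEquiv A (I ^ (d + 1))).symm.toLinearMap
  have hq : ∀ p, q (π p) = p.coeff β := fun p => rfl
  have hc : ∀ z : MvPolynomial (Fin n) A ⊗[A] C,
      TensorProduct.lid A C (q.rTensor C (Algebra.TensorProduct.map π (AlgHom.id A C) z)) = cf β z := by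
    intro z
    induction z using TensorProduct.induction_on with
    | zero => simp
    | tmul a b => simp [hq]
    | add a b ha hb => simp only [map_add, ha, hb]
  have hU : ∀ w : Q ⊗[A] U,
      TensorProduct.lid A C (q.rTensor C (Algebra.TensorProduct.map (AlgHom.id A Q) U.val w)) ∈ U := by
    intro w
    induction w using TensorProduct.induction_on with
    | zero => simp
    | tmul a b => simpa using U.smul_mem b.2 _
    | add a b ha hb => simp only [map_add]; exact add_mem ha hb
  have := hU w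
  rw [show Algebra.TensorProduct.map (AlgHom.id A Q) U.val w = _ from hw, hc,
    cf_one_add_gen γ b β hβ'] at this
  exact this

end Groth.Agent.PLaw
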