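import Groth.Agent.PLaw.Span
import Mathlib.RingTheory.MvPolynomial.Ideal
import Mathlib.RingTheory.Nilpotent.Basic

/-!
# Surjectivity of Iversen's map
-/

universe u

open scoped TensorProduct

namespace Groth.Agent.PLaw

variable {A B Cd Ce : Type u} [CommRing A] [CommRing B] [Algebra A B]
  [CommRing Cd] [Algebra A Cd] [CommRing Ce] [Algebra A Ce] {e : ℕ}

/-- The coefficients of degree `e` of a homogeneous law do not see a summand `1`. -/
theorem cf_one_add_gen (F : PolLaw.MulLaw A B Ce e) {n : ℕ} (b : Fin n → B) (β : Fin n →₀ ℕ)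
    (hβ : ∑ i, β i = e) :
    cf β (F.law.toFun' (MvPolynomial (Fin n) A) (1 + gen A b Finset.univ)) =
      cf β (F.law.toFun' (MvPolynomial (Fin n) A) (gen A b Finset.univ)) := by
  classical
  let g : ULift.{u} (Option (Fin n)) → B := fun i => i.down.elim 1 b
  obtain ⟨T, -, hT⟩ := exists_value_eq F.law g Finset.univ
  let σ : A → ULift.{u} (Option (Fin n)) → MvPolynomial (Fin n) A := fun c i =>
    i.down.elim (MvPolynomial.C c) MvPolynomial.X
  have hsum : ∀ c : A, ∑ i, σ c i ⊗ₜ[A] g i = MvPolynomial.C c ⊗ₜ[A] (1 : B) + gen A b Finset.univ := by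
    intro c
    rw [← Equiv.ulift.symm.sum_comp, Fintype.sum_option]
    rfl
  have key : ∀ c : A, cf β (F.law.toFun' _ (MvPolynomial.C c ⊗ₜ[A] (1 : B) + gen A b Finset.univ)) =
      ∑ α ∈ T, (if (∀ i, α ⟨some i⟩ = β i) ∧ α ⟨none⟩ = 0 then
        cf α (F.law.toFun' _ (gen A g Finset.univ)) else 0) := by
    intro c
    rw [← hsum, hT, map_sum]
    refine Finset.sum_congr rfl fun α _ => ?_
    by_cases hdeg : (α.sum fun _ j => j) = e
    swap
    · rw [cf_gen_eq_zero_of_degree F.law F.homog g Finset.univ α hdeg, TensorProduct.tmul_zero,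
        map_zero, ite_self]
    have hdeg' : α ⟨none⟩ + ∑ i, α ⟨some i⟩ = e := by
      rw [← hdeg, Finsupp.sum_fintype _ _ (fun _ => rfl), ← Equiv.ulift.symm.sum_comp,
        Fintype.sum_option]
      rfl
    let α' : Fin n →₀ ℕ := Finsupp.equivFunOnFinite.symm fun i => α ⟨some i⟩
    have hmon : (α.prod fun k j => σ c k ^ j) = MvPolynomial.monomial α' (c ^ α ⟨none⟩) := by
      rw [Finsupp.prod_fintype _ _ (fun _ => pow_zero _), ← Equiv.ulift.symm.prod_comp,
        Fintype.prod_option, MvPolynomial.monomial_eq, Finsupp.prod_fintype _ _ (fun _ => pow_zero _),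
        map_pow]
      rfl
    rw [cf_tmul, hmon, MvPolynomial.coeff_monomial]
    by_cases hαβ : α' = β
    · have h1 : ∀ i, α ⟨some i⟩ = β i := fun i => by rw [← hαβ]; rfl
      have h0 : α ⟨none⟩ = 0 := by
        rw [Finset.sum_congr rfl fun i _ => h1 i, hβ] at hdeg'
        omega
      rw [if_pos hαβ, if_pos ⟨h1, h0⟩, h0, pow_zero, one_smul]
    · rw [if_neg hαβ, zero_smul, if_neg]
      exact fun h => hαβ (Finsupp.ext h.1)
  have h1 := key 1
  have h0 := key 0
  rw [map_one, ← Algebra.TensorProduct.one_def] at h1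
  rw [map_zero, TensorProduct.zero_tmul, zero_add] at h0
  rw [h1, h0]

theorem cf_gen_fin_eq_zero (F : PolLaw.MulLaw A B Ce e) {n : ℕ} (b : Fin n → B) (β : Fin n →₀ ℕ)
    (hβ : (β.sum fun _ j => j) ≠ e) :
    cf β (F.law.toFun' (MvPolynomial (Fin n) A) (gen A b Finset.univ)) = 0 := by
  classical
  let g : ULift.{u} (Fin n) → B := fun i => b i.down
  obtain ⟨T, -, hT⟩ := exists_value_eq F.law g Finset.univ
  have hsum : gen A b Finset.univ =
      ∑ i : ULift.{u} (Fin n), (MvPolynomial.X i.down : MvPolynomial (Fin n) A) ⊗ₜ[A] g i := by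
    rw [← Equiv.ulift.symm.sum_comp]
    rfl
  rw [hsum, hT, map_sum]
  refine Finset.sum_eq_zero fun α _ => ?_
  by_cases hdeg : (α.sum fun _ j => j) = e
  · have hmon : (α.prod fun k j => (MvPolynomial.X k.down : MvPolynomial (Fin n) A) ^ j) =
        MvPolynomial.monomial (Finsupp.equivFunOnFinite.symm fun i => α ⟨i⟩) 1 := by
      rw [Finsupp.prod_fintype _ _ (fun _ => pow_zero _), ← Equiv.ulift.symm.prod_comp,
        MvPolynomial.monomial_eq, Finsupp.prod_fintype _ _ (fun _ => pow_zero _), map_one, one_mul]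
      rfl
    rw [cf_tmul, hmon, MvPolynomial.coeff_monomial, if_neg, zero_smul]
    rintro rfl
    refine hβ ?_
    rw [← hdeg, Finsupp.sum_fintype _ _ (fun _ => rfl), Finsupp.sum_fintype _ _ (fun _ => rfl),
      ← Equiv.ulift.symm.sum_comp]
    rfl
  · rw [cf_gen_eq_zero_of_degree F.law F.homog g Finset.univ α hdeg, TensorProduct.tmul_zero,
      map_zero]

theorem surjective_of_iversen (γd : PolLaw.MulLaw A B Cd (e + 1))
    (γe : PolLaw.MulLaw A B Ce e) (hγe : PolLaw.IsGammaD γe)
    (ω : Cd ⊗[A] B →ₐ[A] Ce ⊗[A] B)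
    (hω : ∀ (S : Type u) [CommSemiring S] [Algebra A S] (x y : S ⊗[A] B),
      ω.toLinearMap.lTensor S
        ((Algebra.TensorProduct.includeLeft : Cd →ₐ[A] Cd ⊗[A] B).toLinearMap.lTensor S (γd.law.toFun' S x) *
          (Algebra.TensorProduct.includeRight : B →ₐ[A] Cd ⊗[A] B).toLinearMap.lTensor S y) =
      (Algebra.TensorProduct.includeLeft : Ce →ₐ[A] Ce ⊗[A] B).toLinearMap.lTensor S (γe.law.toFun' S x) *
        (Algebra.TensorProduct.includeRight : B →ₐ[A] Ce ⊗[A] B).toLinearMap.lTensor S (x * y)) :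
    Function.Surjective ω := by
  classical
  -- second factor
  have hB : ∀ b : B, (1 : Ce) ⊗ₜ[A] b ∈ LinearMap.range ω.toLinearMap := by
    intro b
    have h := hω A 1 (1 ⊗ₜ[A] b)
    rw [(γd.mult A).1, (γe.mult A).1, one_mul] at h
    simp only [Algebra.TensorProduct.one_def, LinearMap.lTensor_tmul, AlgHom.toLinearMap_apply,
      Algebra.TensorProduct.tmul_mul_tmul, one_mul, map_one,
      Algebra.TensorProduct.includeRight_apply] at h
    have h' := congrArg (TensorProduct.lid A (Ce ⊗[A] B)) h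
    simp only [TensorProduct.lid_tmul, one_smul] at h'
    exact ⟨_, h'.trans (by simp)⟩
  -- first factor
  let L : Submodule A Ce :=
    (LinearMap.range ω.toLinearMap).comap (Algebra.TensorProduct.includeLeft : Ce →ₐ[A] Ce ⊗[A] B).toLinearMap
  have hL : L = ⊤ := by
    rw [eq_top_iff, ← span_cf_gamma_eq_top hγe (Submodule.span_univ (R := A) (M := B)), Submodule.span_le]
    rintro c ⟨n, b, β, -, rfl⟩
    by_cases hβ : (β.sum fun _ j => j) = e
    swap
    · have hz := cf_gen_fin_eq_zero γe b β hβ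
      rw [SetLike.mem_coe, hz]
      exact L.zero_mem
    have hβ' : ∑ i, β i = e := by rwa [Finsupp.sum_fintype _ _ (fun _ => rfl)] at hβ
    let I : Ideal (MvPolynomial (Fin n) A) := MvPolynomial.idealOfVars (Fin n) A ^ (e + 1)
    let π : MvPolynomial (Fin n) A →ₐ[A] MvPolynomial (Fin n) A ⧸ I := Ideal.Quotient.mkₐ A I
    let u : MvPolynomial (Fin n) A ⊗[A] B := gen A b Finset.univ
    let Φ := Algebra.TensorProduct.map π (AlgHom.id A B)
    have hu : u ∈ (MvPolynomial.idealOfVars (Fin n) A).map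
        (Algebra.TensorProduct.includeLeft : MvPolynomial (Fin n) A →ₐ[A] MvPolynomial (Fin n) A ⊗[A] B) := by
      refine Ideal.sum_mem _ fun i _ => ?_
      have hX : MvPolynomial.X i ∈ MvPolynomial.idealOfVars (Fin n) A :=
        Ideal.subset_span (Set.mem_range_self i)
      have := Ideal.mul_mem_right ((1 : MvPolynomial (Fin n) A) ⊗ₜ[A] b i) _
        (Ideal.mem_map_of_mem (Algebra.TensorProduct.includeLeft (R := A) (S := A)
          (A := MvPolynomial (Fin n) A) (B := B)) hX)
      simpa using this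
    have hnil : IsNilpotent (Φ u) := by
      refine ⟨e + 1, ?_⟩
      rw [← map_pow]
      have h2 : u ^ (e + 1) ∈ I.map
          (Algebra.TensorProduct.includeLeft : MvPolynomial (Fin n) A →ₐ[A] MvPolynomial (Fin n) A ⊗[A] B) := by
        rw [Ideal.map_pow]
        exact Ideal.pow_mem_pow hu _
      have h3 : I.map (Algebra.TensorProduct.includeLeft :
          MvPolynomial (Fin n) A →ₐ[A] MvPolynomial (Fin n) A ⊗[A] B) ≤ RingHom.ker Φ := by
        rw [Ideal.map_le_iff_le_comap]
        intro p hp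
        have : π p = 0 := Ideal.Quotient.eq_zero_iff_mem.mpr hp
        simp [Φ, this]
      exact h3 h2
    obtain ⟨U, hU⟩ := (IsNilpotent.isUnit_one_add hnil)
    have h := hω _ (Φ (1 + u)) (↑U⁻¹)
    rw [show Φ (1 + u) * (↑U⁻¹ : (MvPolynomial (Fin n) A ⧸ I) ⊗[A] B) = 1 by
      rw [map_add, map_one, ← hU, Units.mul_inv]] at h
    have hr1 : (Algebra.TensorProduct.includeRight : B →ₐ[A] Ce ⊗[A] B).toLinearMap.lTensor
        (MvPolynomial (Fin n) A ⧸ I) 1 = 1 := by
      rw [Algebra.TensorProduct.one_def, LinearMap.lTensor_tmul, AlgHom.toLinearMap_apply, map_one]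
      rfl
    rw [hr1, mul_one] at h
    have hker : (I.restrictScalars A) ≤ LinearMap.ker (MvPolynomial.lcoeff A β) := by
      intro p hp
      exact (MvPolynomial.mem_pow_idealOfVars_iff' (e + 1) p).mp hp β (by
        rw [Finsupp.degree_eq_sum]; omega)
    let q : MvPolynomial (Fin n) A ⧸ I →ₗ[A] A :=
      ((I.restrictScalars A).liftQ (MvPolynomial.lcoeff A β) hker).comp
        (Submodule.Quotient.restrictScalarsEquiv A I).symm.toLinearMap
    have hq : ∀ p, q (π p) = p.coeff β := fun p => rfl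
    let cQ : ∀ (N : Type u) [AddCommGroup N] [Module A N],
        (MvPolynomial (Fin n) A ⧸ I) ⊗[A] N →ₗ[A] N := fun N _ _ =>
      (TensorProduct.lid A N).toLinearMap ∘ₗ q.rTensor N
    have hcl : ∀ {N N' : Type u} [AddCommGroup N] [Module A N] [AddCommGroup N'] [Module A N']
        (f : N →ₗ[A] N') (z : (MvPolynomial (Fin n) A ⧸ I) ⊗[A] N),
        cQ N' (f.lTensor _ z) = f (cQ N z) := by
      intro N N' _ _ _ _ f z
      induction z using TensorProduct.induction_on with
      | zero => simp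
      | tmul a b => simp [cQ]
      | add a b ha hb => simp only [map_add, ha, hb]
    have hc : cQ Ce (γe.law.toFun' _ (Φ (1 + u))) =
        cf β (γe.law.toFun' (MvPolynomial (Fin n) A) u) := by
      rw [← cf_one_add_gen γe b β hβ', ← PolLaw.rTensor_algHom_apply, ← compat]
      generalize γe.law.toFun' (MvPolynomial (Fin n) A) (1 + u) = z
      induction z using TensorProduct.induction_on with
      | zero => simp
      | tmul a b => simp [cQ, hq]
      | add a b ha hb => simp only [map_add, ha, hb]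
    change (Algebra.TensorProduct.includeLeft : Ce →ₐ[A] Ce ⊗[A] B).toLinearMap _ ∈
      LinearMap.range ω.toLinearMap
    rw [← hc, ← hcl, ← h, hcl]
    exact ⟨_, rfl⟩
  intro z
  induction z using TensorProduct.induction_on with
  | zero => exact ⟨0, map_zero ω⟩
  | tmul c b =>
    obtain ⟨x, hx⟩ := (show c ∈ L from hL ▸ Submodule.mem_top)
    obtain ⟨y, hy⟩ := hB b
    refine ⟨x * y, ?_⟩
    rw [map_mul, show ω x = c ⊗ₜ[A] (1 : B) from hx, show ω y = (1 : Ce) ⊗ₜ[A] b from hy,
      Algebra.TensorProduct.tmul_mul_tmul, mul_one, one_mul]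
  | add a b ha hb =>
    obtain ⟨x, rfl⟩ := ha
    obtain ⟨y, rfl⟩ := hb
    exact ⟨x + y, map_add ω x y⟩

end Groth.Agent.PLaw
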