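import Groth.Agent.PLaw.Points
import Groth.Agent.WN.Basic
import Mathlib.RingTheory.TensorProduct.IsBaseChangePi
import Mathlib.RingTheory.IntegralClosure.IsIntegralClosure.Basic
import Mathlib.RingTheory.Spectrum.Prime.Topology
import Mathlib.FieldTheory.IsAlgClosed.AlgebraicClosure
import Mathlib.AlgebraicGeometry.Morphisms.UniversallyOpen

/-!
# The image of a family of zero cycles and its base changes
-/

universe u

open scoped TensorProduct Polynomial

namespace Groth.Agent.PLaw

variable {A : Type u} [CommRing A] {B : Type u} [CommRing B] [Algebra A B] {d : ℕ}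
  (F : PolLaw.MulLaw A B A d) {A' : Type u} [CommRing A'] [Algebra A A']

theorem isIntegral_baseChange_image : Algebra.IsIntegral A' (A' ⊗[A] PolLaw.image F.law) := by
  have := isIntegral_image F
  infer_instance

/-- Points of the base changed image lying over a given point of the base. -/
theorem exists_point_eq {K : Type u} [Field K] [Algebra A K] {x : Fin d → (B →ₐ[A] K)}
    (hx : IsPoints F x) (ρ : A' →ₐ[A] K) (Ψ : A' ⊗[A] B →ₐ[A] K)
    (hρ : ∀ a, Ψ (a ⊗ₜ[A] 1) = ρ a) (hΨ : ∀ b ∈ PolLaw.ker F.law, Ψ (1 ⊗ₜ[A] b) = 0) :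
    ∃ i, pointOn ρ (x i) = Ψ := by
  obtain ⟨i, hi⟩ := hx.exists_eq F (Ψ.comp Algebra.TensorProduct.includeRight) hΨ
  refine ⟨i, Algebra.TensorProduct.ext (AlgHom.ext fun a => ?_) (AlgHom.ext fun b => ?_)⟩
  · simp [hρ]
  · simp [hi]

/-- The quotient map on base changes. -/
noncomputable def mkBC : A' ⊗[A] B →ₐ[A'] A' ⊗[A] PolLaw.image F.law :=
  Algebra.TensorProduct.map (AlgHom.id A' A') (Ideal.Quotient.mkₐ A (PolLaw.ker F.law))

theorem mkBC_surjective : Function.Surjective (mkBC F (A' := A')) :=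
  fun z => by
    obtain ⟨w, hw⟩ := LinearMap.lTensor_surjective A' (g := (Ideal.Quotient.mkₐ A (PolLaw.ker F.law)).toLinearMap)
      Ideal.Quotient.mk_surjective z
    refine ⟨w, Eq.trans ?_ hw⟩
    clear hw
    induction w using TensorProduct.induction_on with
    | zero => simp
    | tmul a b => simp [mkBC]
    | add a b ha hb => simp only [map_add, ha, hb]

/-- A point `x i`, on the image. -/
noncomputable def imagePoint {K : Type u} [Field K] [Algebra A K] {x : Fin d → (B →ₐ[A] K)}
    (hx : IsPoints F x) (ρ : A' →ₐ[A] K) (i : Fin d) : A' ⊗[A] PolLaw.image F.law →ₐ[A] K :=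
  pointOn ρ (Ideal.Quotient.liftₐ (PolLaw.ker F.law) (x i) fun _ hb => hx.apply_eq_zero hb i)

theorem imagePoint_mkBC {K : Type u} [Field K] [Algebra A K] {x : Fin d → (B →ₐ[A] K)}
    (hx : IsPoints F x) (ρ : A' →ₐ[A] K) (i : Fin d) (z : A' ⊗[A] B) :
    imagePoint F hx ρ i (mkBC F z) = pointOn ρ (x i) z := by
  induction z using TensorProduct.induction_on with
  | zero => simp
  | tmul a b =>
    simp only [imagePoint, mkBC, Algebra.TensorProduct.map_tmul, AlgHom.id_apply, pointOn_tmul]
    rfl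
  | add a b ha hb => simp only [map_add, ha, hb]

theorem imagePoint_algebraMap {K : Type u} [Field K] [Algebra A K] {x : Fin d → (B →ₐ[A] K)}
    (hx : IsPoints F x) (ρ : A' →ₐ[A] K) (i : Fin d) (a : A') :
    imagePoint F hx ρ i (algebraMap A' _ a) = ρ a := by
  simp [imagePoint, Algebra.TensorProduct.algebraMap_apply]

/-- Every prime over `p = ker ρ` is the kernel of one of the points. -/
theorem exists_ker_eq {K : Type u} [Field K] [IsAlgClosed K] [Algebra A K] {x : Fin d → (B →ₐ[A] K)}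
    (hx : IsPoints F x) (ρ : A' →ₐ[A] K) (q : Ideal (A' ⊗[A] PolLaw.image F.law)) [q.IsPrime]
    (hq : q.comap (algebraMap A' _) = RingHom.ker ρ.toRingHom) :
    ∃ i, RingHom.ker (imagePoint F hx ρ i).toRingHom = q := by
  have := isIntegral_baseChange_image F (A' := A')
  obtain ⟨h, hh, hker⟩ := WN.exists_point_at
    (Algebra.IsIntegral.isIntegral : (algebraMap A' (A' ⊗[A] PolLaw.image F.law)).IsIntegral)
    q K ρ.toRingHom hq
  have hρ : ∀ a, h (algebraMap A' _ a) = ρ a := fun a => RingHom.congr_fun hh a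
  let h' : A' ⊗[A] PolLaw.image F.law →ₐ[A] K :=
    { h with
      commutes' := fun a => by
        change h _ = _
        rw [IsScalarTower.algebraMap_apply A A' (A' ⊗[A] PolLaw.image F.law), hρ, AlgHom.commutes] }
  obtain ⟨i, hi⟩ := exists_point_eq F hx ρ (h'.comp ((mkBC F).restrictScalars A)) (fun a => by
    simpa [mkBC, h', Algebra.TensorProduct.algebraMap_apply] using hρ a) (fun b hb => by
    simp [mkBC, Ideal.Quotient.eq_zero_iff_mem.mpr hb])
  refine ⟨i, ?_⟩
  have : imagePoint F hx ρ i = h' := AlgHom.ext fun z => by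
    obtain ⟨z, rfl⟩ := mkBC_surjective F z
    rw [imagePoint_mkBC, hi]
    rfl
  rw [this]
  exact hker

/-- The fibre over a prime has at most `d` points. -/
theorem exists_fibre_points (p : PrimeSpectrum A') :
    ∃ s : Fin d → PrimeSpectrum (A' ⊗[A] PolLaw.image F.law),
      ∀ q, PrimeSpectrum.comap (algebraMap A' _) q = p → ∃ i, s i = q := by
  let K := AlgebraicClosure p.asIdeal.ResidueField
  let ρ : A' →ₐ[A] K := IsScalarTower.toAlgHom A A' K
  obtain ⟨x, hx⟩ := exists_isPoints F K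
  refine ⟨fun i => ⟨RingHom.ker (imagePoint F hx ρ i).toRingHom, RingHom.ker_isPrime _⟩, fun q hq => ?_⟩
  obtain ⟨i, hi⟩ := exists_ker_eq F hx ρ q.asIdeal (by
    rw [← PrimeSpectrum.comap_asIdeal, hq]
    refine Eq.symm (Ideal.ext fun a => ?_)
    rw [RingHom.mem_ker]
    change algebraMap A' K a = 0 ↔ _
    rw [IsScalarTower.algebraMap_apply A' p.asIdeal.ResidueField K, map_eq_zero,
      Ideal.algebraMap_residueField_eq_zero])
  exact ⟨i, PrimeSpectrum.ext hi⟩

/-- The base changed image is open over the base. -/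
theorem isOpenMap_baseChange_image :
    IsOpenMap (PrimeSpectrum.comap (algebraMap A' (A' ⊗[A] PolLaw.image F.law))) := by
  classical
  rw [PrimeSpectrum.isTopologicalBasis_basic_opens.isOpenMap_iff]
  rintro _ ⟨f, rfl⟩
  obtain ⟨f, rfl⟩ := mkBC_surjective F f
  suffices heq : PrimeSpectrum.comap (algebraMap A' (A' ⊗[A] PolLaw.image F.law)) ''
      (PrimeSpectrum.basicOpen (mkBC F f) : Set _) =
      ⋃ k : ℕ, (PrimeSpectrum.basicOpen ((chiOf F A' f - Polynomial.X ^ d).coeff k) : Set _) by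
    rw [heq]
    exact isOpen_iUnion fun k => PrimeSpectrum.isOpen_basicOpen
  ext p
  let K := AlgebraicClosure p.asIdeal.ResidueField
  let ρ : A' →ₐ[A] K := IsScalarTower.toAlgHom A A' K
  obtain ⟨x, hx⟩ := exists_isPoints F K
  have hker : ∀ a, ρ a = 0 ↔ a ∈ p.asIdeal := fun a => by
    change algebraMap A' K a = 0 ↔ _
    rw [IsScalarTower.algebraMap_apply A' p.asIdeal.ResidueField K, map_eq_zero,
      Ideal.algebraMap_residueField_eq_zero]
  have hcoeff : (∀ k, (chiOf F A' f - Polynomial.X ^ d).coeff k ∈ p.asIdeal) ↔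
      ∀ i, pointOn ρ (x i) f = 0 := by
    have h1 : (∀ k, (chiOf F A' f - Polynomial.X ^ d).coeff k ∈ p.asIdeal) ↔
        (chiOf F A' f).map ρ.toRingHom = Polynomial.X ^ d := by
      rw [← sub_eq_zero, Polynomial.ext_iff]
      refine forall_congr' fun k => ?_
      rw [← hker, Polynomial.coeff_zero, Polynomial.coeff_sub, Polynomial.coeff_sub, Polynomial.coeff_map]
      refine iff_of_eq (congrArg (· = 0) ?_)
      rcases eq_or_ne k d with rfl | hk <;> simp [Polynomial.coeff_X_pow, *]
    rw [h1, map_chiOf hx]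
    exact ⟨fun h i => eval_eq_zero_of_eq_X_pow (y := fun i => pointOn ρ (x i) f) h i,
      fun h => by simp [h]⟩
  constructor
  · rintro ⟨q, hqf, rfl⟩
    rw [Set.mem_iUnion]
    by_contra! hc
    obtain ⟨i, hi⟩ := exists_ker_eq F hx ρ q.asIdeal
      (Eq.symm (Ideal.ext fun a => (RingHom.mem_ker).trans (hker a)))
    refine (show mkBC F f ∉ q.asIdeal from hqf) ?_
    rw [← hi, RingHom.mem_ker]
    exact (imagePoint_mkBC F hx ρ i f).trans (hcoeff.mp (fun k => not_not.mp (hc k)) i)
  · intro hp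
    obtain ⟨k, hk⟩ := Set.mem_iUnion.mp hp
    obtain ⟨i, hi⟩ : ∃ i, pointOn ρ (x i) f ≠ 0 := by
      by_contra! h
      exact absurd (hcoeff.mpr h k) hk
    refine ⟨⟨RingHom.ker (imagePoint F hx ρ i).toRingHom, RingHom.ker_isPrime _⟩, ?_, ?_⟩
    · exact fun h => hi ((imagePoint_mkBC F hx ρ i f).symm.trans h)
    · refine PrimeSpectrum.ext (Ideal.ext fun a => ?_)
      rw [PrimeSpectrum.comap_asIdeal, Ideal.mem_comap, RingHom.mem_ker, ← hker]
      exact iff_of_eq (congrArg (· = 0) (imagePoint_algebraMap F hx ρ i a))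

/-- The base changed image is generalizing over the base. -/
theorem generalizingMap_baseChange_image :
    GeneralizingMap (PrimeSpectrum.comap (algebraMap A' (A' ⊗[A] PolLaw.image F.law))) := by
  classical
  intro q p' hp'
  obtain ⟨s, hs⟩ := exists_fibre_points F p'
  by_contra hne
  have hw : ∀ i, PrimeSpectrum.comap (algebraMap A' _) (s i) = p' →
      ∃ f, f ∈ (s i).asIdeal ∧ f ∉ q.asIdeal := fun i hi => by
    by_contra! h
    exact hne ⟨s i, PrimeSpectrum.le_iff_specializes _ _ |>.mp h, hi⟩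
  choose f hf hfq using hw
  let g := ∏ i : Fin d, if h : PrimeSpectrum.comap (algebraMap A' _) (s i) = p' then f i h else 1
  have hgq : g ∉ q.asIdeal := fun h => by
    obtain ⟨i, -, hi⟩ := Ideal.IsPrime.prod_mem_iff.mp h
    split_ifs at hi with hc
    · exact hfq i hc hi
    · exact q.isPrime.ne_top ((Ideal.eq_top_iff_one _).mpr hi)
  obtain ⟨q', hq', hqp⟩ := hp'.mem_open
    (isOpenMap_baseChange_image F _ (PrimeSpectrum.isOpen_basicOpen (a := g))) ⟨q, hgq, rfl⟩
  obtain ⟨i, rfl⟩ := hs q' hqp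
  refine hq' (Ideal.mem_of_dvd _ ?_ (hf i hqp))
  have := Finset.dvd_prod_of_mem
    (fun i : Fin d => if h : PrimeSpectrum.comap (algebraMap A' _) (s i) = p' then f i h else 1)
    (Finset.mem_univ i)
  rwa [dif_pos hqp] at this

/-- Primes over the kernel contain the kernel of every base change. -/
theorem kerBC_le_of_isPrime {q : Ideal (A' ⊗[A] B)} [q.IsPrime]
    (hq : (PolLaw.ker F.law).map (Algebra.TensorProduct.includeRight : B →ₐ[A] A' ⊗[A] B) ≤ q) :
    PolLaw.kerBC F.law A' ≤ q := by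
  intro z hz
  let K := AlgebraicClosure q.ResidueField
  let Ψ : A' ⊗[A] B →ₐ[A] K := IsScalarTower.toAlgHom A (A' ⊗[A] B) K
  have hΨ : ∀ w, Ψ w = 0 ↔ w ∈ q := fun w => by
    change algebraMap (A' ⊗[A] B) K w = 0 ↔ _
    rw [IsScalarTower.algebraMap_apply (A' ⊗[A] B) q.ResidueField K, map_eq_zero,
      Ideal.algebraMap_residueField_eq_zero]
  let ρ : A' →ₐ[A] K := Ψ.comp Algebra.TensorProduct.includeLeft
  obtain ⟨x, hx⟩ := exists_isPoints F K
  obtain ⟨i, hi⟩ := exists_point_eq F hx ρ Ψ (fun a => rfl)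
    (fun b hb => (hΨ _).mpr (hq (Ideal.mem_map_of_mem _ hb)))
  rw [← hΨ, ← hi]
  exact hx.apply_kerBC_eq_zero F ρ hz i

open AlgebraicGeometry CategoryTheory Limits in
theorem universallyOpen_image :
    UniversallyOpen (Spec.map (CommRingCat.ofHom (algebraMap A (PolLaw.image F.law)))) := by
  refine ⟨MorphismProperty.universally_mk' _ _ fun {T} g _ => ?_⟩
  wlog hT : ∃ R, T = Spec R generalizing T
  · refine (IsZariskiLocalAtTarget.iff_of_openCover T.affineCover).mpr fun i ↦ ?_
    refine (MorphismProperty.cancel_left_of_respectsIso _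
      ((pullbackRightPullbackFstIso ..).inv ≫ (pullbackSymmetry ..).hom) _).mp ?_
    simpa [Scheme.Cover.pullbackHom] using! this _ _ ⟨_, rfl⟩
  obtain ⟨R, rfl⟩ := hT
  obtain ⟨ψ, rfl⟩ := Spec.map_surjective g
  let := ψ.hom.toAlgebra
  refine (MorphismProperty.cancel_left_of_respectsIso _
    (pullbackSpecIso A R (PolLaw.image F.law)).inv _).mp ?_
  convert_to! topologically _
    (Spec.map <| CommRingCat.ofHom (algebraMap R (TensorProduct A R (PolLaw.image F.law))))
  · exact pullbackSpecIso_inv_fst ..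
  exact isOpenMap_baseChange_image F

end Groth.Agent.PLaw
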