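import Groth.Agent.PLaw.Symm

/-!
# The norm law from the tensor power to the divided power algebra

For a presentation `q : TS A P d → C` of `(C, γ)` along `π : P → B`, the law `u ↦ q (∏ σ, σ u)` on
`P^{⊗ d}` factors through `B^{⊗ d}` (`exists_normToGamma`).
-/

universe u

open scoped TensorProduct

namespace Groth.Agent.PLaw

variable {A : Type u} [CommRing A] {B : Type u} [CommRing B] [Algebra A B] {P : Type u} [CommRing P]
  [Algebra A P] {d : ℕ} {κ : Type u} (e : Module.Basis κ A P)

include e in
/-- Tensors invariant under the stabiliser of `j` are in the image of `slotMap`. -/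
theorem mem_slotMap_of_invariant (S : Type u) [CommSemiring S] [Algebra A S] (j : Fin d)
    {y : S ⊗[A] (⨂[A] _ : Fin d, P)}
    (hy : ∀ σ : Equiv.Perm (Fin d), σ j = j → permS A P S σ y = y) :
    y ∈ (slotMap A P S j).range := by
  classical
  have h := mem_span_fiber (sbasis e S d) (fun c => (c j, cnt c)) y (fun c c' hcc => by
      simp only [Prod.mk.injEq] at hcc
      obtain ⟨σ, hσ⟩ := exists_perm_of_cnt_eq hcc.2
      -- correct `σ` so that it fixes `j`
      let τ : Equiv.Perm (Fin d) := Equiv.swap j (σ j) * σ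
      have hτj : τ j = j := by simp [τ, Equiv.Perm.mul_apply]
      have hτ : ∀ i, c' i = c (τ i) := fun i => by
        rw [hσ i]
        simp only [τ, Equiv.Perm.mul_apply]
        by_cases h1 : σ i = j
        · rw [h1, Equiv.swap_apply_left, ← hσ j, hcc.1]
        · by_cases h2 : σ i = σ j
          · rw [h2, Equiv.swap_apply_right, ← hσ j, hcc.1]
          · rw [Equiv.swap_apply_of_ne_of_ne h1 h2]
      rw [← sbasis_repr_invariant e S τ.symm (y := y) (by
        rw [← perm_toLinearMap, LinearMap.baseChange_eq_ltensor, ← permS_apply]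
        exact hy _ (by rw [Equiv.symm_apply_eq]; exact hτj.symm)) c]
      congr 1
      funext i
      rw [Equiv.symm_symm, hτ i])
    (fun q => (words d q.2).filter fun c : Fin d → κ => c j = q.1)
    (fun q c => by simp [mem_words, Prod.ext_iff, and_comm])
  -- the range is stable under scalars
  let R' : Submodule S (S ⊗[A] (⨂[A] _ : Fin d, P)) :=
    { carrier := {z | z ∈ (slotMap A P S j).range}
      add_mem' := fun {a b} ha hb => Subalgebra.add_mem (slotMap A P S j).range ha hb
      zero_mem' := Subalgebra.zero_mem (slotMap A P S j).range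
      smul_mem' := fun s z hz => by
        have hs : s ⊗ₜ[A] (1 : ⨂[A] _ : Fin d, P) ∈ (slotMap A P S j).range :=
          ⟨(s ⊗ₜ[A] (1 : SymTen.TS A P d)) ⊗ₜ[A] 1, by
            simp [slotMap_tmul, valS_tmul, ← Algebra.TensorProduct.one_def, ← PiTensorProduct.one_def]⟩
        have hmul : ∀ w : S ⊗[A] (⨂[A] _ : Fin d, P),
            s • w = (s ⊗ₜ[A] (1 : ⨂[A] _ : Fin d, P)) * w := fun w => by
          induction w using TensorProduct.induction_on with
          | zero => simp
          | tmul a b => simp [TensorProduct.smul_tmul']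
          | add a b ha hb => simp only [smul_add, mul_add, ha, hb]
        change s • z ∈ (slotMap A P S j).range
        rw [hmul]
        exact Subalgebra.mul_mem _ hs hz }
  suffices hle : Submodule.span S (Set.range fun q : κ × (κ →₀ ℕ) =>
      ∑ c ∈ (words d q.2).filter (fun c : Fin d → κ => c j = q.1), sbasis e S d c) ≤ R' from hle h
  rw [Submodule.span_le]
  rintro _ ⟨q, rfl⟩
  obtain ⟨z, hz⟩ := slotOrb_mem e j q.1 q.2
  refine ⟨Algebra.TensorProduct.map (Algebra.TensorProduct.includeRight :
      SymTen.TS A P d →ₐ[A] S ⊗[A] SymTen.TS A P d) (AlgHom.id A P) z, ?_⟩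
  have hcomm : ∀ z, slotMap A P S j (Algebra.TensorProduct.map
      (Algebra.TensorProduct.includeRight : SymTen.TS A P d →ₐ[A] S ⊗[A] SymTen.TS A P d)
        (AlgHom.id A P) z) = 1 ⊗ₜ[A] slotMap₀ A P j z := by
    intro z
    induction z using TensorProduct.induction_on with
    | zero => simp
    | tmul t p => simp [slotMap_tmul, valS_tmul, slotMap₀]
    | add a b ha hb => simp only [map_add, TensorProduct.tmul_add, ha, hb]
  change slotMap A P S j _ = _
  rw [hcomm]
  change _ ⊗ₜ[A] (slotMap₀ A P j).toRingHom z = _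
  rw [hz, TensorProduct.tmul_sum]
  simp only [sbasis_apply]

theorem ringHom_map_prod' {R T ι : Type*} [CommSemiring R] [CommSemiring T] (f : R →+* T)
    (I : Finset ι) (g : ι → R) : f (∏ i ∈ I, g i) = ∏ i ∈ I, f (g i) := map_prod f g I

/-- The product of all permutations of a tensor. -/
noncomputable def symmProd (S : Type u) [CommSemiring S] [Algebra A S]
    (z : S ⊗[A] (⨂[A] _ : Fin d, P)) : S ⊗[A] (⨂[A] _ : Fin d, P) :=
  ∏ σ : Equiv.Perm (Fin d), permS A P S σ z

theorem symmLaw_apply (S : Type u) [CommSemiring S] [Algebra A S] (z : S ⊗[A] (⨂[A] _ : Fin d, P)) :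
    (SymTen.symmLaw A P d).law.toFun' S z = symmProd S z := by
  simp only [SymTen.symmLaw, PolLaw.MulLaw.prodMap_toFun', symmProd, permS_apply,
    PolLaw.lTensor_algHom_apply]

theorem symmProd_invariant (S : Type u) [CommSemiring S] [Algebra A S] (τ : Equiv.Perm (Fin d))
    (z : S ⊗[A] (⨂[A] _ : Fin d, P)) :
    permS A P S τ (symmProd S z) = symmProd S z := by
  rw [symmProd, map_prod]
  simp only [permS_mul]
  exact Equiv.prod_comp (Equiv.mulLeft τ) fun σ => permS A P S σ z

include e in
theorem valS_injective (S : Type u) [CommSemiring S] [Algebra A S] :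
    Function.Injective (valS A P d S) := by
  intro a b h
  rw [valS_apply, valS_apply] at h
  exact lTensor_val_injective e S h

/-- The symmetrised product as a law into `TS`. -/
noncomputable def symmTSLaw (d : ℕ) :
    PolLaw.MulLaw A (⨂[A] _ : Fin d, P) (SymTen.TS A P d) d.factorial where
  law := PolLaw.postcomp (retrTS e d) (SymTen.symmLaw A P d).law
  homog S _ _ r z := by
    simp only [postcomp_apply, (SymTen.symmLaw A P d).homog S r z, ← LinearMap.baseChange_eq_ltensor,
      map_smul]
  mult S _ _ := by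
    refine ⟨?_, fun x y => ?_⟩
    · simp only [postcomp_apply, ((SymTen.symmLaw A P d).mult S).1]
      rw [← map_one (valS A P d S), valS_apply, lTensor_retrTS_val]
    · obtain ⟨a, ha⟩ := exists_lTensor_val_eq e (y := symmProd S x) fun σ => by
        rw [← permS_apply, symmProd_invariant]
      obtain ⟨b, hb⟩ := exists_lTensor_val_eq e (y := symmProd S y) fun σ => by
        rw [← permS_apply, symmProd_invariant]
      simp only [postcomp_apply, ((SymTen.symmLaw A P d).mult S).2, symmLaw_apply, ← ha, ← hb,
        lTensor_retrTS_val]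
      rw [← valS_apply, ← valS_apply, ← map_mul, valS_apply, lTensor_retrTS_val]

theorem valS_symmTSLaw (S : Type u) [CommSemiring S] [Algebra A S]
    (z : S ⊗[A] (⨂[A] _ : Fin d, P)) :
    valS A P d S ((symmTSLaw e d).law.toFun' S z) = symmProd S z := by
  obtain ⟨a, ha⟩ := exists_lTensor_val_eq e (y := symmProd S z) fun σ => by
    rw [← permS_apply, symmProd_invariant]
  rw [valS_apply]
  change (SymTen.TS A P d).val.toLinearMap.lTensor S
    ((retrTS e d).lTensor S ((SymTen.symmLaw A P d).law.toFun' S z)) = _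
  rw [symmLaw_apply, ← ha, lTensor_retrTS_val]

variable (A P) in
/-- The map `(S ⊗ TS) ⊗ P^{⊗ d} → S ⊗ P^{⊗ d}`. -/
noncomputable def foldS (S : Type u) [CommSemiring S] [Algebra A S] (d : ℕ) :
    (S ⊗[A] SymTen.TS A P d) ⊗[A] (⨂[A] _ : Fin d, P) →ₐ[A] S ⊗[A] (⨂[A] _ : Fin d, P) :=
  Algebra.TensorProduct.lift (valS A P d S) Algebra.TensorProduct.includeRight
    fun _ _ => Commute.all _ _

variable (A P) in
/-- The map `(S ⊗ TS) ⊗ TS → S ⊗ TS`. -/
noncomputable def foldTS (S : Type u) [CommSemiring S] [Algebra A S] (d : ℕ) :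
    (S ⊗[A] SymTen.TS A P d) ⊗[A] SymTen.TS A P d →ₐ[A] S ⊗[A] SymTen.TS A P d :=
  Algebra.TensorProduct.lift (AlgHom.id A _) Algebra.TensorProduct.includeRight
    fun _ _ => Commute.all _ _

theorem foldS_val (S : Type u) [CommSemiring S] [Algebra A S]
    (z : (S ⊗[A] SymTen.TS A P d) ⊗[A] SymTen.TS A P d) :
    foldS A P S d ((SymTen.TS A P d).val.toLinearMap.lTensor _ z) =
      valS A P d S (foldTS A P S d z) := by
  induction z using TensorProduct.induction_on with
  | zero => simp
  | tmul a t => simp [foldS, foldTS, valS_tmul]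
  | add a b ha hb => simp only [map_add, ha, hb]

theorem permS_slotMap (S : Type u) [CommSemiring S] [Algebra A S] (σ : Equiv.Perm (Fin d)) (j : Fin d)
    (y : (S ⊗[A] SymTen.TS A P d) ⊗[A] P) :
    permS A P S σ (slotMap A P S j y) =
      foldS A P S d (Algebra.TensorProduct.map (AlgHom.id A (S ⊗[A] SymTen.TS A P d))
        (PiTensorProduct.singleAlgHom (R := A) (A := fun _ : Fin d => P) (σ j)) y) := by
  induction y using TensorProduct.induction_on with
  | zero => simp
  | tmul a p =>
    rw [slotMap_tmul, map_mul, permS_valS]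
    simp only [permS, foldS, Algebra.TensorProduct.map_tmul, AlgHom.id_apply, perm_single,
      Algebra.TensorProduct.lift_tmul, Algebra.TensorProduct.includeRight_apply]
  | add a b ha hb => simp only [map_add, ha, hb]

theorem symmProd_eq_prod_swap (S : Type u) [CommSemiring S] [Algebra A S] (j : Fin d)
    (z : S ⊗[A] (⨂[A] _ : Fin d, P)) :
    symmProd S z = ∏ i, permS A P S (Equiv.swap j i)
      (∏ h ∈ Finset.univ.filter (fun h : Equiv.Perm (Fin d) => h j = j), permS A P S h z) := by
  rw [symmProd, ← Finset.prod_fiberwise Finset.univ (fun σ : Equiv.Perm (Fin d) => σ j)]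
  refine Finset.prod_congr rfl fun i _ => ?_
  rw [map_prod]
  refine Finset.prod_nbij' (fun σ => Equiv.swap j i * σ) (fun h => Equiv.swap j i * h) ?_ ?_ ?_ ?_ ?_
  · intro σ hσ; simp only [Finset.mem_filter, Finset.mem_univ, true_and] at hσ ⊢
    simp [Equiv.Perm.mul_apply, hσ]
  · intro h hh; simp only [Finset.mem_filter, Finset.mem_univ, true_and] at hh ⊢
    simp [Equiv.Perm.mul_apply, hh]
  · intro σ _; simp [← mul_assoc]
  · intro h _; simp [← mul_assoc]
  · intro σ _; rw [permS_mul, ← mul_assoc, Equiv.swap_mul_self, one_mul]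

variable {C : Type u} [CommRing C] [Algebra A C] {π : P →ₐ[A] B} {γ : PolLaw.MulLaw A B C d}
  {q : SymTen.TS A P d →ₐ[A] C}

/-- The map `(S ⊗ TS) ⊗ C → S ⊗ C`. -/
noncomputable def foldC (q : SymTen.TS A P d →ₐ[A] C) (S : Type u) [CommSemiring S] [Algebra A S] :
    (S ⊗[A] SymTen.TS A P d) ⊗[A] C →ₐ[A] S ⊗[A] C :=
  Algebra.TensorProduct.lift (Algebra.TensorProduct.map (AlgHom.id A S) q)
    Algebra.TensorProduct.includeRight fun _ _ => Commute.all _ _

theorem foldC_q (S : Type u) [CommSemiring S] [Algebra A S]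
    (z : (S ⊗[A] SymTen.TS A P d) ⊗[A] SymTen.TS A P d) :
    q.toLinearMap.lTensor S (foldTS A P S d z) = foldC q S (q.toLinearMap.lTensor _ z) := by
  have h : ∀ w : S ⊗[A] SymTen.TS A P d,
      q.toLinearMap.lTensor S w = Algebra.TensorProduct.map (AlgHom.id A S) q w := fun w => by
    induction w using TensorProduct.induction_on with
    | zero => simp
    | tmul s t => rfl
    | add a b ha hb => simp only [map_add, ha, hb]
  rw [h]
  induction z using TensorProduct.induction_on with
  | zero => simp
  | tmul a t => simp [foldC, foldTS]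
  | add a b ha hb => simp only [map_add, ha, hb]

set_option synthInstance.maxHeartbeats 200000 in
set_option synthInstance.maxSize 1000 in
set_option maxHeartbeats 1600000 in
include e in
/-- The key invariance: perturbing one factor by the kernel does not change the norm. -/
theorem norm_step
    (hq : ∀ (S : Type u) [CommSemiring S] [Algebra A S] (x : S ⊗[A] P),
      q.toLinearMap.lTensor S ((tauTS e d).law.toFun' S x) =
        γ.law.toFun' S (π.toLinearMap.lTensor S x))
    (S : Type u) [CommSemiring S] [Algebra A S] (j : Fin d) (x v : S ⊗[A] (⨂[A] _ : Fin d, P))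
    (k : P) (hk : π k = 0) :
    q.toLinearMap.lTensor S ((symmTSLaw e d).law.toFun' S
        (x + v * (1 ⊗ₜ[A] PiTensorProduct.singleAlgHom (A := fun _ : Fin d => P) j k))) =
      q.toLinearMap.lTensor S ((symmTSLaw e d).law.toFun' S x) := by
  classical
  let K : S ⊗[A] (⨂[A] _ : Fin d, P) :=
    1 ⊗ₜ[A] PiTensorProduct.singleAlgHom (A := fun _ : Fin d => P) j k
  let H := Finset.univ.filter (fun h : Equiv.Perm (Fin d) => h j = j)
  let Ψ : Polynomial (S ⊗[A] (⨂[A] _ : Fin d, P)) :=
    ∏ h ∈ H, (Polynomial.C (permS A P S h x) + Polynomial.C (permS A P S h v) * Polynomial.X)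
  have hH : ∀ h ∈ H, permS A P S h K = K := fun h hh => by
    simp only [K, permS, Algebra.TensorProduct.map_tmul, AlgHom.id_apply, perm_single,
      (Finset.mem_filter.mp hh).2]
  have hinv : ∀ m (σ : Equiv.Perm (Fin d)), σ j = j → permS A P S σ (Ψ.coeff m) = Ψ.coeff m := by
    intro m σ hσ
    have : Ψ.map (permS A P S σ).toRingHom = Ψ := by
      simp only [Ψ, Polynomial.map_prod, Polynomial.map_add, Polynomial.map_mul, Polynomial.map_C,
        Polynomial.map_X, AlgHom.toRingHom_eq_coe, RingHom.coe_coe, permS_mul]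
      refine Finset.prod_nbij' (fun h => σ * h) (fun h => σ⁻¹ * h) ?_ ?_ ?_ ?_ ?_
      · intro h hh; simp only [H, Finset.mem_filter, Finset.mem_univ, true_and] at hh ⊢
        simp [Equiv.Perm.mul_apply, hh, hσ]
      · intro h hh; simp only [H, Finset.mem_filter, Finset.mem_univ, true_and] at hh ⊢
        simp only [Equiv.Perm.mul_apply, hh]
        rw [Equiv.Perm.inv_eq_iff_eq, hσ]
      · intro h _; simp
      · intro h _; simp
      · intro h _; rfl
    conv_rhs => rw [← this]
    rw [Polynomial.coeff_map]
    rfl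
  choose ym hym using fun m => mem_slotMap_of_invariant e S j (hinv m)
  let N := Ψ.natDegree + 1
  let k' : (S ⊗[A] SymTen.TS A P d) ⊗[A] P := 1 ⊗ₜ[A] k
  let y := ∑ m ∈ Finset.range N, ym m * k' ^ m
  have hk' : slotMap A P S j k' = K := by
    simp only [k', slotMap_tmul, map_one, one_mul, K]
  have hy : slotMap A P S j y = Ψ.eval K := by
    rw [Polynomial.eval_eq_sum_range, map_sum]
    refine Finset.sum_congr rfl fun m _ => ?_
    change (slotMap A P S j).toRingHom (ym m * k' ^ m) = _
    rw [RingHom.map_mul, RingHom.map_pow]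
    change (slotMap A P S j) (ym m) * (slotMap A P S j) k' ^ m = _
    rw [hk']
    exact congrArg (· * K ^ m) (hym m)
  have hy0 : slotMap A P S j (ym 0) = Ψ.eval 0 := by
    rw [← Polynomial.coeff_zero_eq_eval_zero]
    exact hym 0
  have hπy : π.toLinearMap.lTensor (S ⊗[A] SymTen.TS A P d) y =
      π.toLinearMap.lTensor (S ⊗[A] SymTen.TS A P d) (ym 0) := by
    simp only [PolLaw.lTensor_algHom_apply, y, map_sum, map_mul, map_pow]
    rw [Finset.sum_eq_single_of_mem 0 (Finset.mem_range.mpr (Nat.succ_pos _))]
    · simp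
    · intro m _ hm
      simp only [k', Algebra.TensorProduct.map_tmul, hk, TensorProduct.tmul_zero, zero_pow hm,
        mul_zero]
  have key : ∀ (z : S ⊗[A] (⨂[A] _ : Fin d, P)) (w : (S ⊗[A] SymTen.TS A P d) ⊗[A] P),
      slotMap A P S j w = ∏ h ∈ H, permS A P S h z →
      q.toLinearMap.lTensor S ((symmTSLaw e d).law.toFun' S z) =
        foldC q S (γ.law.toFun' _ (π.toLinearMap.lTensor _ w)) := by
    intro z w hw
    have h1 : valS A P d S ((symmTSLaw e d).law.toFun' S z) =
        valS A P d S (foldTS A P S d ((tauTS e d).law.toFun' _ w)) := by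
      rw [valS_symmTSLaw, symmProd_eq_prod_swap S j, ← foldS_val, tauTS_val, ← hw, SymTen.tpowLaw,
        PolLaw.MulLaw.prodMap_toFun']
      change _ = (foldS A P S d).toRingHom _
      refine Eq.trans ?_ (ringHom_map_prod' (R := (S ⊗[A] SymTen.TS A P d) ⊗[A] (⨂[A] _ : Fin d, P))
        (T := S ⊗[A] (⨂[A] _ : Fin d, P)) (foldS A P S d).toRingHom _ _).symm
      refine Finset.prod_congr rfl fun i _ => ?_
      change _ = foldS A P S d _
      rw [permS_slotMap, Equiv.swap_apply_left, ← PolLaw.lTensor_algHom_apply]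
      congr 1
    rw [valS_injective e S h1, foldC_q, hq]
  have hx : ∏ h ∈ H, permS A P S h x = Ψ.eval 0 := by
    simp [Ψ, Polynomial.eval_prod]
  have hxv : ∏ h ∈ H, permS A P S h (x + v * K) = Ψ.eval K := by
    simp only [Ψ, Polynomial.eval_prod, Polynomial.eval_add, Polynomial.eval_mul, Polynomial.eval_C,
      Polynomial.eval_X, map_add, map_mul]
    exact Finset.prod_congr rfl fun h hh => by rw [hH h hh]
  rw [key (x + v * K) y (hy.trans hxv.symm), key x (ym 0) (hy0.trans hx.symm), hπy]

include e in
/-- The norm law on `B^{⊗ d}`. -/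
theorem exists_normToGamma (hπ : Function.Surjective π)
    (hq : ∀ (S : Type u) [CommSemiring S] [Algebra A S] (x : S ⊗[A] P),
      q.toLinearMap.lTensor S ((tauTS e d).law.toFun' S x) =
        γ.law.toFun' S (π.toLinearMap.lTensor S x)) :
    ∃ F : PolLaw.MulLaw A (⨂[A] _ : Fin d, B) C d.factorial,
      ∀ (S : Type u) [CommSemiring S] [Algebra A S] (z : S ⊗[A] (⨂[A] _ : Fin d, P)),
        F.law.toFun' S ((SymTen.tmap A d π).toLinearMap.lTensor S z) =
          q.toLinearMap.lTensor S ((symmTSLaw e d).law.toFun' S z) := by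
  classical
  have hinv : ∀ (S : Type u) [CommSemiring S] [Algebra A S] (x w : S ⊗[A] (⨂[A] _ : Fin d, P)),
      w ∈ LinearMap.range ((LinearMap.ker (SymTen.tmap A d π).toLinearMap).subtype.lTensor S) →
        (PolLaw.MulLaw.postcomp q (symmTSLaw e d)).law.toFun' S (x + w) =
          (PolLaw.MulLaw.postcomp q (symmTSLaw e d)).law.toFun' S x := by
    intro S _ _ x w hw
    obtain ⟨w, rfl⟩ := hw
    induction w using TensorProduct.induction_on generalizing x with
    | zero => simp
    | add a b ha hb => rw [map_add, ← add_assoc, hb, ha]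
    | tmul s t =>
      suffices H : ∀ u ∈ Submodule.span A (slotSet d (LinearMap.ker π.toLinearMap)),
          ∀ (s : S) (x : S ⊗[A] (⨂[A] _ : Fin d, P)),
            (PolLaw.MulLaw.postcomp q (symmTSLaw e d)).law.toFun' S (x + s ⊗ₜ[A] u) =
              (PolLaw.MulLaw.postcomp q (symmTSLaw e d)).law.toFun' S x by
        obtain ⟨t, ht⟩ := t
        rw [LinearMap.lTensor_tmul, Submodule.subtype_apply]
        rw [tmap_toLinearMap] at ht
        exact H t (ker_map_le_span π.toLinearMap hπ ht) s x
      intro u hu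
      induction hu using Submodule.span_induction with
      | zero => simp
      | add a b _ _ ha hb => intro s x; rw [TensorProduct.tmul_add, ← add_assoc, hb, ha]
      | smul c a _ ha => intro s x; rw [← TensorProduct.smul_tmul, ha]
      | mem t ht =>
        intro s x
        obtain ⟨f, ⟨j, hj⟩, rfl⟩ := ht
        have hsplit : s ⊗ₜ[A] PiTensorProduct.tprod A f =
            (s ⊗ₜ[A] PiTensorProduct.tprod A (Function.update f j 1)) *
              (1 ⊗ₜ[A] PiTensorProduct.singleAlgHom (A := fun _ : Fin d => P) j (f j)) := by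
          rw [Algebra.TensorProduct.tmul_mul_tmul, mul_one]
          congr 1
          simp only [PiTensorProduct.singleAlgHom_apply, MonoidHom.mulSingle_apply,
            PiTensorProduct.tprod_mul_tprod]
          congr 1
          funext i
          by_cases hij : i = j
          · subst hij; simp
          · simp [hij]
        rw [hsplit]
        exact norm_step e hq S j x _ (f j) hj
  exact ⟨descendMul (SymTen.tmap A d π) (tmap_surjective hπ)
    (PolLaw.MulLaw.postcomp q (symmTSLaw e d)) hinv,
    fun S _ _ z => descendMul_apply _ _ _ _ S z⟩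

end Groth.Agent.PLaw
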