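import Groth.Agent.PLaw.Norm
import Mathlib.RingTheory.Flat.Basic

/-!
# The norm `T^d(B) → Γ^d(B)` and the `d!`-th power of the comparison map
-/

universe u

open scoped TensorProduct

namespace Groth.Agent.PLaw

variable {A : Type u} [CommRing A] {B : Type u} [CommRing B] [Algebra A B] {d : ℕ}
  {C : Type u} [CommRing C] [Algebra A C] (γ : PolLaw.MulLaw A B C d)

theorem symmProd_valS {P : Type u} [CommRing P] [Algebra A P] (S : Type u) [CommSemiring S]
    [Algebra A S] (u : S ⊗[A] SymTen.TS A P d) :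
    symmProd S (valS A P d S u) = valS A P d S (u ^ d.factorial) := by
  simp only [symmProd, permS_valS, Finset.prod_const, Finset.card_univ, Fintype.card_perm,
    Fintype.card_fin]
  exact (map_pow (valS A P d S) u d.factorial).symm

theorem lTensor_tmap_symmProd {P : Type u} [CommRing P] [Algebra A P] (π : P →ₐ[A] B) (S : Type u)
    [CommSemiring S] [Algebra A S] (z : S ⊗[A] (⨂[A] _ : Fin d, P)) :
    (SymTen.tmap A d π).toLinearMap.lTensor S (symmProd S z) =
      symmProd S ((SymTen.tmap A d π).toLinearMap.lTensor S z) := by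
  simp only [symmProd, PolLaw.lTensor_algHom_apply]
  have h : ∀ σ, Algebra.TensorProduct.map (AlgHom.id S S) (SymTen.tmap A d π) (permS A P S σ z) =
      permS A B S σ (Algebra.TensorProduct.map (AlgHom.id S S) (SymTen.tmap A d π) z) := fun σ => by
    induction z using TensorProduct.induction_on with
    | zero => simp
    | tmul s t =>
      simp only [permS, Algebra.TensorProduct.map_tmul, AlgHom.id_apply, tmap_perm]
    | add a b ha hb => simp only [map_add, ha, hb]
  simp only [← h]
  exact map_prod (Algebra.TensorProduct.map (AlgHom.id S S) (SymTen.tmap A d π)).toRingHom _ _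

/-- The norm law and its compositions with the comparison map. -/
theorem exists_norm (hγ : PolLaw.IsGammaD γ) (φ : C →ₐ[A] SymTen.TS A B d)
    (hφ : ∀ (S : Type u) [CommSemiring S] [Algebra A S] (x : S ⊗[A] B),
      ((SymTen.TS A B d).val.comp φ).toLinearMap.lTensor S (γ.law.toFun' S x) =
        (SymTen.tpowLaw A B d).law.toFun' S x) :
    ∃ F : PolLaw.MulLaw A (⨂[A] _ : Fin d, B) C d.factorial,
      (∀ (S : Type u) [CommSemiring S] [Algebra A S] (z : S ⊗[A] (⨂[A] _ : Fin d, B)),
        ((SymTen.TS A B d).val.comp φ).toLinearMap.lTensor S (F.law.toFun' S z) = symmProd S z) ∧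
      (∀ (S : Type u) [CommSemiring S] [Algebra A S] (z : S ⊗[A] C),
        F.law.toFun' S (((SymTen.TS A B d).val.comp φ).toLinearMap.lTensor S z) =
          z ^ d.factorial) := by
  have hπ := stdπ_surjective A B
  let π := stdπ A B
  let e := stdBasis A B
  obtain ⟨q, hqs, -, hq⟩ := exists_presentation e π hπ γ hγ
  obtain ⟨F, hF⟩ := exists_normToGamma e hπ hq
  have hφq : ((SymTen.TS A B d).val.comp φ).comp q =
      (SymTen.tmap A d π).comp (SymTen.TS A _ d).val := by
    rw [AlgHom.comp_assoc, val_comp_pres e γ hφ hq]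
    rfl
  refine ⟨F, fun S _ _ z => ?_, fun S _ _ z => ?_⟩
  · obtain ⟨z, rfl⟩ := LinearMap.lTensor_surjective S
      (g := (SymTen.tmap A d π).toLinearMap) (tmap_surjective hπ) z
    rw [hF, ← lTensor_tmap_symmProd, ← valS_symmTSLaw e, valS_apply, ← LinearMap.comp_apply,
      ← LinearMap.lTensor_comp, ← AlgHom.comp_toLinearMap, hφq, AlgHom.comp_toLinearMap,
      LinearMap.lTensor_comp, LinearMap.comp_apply]
  · obtain ⟨u, rfl⟩ := LinearMap.lTensor_surjective S (g := q.toLinearMap) hqs z
    rw [← LinearMap.comp_apply, ← LinearMap.lTensor_comp, ← AlgHom.comp_toLinearMap, hφq,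
      AlgHom.comp_toLinearMap, LinearMap.lTensor_comp, LinearMap.comp_apply, hF]
    have : (symmTSLaw e d).law.toFun' S ((SymTen.TS A _ d).val.toLinearMap.lTensor S u) =
        u ^ d.factorial := by
      apply valS_injective e S
      rw [valS_symmTSLaw, ← valS_apply, symmProd_valS]
    rw [this, PolLaw.lTensor_algHom_apply, map_pow, ← PolLaw.lTensor_algHom_apply]

theorem ground_eq {M N : Type u} [AddCommGroup M] [Module A M] [AddCommGroup N] [Module A N]
    (F : M →ₚₗ[A] N) (m : M) :
    F.ground m = TensorProduct.lid A N (F.toFun' A ((1 : A) ⊗ₜ[A] m)) := rfl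

theorem lid_lTensor {M N : Type u} [AddCommGroup M] [Module A M] [AddCommGroup N] [Module A N]
    (g : M →ₗ[A] N) (z : A ⊗[A] M) :
    TensorProduct.lid A N (g.lTensor A z) = g (TensorProduct.lid A M z) := by
  induction z using TensorProduct.induction_on with
  | zero => simp
  | tmul a m => simp
  | add a b ha hb => simp only [map_add, ha, hb]

/-- The statement with values in `TS`. -/
theorem exists_norm_ground (hγ : PolLaw.IsGammaD γ) (φ : C →ₐ[A] SymTen.TS A B d)
    (hφ : ∀ (S : Type u) [CommSemiring S] [Algebra A S] (x : S ⊗[A] B),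
      ((SymTen.TS A B d).val.comp φ).toLinearMap.lTensor S (γ.law.toFun' S x) =
        (SymTen.tpowLaw A B d).law.toFun' S x) :
    ∃ F : PolLaw.MulLaw A (⨂[A] _ : Fin d, B) C d.factorial,
      ∀ z : ⨂[A] _ : Fin d, B,
        ((SymTen.TS A B d).val (φ (F.law.ground z)) : ⨂[A] _ : Fin d, B) =
          ∏ σ : Equiv.Perm (Fin d), SymTen.perm A B d σ z := by
  obtain ⟨F, hF, -⟩ := exists_norm γ hγ φ hφ
  refine ⟨F, fun z => ?_⟩
  change ((SymTen.TS A B d).val.comp φ).toLinearMap (F.law.ground z) = _
  rw [ground_eq, ← lid_lTensor, hF]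
  have : symmProd A ((1 : A) ⊗ₜ[A] z) =
      (1 : A) ⊗ₜ[A] ∏ σ : Equiv.Perm (Fin d), SymTen.perm A B d σ z := by
    simp only [symmProd, permS, Algebra.TensorProduct.map_tmul, AlgHom.id_apply]
    exact (map_prod (Algebra.TensorProduct.includeRight :
      (⨂[A] _ : Fin d, B) →ₐ[A] A ⊗[A] (⨂[A] _ : Fin d, B)).toRingHom _ _).symm
  rw [this, TensorProduct.lid_tmul, one_smul]

/-- The norm law on `TS`, inverse to the comparison map up to the `d!`-th power. -/
theorem exists_norm_TS (hγ : PolLaw.IsGammaD γ) (φ : C →ₐ[A] SymTen.TS A B d)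
    (hφ : ∀ (S : Type u) [CommSemiring S] [Algebra A S] (x : S ⊗[A] B),
      ((SymTen.TS A B d).val.comp φ).toLinearMap.lTensor S (γ.law.toFun' S x) =
        (SymTen.tpowLaw A B d).law.toFun' S x) :
    ∃ F : PolLaw.MulLaw A (SymTen.TS A B d) C d.factorial,
      PolLaw.MulLaw.postcomp φ F = PolLaw.MulLaw.pow A (SymTen.TS A B d) d.factorial ∧
      PolLaw.MulLaw.precomp F φ = PolLaw.MulLaw.pow A C d.factorial := by
  obtain ⟨F, h1, h2⟩ := exists_norm γ hγ φ hφ
  refine ⟨F.precomp (SymTen.TS A B d).val, ?_, ?_⟩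
  · apply PolLaw.MulLaw.ext
    refine law_ext_mvPolynomial fun n z => ?_
    apply lTensor_val_injective_of_flat (A := A) (B := B) (d := d) (MvPolynomial (Fin n) A)
    change (SymTen.TS A B d).val.toLinearMap.lTensor _ (φ.toLinearMap.lTensor _
      (F.law.toFun' _ ((SymTen.TS A B d).val.toLinearMap.lTensor _ z))) =
        (SymTen.TS A B d).val.toLinearMap.lTensor _ (z ^ d.factorial)
    rw [← LinearMap.comp_apply, ← LinearMap.lTensor_comp, ← AlgHom.comp_toLinearMap, h1,
      ← valS_apply, symmProd_valS, valS_apply]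
  · apply PolLaw.MulLaw.ext
    refine law_ext_mvPolynomial fun n z => ?_
    change F.law.toFun' _ ((SymTen.TS A B d).val.toLinearMap.lTensor _
      (φ.toLinearMap.lTensor _ z)) = z ^ d.factorial
    rw [← LinearMap.comp_apply, ← LinearMap.lTensor_comp, ← AlgHom.comp_toLinearMap, h2]

theorem ground_zero {N : Type u} [CommRing N] [Algebra A N] {M : Type u} [CommRing M] [Algebra A M]
    {n : ℕ} (hn : n ≠ 0) (F : PolLaw.MulLaw A M N n) : F.law.ground 0 = 0 := by
  have h := F.homog A 0 ((1 : A) ⊗ₜ[A] (0 : M))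
  simp only [zero_pow hn, zero_smul] at h
  rw [ground_eq, TensorProduct.tmul_zero, h, map_zero]

theorem ground_pow (M : Type u) [CommRing M] [Algebra A M] (n : ℕ) (m : M) :
    (PolLaw.MulLaw.pow A M n).law.ground m = m ^ n := by
  change TensorProduct.lid A M (((1 : A) ⊗ₜ[A] m) ^ n) = _
  rw [Algebra.TensorProduct.tmul_pow, one_pow, TensorProduct.lid_tmul, one_smul]

/-- The `d!`-th power kills the kernel and maps into the image of the comparison map. -/
theorem pow_factorial_comparison (hγ : PolLaw.IsGammaD γ) (φ : C →ₐ[A] SymTen.TS A B d)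
    (hφ : ∀ (S : Type u) [CommSemiring S] [Algebra A S] (x : S ⊗[A] B),
      ((SymTen.TS A B d).val.comp φ).toLinearMap.lTensor S (γ.law.toFun' S x) =
        (SymTen.tpowLaw A B d).law.toFun' S x) :
    (∀ x : C, φ x = 0 → x ^ d.factorial = 0) ∧
      (∀ y : SymTen.TS A B d, y ^ d.factorial ∈ φ.range) := by
  obtain ⟨F, h1, h2⟩ := exists_norm_TS γ hγ φ hφ
  refine ⟨fun x hx => ?_, fun y => ⟨F.law.ground y, ?_⟩⟩
  · have h : (PolLaw.MulLaw.precomp F φ).law.ground x = F.law.ground (φ x) := by
      rw [ground_eq, ground_eq]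
      rfl
    rw [h2, ground_pow, hx, ground_zero d.factorial_ne_zero] at h
    exact h
  · have h : (PolLaw.MulLaw.postcomp φ F).law.ground y = φ (F.law.ground y) := by
      rw [ground_eq, ground_eq]
      exact lid_lTensor φ.toLinearMap _
    rw [h1, ground_pow] at h
    exact h.symm

end Groth.Agent.PLaw
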