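import Groth.Agent.PLaw.CharPoly
import Groth.Agent.PLaw.BC
import Groth.Agent.WN.Basic
import Groth.Agent.PLaw.GammaFinite

/-!
# Geometric points of a family of zero cycles
-/

universe u

open scoped TensorProduct Polynomial

namespace Groth.Agent.PLaw

variable {A : Type u} [CommRing A] {B : Type u} [CommRing B] [Algebra A B] {d : ℕ}
  (F : PolLaw.MulLaw A B A d)

/-- The characteristic polynomial of an element of a base change. -/
noncomputable def chiOf (R : Type u) [CommRing R] [Algebra A R] (z : R ⊗[A] B) : R[X] :=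
  TensorProduct.rid A R[X] (F.law.toFun' R[X] (Polynomial.X ⊗ₜ[A] (1 : B) -
    Algebra.TensorProduct.map (IsScalarTower.toAlgHom A R R[X]) (AlgHom.id A B) z))

theorem chi_eq_chiOf (b : B) : chi F b = chiOf F A (1 ⊗ₜ[A] b) := by simp [chi, chiOf]

/-- The points `x i` describe the family over `D`. -/
def IsPoints {D : Type u} [CommRing D] [Algebra A D] (x : Fin d → (B →ₐ[A] D)) : Prop :=
  ∀ (S : Type u) [CommSemiring S] [Algebra A S] (z : S ⊗[A] B),
    (Algebra.ofId A D).toLinearMap.lTensor S (F.law.toFun' S z) =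
      ∏ i, Algebra.TensorProduct.map (AlgHom.id S S) (x i) z

/-- The extension of a point to a base change. -/
noncomputable def pointOn {R D : Type u} [CommRing R] [Algebra A R] [CommRing D] [Algebra A D]
    (ρ : R →ₐ[A] D) (x : B →ₐ[A] D) : R ⊗[A] B →ₐ[A] D :=
  Algebra.TensorProduct.lift ρ x fun _ _ => Commute.all _ _

@[simp]
theorem pointOn_tmul {R D : Type u} [CommRing R] [Algebra A R] [CommRing D] [Algebra A D]
    (ρ : R →ₐ[A] D) (x : B →ₐ[A] D) (r : R) (b : B) : pointOn ρ x (r ⊗ₜ[A] b) = ρ r * x b := by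
  simp [pointOn]

variable {F}

theorem IsPoints.comp {D D' : Type u} [CommRing D] [Algebra A D] [CommRing D'] [Algebra A D']
    {x : Fin d → (B →ₐ[A] D)} (hx : IsPoints F x) (g : D →ₐ[A] D') :
    IsPoints F fun i => g.comp (x i) := by
  intro S _ _ z
  have h := congrArg (g.toLinearMap.lTensor S) (hx S z)
  rw [← LinearMap.comp_apply, ← LinearMap.lTensor_comp,
    show g.toLinearMap.comp (Algebra.ofId A D).toLinearMap = (Algebra.ofId A D').toLinearMap from
      LinearMap.ext fun a => g.commutes a, PolLaw.lTensor_algHom_apply g, map_prod] at h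
  rw [h]
  refine Finset.prod_congr rfl fun i _ => ?_
  clear h
  induction z using TensorProduct.induction_on with
  | zero => simp
  | tmul s b => simp
  | add a b ha hb => simp only [map_add, ha, hb]

theorem map_chiOf {R D : Type u} [CommRing R] [Algebra A R] [CommRing D] [Algebra A D]
    {x : Fin d → (B →ₐ[A] D)} (hx : IsPoints F x) (ρ : R →ₐ[A] D) (z : R ⊗[A] B) :
    (chiOf F R z).map ρ.toRingHom = ∏ i, (Polynomial.X - Polynomial.C (pointOn ρ (x i) z)) := by
  let L : R[X] ⊗[A] D →ₐ[A] D[X] :=
    Algebra.TensorProduct.lift (Polynomial.mapAlgHom ρ) (IsScalarTower.toAlgHom A D D[X])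
      fun _ _ => Commute.all _ _
  have h1 : ∀ w : R[X] ⊗[A] A, L ((Algebra.ofId A D).toLinearMap.lTensor R[X] w) =
      (TensorProduct.rid A R[X] w).map ρ.toRingHom := fun w => by
    induction w using TensorProduct.induction_on with
    | zero => simp
    | tmul p a =>
      simp [L, Algebra.ofId_apply, Algebra.smul_def, Polynomial.map_mul, mul_comm,
        IsScalarTower.algebraMap_apply A D D[X], IsScalarTower.algebraMap_apply A R R[X]]
    | add a b ha hb => simp only [map_add, Polynomial.map_add, ha, hb]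
  rw [chiOf, ← h1, hx, map_prod]
  refine Finset.prod_congr rfl fun i _ => ?_
  rw [map_sub, map_sub]
  congr 1
  · simp [L]
  · induction z using TensorProduct.induction_on with
    | zero => simp
    | tmul r b => simp [L]
    | add a b ha hb => simp only [map_add, Polynomial.C_add, ha, hb]

theorem map_chi {D : Type u} [CommRing D] [Algebra A D] {x : Fin d → (B →ₐ[A] D)} (hx : IsPoints F x)
    (b : B) : (chi F b).map (algebraMap A D) = ∏ i, (Polynomial.X - Polynomial.C (x i b)) := by
  rw [chi_eq_chiOf]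
  refine (map_chiOf hx (Algebra.ofId A D) (1 ⊗ₜ[A] b)).trans (Finset.prod_congr rfl fun i _ => ?_)
  simp

theorem eval_eq_zero_of_eq_X_pow {D : Type u} [CommRing D] [IsDomain D] {y : Fin d → D}
    (h : ∏ i, (Polynomial.X - Polynomial.C (y i)) = Polynomial.X ^ d) (i : Fin d) : y i = 0 := by
  have := congrArg (Polynomial.eval (y i)) h
  rw [Polynomial.eval_prod, Finset.prod_eq_zero (Finset.mem_univ i) (by simp), Polynomial.eval_pow,
    Polynomial.eval_X] at this
  exact eq_zero_of_pow_eq_zero this.symm

theorem IsPoints.apply_eq_zero {D : Type u} [CommRing D] [IsDomain D] [Algebra A D]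
    {x : Fin d → (B →ₐ[A] D)} (hx : IsPoints F x) {b : B} (hb : b ∈ PolLaw.ker F.law) (i : Fin d) :
    x i b = 0 :=
  eval_eq_zero_of_eq_X_pow (y := fun i => x i b)
    (by rw [← map_chi hx b, chi_of_mem_ker F hb, Polynomial.map_pow, Polynomial.map_X]) i

theorem IsPoints.isIntegral {D : Type u} [CommRing D] [Algebra A D]
    {x : Fin d → (B →ₐ[A] D)} (hx : IsPoints F x) (b : B) (i : Fin d) : IsIntegral A (x i b) :=
  ⟨chi F b, monic_chi F b, by
    rw [← Polynomial.eval_map, map_chi hx b, Polynomial.eval_prod,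
      Finset.prod_eq_zero (Finset.mem_univ i) (by simp)]⟩

variable (F)

theorem chiOf_of_mem_kerBC {A' : Type u} [CommRing A'] [Algebra A A'] {z : A' ⊗[A] B}
    (hz : z ∈ PolLaw.kerBC F.law A') : chiOf F A' z = Polynomial.X ^ d := by
  have h := hz A'[X] ((Polynomial.X : A'[X]) • (1 : A'[X] ⊗[A] B)) (-1)
  have h0 : (Polynomial.X : A'[X]) • (1 : A'[X] ⊗[A] B) + -1 *
      Algebra.TensorProduct.map (IsScalarTower.toAlgHom A A' A'[X]) (AlgHom.id A B) z =
      Polynomial.X ⊗ₜ[A] (1 : B) -
        Algebra.TensorProduct.map (IsScalarTower.toAlgHom A A' A'[X]) (AlgHom.id A B) z := by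
    rw [neg_mul (α := Polynomial A' ⊗[A] B), one_mul, ← sub_eq_add_neg, Algebra.TensorProduct.one_def,
      TensorProduct.smul_tmul', smul_eq_mul, mul_one]
  rw [h0] at h
  rw [chiOf, h, F.homog, (F.mult _).1, Algebra.TensorProduct.one_def, TensorProduct.smul_tmul']
  simp

theorem IsPoints.apply_kerBC_eq_zero {A' D : Type u} [CommRing A'] [Algebra A A'] [CommRing D]
    [IsDomain D] [Algebra A D] {x : Fin d → (B →ₐ[A] D)} (hx : IsPoints F x) (ρ : A' →ₐ[A] D)
    {z : A' ⊗[A] B} (hz : z ∈ PolLaw.kerBC F.law A') (i : Fin d) : pointOn ρ (x i) z = 0 :=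
  eval_eq_zero_of_eq_X_pow (y := fun i => pointOn ρ (x i) z)
    (by rw [← map_chiOf hx ρ z, chiOf_of_mem_kerBC F hz, Polynomial.map_pow, Polynomial.map_X]) i

section BC

variable (A' : Type u) [CommRing A'] [Algebra A A']

theorem rid_bcOut (R : Type u) [CommSemiring R] [Algebra A R] [Algebra A' R] [IsScalarTower A A' R]
    (w : R ⊗[A] A) : TensorProduct.rid A' R (bcOut A' R (Algebra.ofId A A') w) = TensorProduct.rid A R w := by
  induction w using TensorProduct.induction_on with
  | zero => simp
  | tmul r a => simp [bcOut_tmul, Algebra.ofId_apply, algebraMap_smul]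
  | add a b ha hb => simp only [map_add, ha, hb]

/-- The base change of `F`. -/
noncomputable abbrev baseLaw : PolLaw.MulLaw A' (A' ⊗[A] B) A' d := lawBC A' (Algebra.ofId A A') F

theorem chi_baseLaw (z : A' ⊗[A] B) : chi (baseLaw F A') z = chiOf F A' z := by
  rw [chi, lawBC_apply, rid_bcOut, chiOf]
  congr 2
  rw [map_sub]
  congr 1
  · rw [Algebra.TensorProduct.one_def (R := A) (A := A'), bcEquiv_tmul, one_smul]
  · induction z using TensorProduct.induction_on with
    | zero => simp
    | tmul a b => simp [bcEquiv_tmul, ← Algebra.algebraMap_eq_smul_one]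
    | add a b ha hb => simp only [TensorProduct.tmul_add, map_add, ha, hb]

theorem ker_baseLaw_le : PolLaw.ker (baseLaw F A').law ≤ PolLaw.kerBC F.law A' := by
  intro z hz R _ _ _ _ x w
  have h := hz R ((bcEquiv A' R).symm x) ((bcEquiv A' R).symm w)
  rw [lawBC_apply, lawBC_apply, map_add, map_mul, AlgEquiv.apply_symm_apply,
    AlgEquiv.apply_symm_apply] at h
  have hz' : bcEquiv A' R ((1 : R) ⊗ₜ[A'] z) =
      Algebra.TensorProduct.map (IsScalarTower.toAlgHom A A' R) (AlgHom.id A B) z := by
    clear hz h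
    induction z using TensorProduct.induction_on with
    | zero => simp
    | tmul a b => simp [bcEquiv_tmul, ← Algebra.algebraMap_eq_smul_one]
    | add a b ha hb => simp only [TensorProduct.tmul_add, map_add, ha, hb]
  rw [hz'] at h
  have h' := congrArg (TensorProduct.rid A' R) h
  rw [rid_bcOut, rid_bcOut] at h'
  exact (TensorProduct.rid A R).injective h'

theorem aeval_chiOf_mem_kerBC (z : A' ⊗[A] B) :
    Polynomial.aeval z (chiOf F A' z) ∈ PolLaw.kerBC F.law A' := by
  rw [← chi_baseLaw]
  exact ker_baseLaw_le F A' (aeval_chi_mem_ker _ z)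

end BC

section Polynomial

theorem exists_sum_X_pow (z : A[X] ⊗[A] B) :
    ∃ (N : ℕ) (b : ℕ → B), z = ∑ k ∈ Finset.range N, (Polynomial.X ^ k : A[X]) ⊗ₜ[A] b k := by
  induction z using TensorProduct.induction_on with
  | zero => exact ⟨0, 0, by simp⟩
  | tmul p b =>
    refine ⟨p.natDegree + 1, fun k => p.coeff k • b, ?_⟩
    conv_lhs => rw [p.as_sum_range_C_mul_X_pow, TensorProduct.sum_tmul]
    refine Finset.sum_congr rfl fun k _ => ?_
    rw [← Polynomial.smul_eq_C_mul, TensorProduct.smul_tmul]
  | add x y hx hy =>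
    obtain ⟨N, b, rfl⟩ := hx
    obtain ⟨M, c, rfl⟩ := hy
    refine ⟨max N M, fun k => (if k < N then b k else 0) + (if k < M then c k else 0), ?_⟩
    simp only [TensorProduct.tmul_add, Finset.sum_add_distrib]
    have key : ∀ (K : ℕ) (g : ℕ → B), K ≤ max N M →
        ∑ k ∈ Finset.range K, (Polynomial.X ^ k : A[X]) ⊗ₜ[A] g k =
          ∑ k ∈ Finset.range (max N M), (Polynomial.X ^ k : A[X]) ⊗ₜ[A] (if k < K then g k else 0) :=
      fun K g hK => by
        rw [← Finset.sum_subset (Finset.range_mono hK)
          (f := fun k => (Polynomial.X ^ k : A[X]) ⊗ₜ[A] (if k < K then g k else 0)) fun k _ hk => by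
            rw [if_neg (by simpa using hk), TensorProduct.tmul_zero]]
        exact Finset.sum_congr rfl fun k hk => by rw [if_pos (Finset.mem_range.mp hk)]
    rw [key N b (le_max_left _ _), key M c (le_max_right _ _)]

theorem mem_kerBC_of_X_mul {z : A[X] ⊗[A] B}
    (h : (Polynomial.X ⊗ₜ[A] (1 : B)) * z ∈ PolLaw.kerBC F.law A[X]) :
    z ∈ PolLaw.kerBC F.law A[X] := by
  refine mem_kerBC_of_generic F Submodule.span_univ A[X] fun n c _ => ?_
  let R := MvPolynomial (Fin n) A[X]
  let θ : R →ₐ[A[X]] R := MvPolynomial.aeval fun j => MvPolynomial.C Polynomial.X * MvPolynomial.X j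
  have hθ : Function.Injective θ := by
    intro p q hpq
    have key : ∀ p : R, ∀ α, (θ p).coeff α = Polynomial.X ^ (α.sum fun _ e => e) * p.coeff α := by
      classical
      intro p α
      induction p using MvPolynomial.induction_on' with
      | monomial β c =>
        have : θ (MvPolynomial.monomial β c) =
            MvPolynomial.monomial β (Polynomial.X ^ (β.sum fun _ e => e) * c) := by
          rw [MvPolynomial.aeval_monomial]
          simp only [mul_pow, ← map_pow]
          rw [Finsupp.prod, Finset.prod_mul_distrib, ← map_prod, Finset.prod_pow_eq_pow_sum,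
            MvPolynomial.algebraMap_eq, ← mul_assoc, ← map_mul, MvPolynomial.monomial_eq, mul_comm c]
          rfl
        rw [this, MvPolynomial.coeff_monomial, MvPolynomial.coeff_monomial]
        split_ifs with h
        · rw [h]
        · simp
      | add p q hp hq => rw [map_add, MvPolynomial.coeff_add, MvPolynomial.coeff_add, hp, hq, mul_add]
    refine MvPolynomial.ext _ _ fun α => ?_
    have := congrArg (fun r => MvPolynomial.coeff α r) hpq
    simp only [key] at this
    exact (Polynomial.monic_X_pow _).isRegular.left this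
  let v : R ⊗[A] B := ∑ i, (MvPolynomial.X i : R) ⊗ₜ[A] c i
  let zR := Algebra.TensorProduct.map (IsScalarTower.toAlgHom A A[X] R) (AlgHom.id A B) z
  apply (TensorProduct.rid A R).injective
  apply hθ
  have h1 := (h R 1 v).trans (F.mult R).1
  have h2 : Algebra.TensorProduct.map (θ.restrictScalars A) (AlgHom.id A B) (1 + v * zR) =
      1 + v * Algebra.TensorProduct.map (IsScalarTower.toAlgHom A A[X] R) (AlgHom.id A B)
        ((Polynomial.X ⊗ₜ[A] (1 : B)) * z) := by
    rw [map_add, map_one, map_mul, map_mul, ← mul_assoc]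
    congr 2
    · simp only [v, map_sum, Finset.sum_mul, Algebra.TensorProduct.map_tmul,
        Algebra.TensorProduct.tmul_mul_tmul, AlgHom.id_apply, mul_one]
      rw [Finset.sum_mul]
      refine Finset.sum_congr rfl fun j _ => ?_
      simp only [Algebra.TensorProduct.tmul_mul_tmul, mul_one, θ, AlgHom.restrictScalars_apply]
      rw [mul_comm (MvPolynomial.X j : R)]
      erw [MvPolynomial.aeval_X]
      rfl
    · rw [← AlgHom.comp_apply, ← Algebra.TensorProduct.map_comp, AlgHom.comp_id]
      exact congrArg (fun f => Algebra.TensorProduct.map f (AlgHom.id A B) z)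
        (AlgHom.ext fun a => θ.commutes a)
  have h3 := compatMap F.law (θ.restrictScalars A) (1 + v * zR)
  rw [h2, h1] at h3
  have hrid : ∀ w : R ⊗[A] A, θ (TensorProduct.rid A R w) = TensorProduct.rid A R
      (Algebra.TensorProduct.map (θ.restrictScalars A) (AlgHom.id A A) w) := fun w => by
    induction w using TensorProduct.induction_on with
    | zero => simp
    | tmul r a =>
      simp only [TensorProduct.rid_tmul, Algebra.TensorProduct.map_tmul, AlgHom.id_apply]
      exact (θ.restrictScalars A).toLinearMap.map_smul a r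
    | add a b ha hb => simp only [map_add, ha, hb]
  rw [hrid, h3, Algebra.TensorProduct.one_def]
  simp

theorem kerBC_polynomial_le :
    PolLaw.kerBC F.law A[X] ≤
      (PolLaw.ker F.law).map (Algebra.TensorProduct.includeRight : B →ₐ[A] A[X] ⊗[A] B) := by
  intro z hz
  obtain ⟨N, b, rfl⟩ := exists_sum_X_pow z
  induction N generalizing b with
  | zero => simp
  | succ N ih =>
    have hsplit : ∑ k ∈ Finset.range (N + 1), (Polynomial.X ^ k : A[X]) ⊗ₜ[A] b k =
        (1 : A[X]) ⊗ₜ[A] b 0 + (Polynomial.X ⊗ₜ[A] (1 : B)) *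
          ∑ k ∈ Finset.range N, (Polynomial.X ^ k : A[X]) ⊗ₜ[A] b (k + 1) := by
      rw [Finset.sum_range_succ', add_comm, Finset.mul_sum]
      simp [pow_succ']
    rw [hsplit] at hz ⊢
    have hb : b 0 ∈ PolLaw.ker F.law := by
      intro S _ _ x w
      letI : Algebra A[X] S := (Polynomial.aeval (R := A) (0 : S)).toRingHom.toAlgebra
      haveI : IsScalarTower A A[X] S := IsScalarTower.of_algebraMap_eq fun a =>
        ((Polynomial.aeval (R := A) (0 : S)).commutes a).symm
      have := hz S x w
      rw [map_add, map_mul, Algebra.TensorProduct.map_tmul, Algebra.TensorProduct.map_tmul, map_one,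
        show (IsScalarTower.toAlgHom A A[X] S) Polynomial.X = 0 from Polynomial.aeval_X _,
        TensorProduct.zero_tmul, zero_mul, add_zero] at this
      exact this
    have h0 : (1 : A[X]) ⊗ₜ[A] b 0 ∈
        (PolLaw.ker F.law).map (Algebra.TensorProduct.includeRight : B →ₐ[A] A[X] ⊗[A] B) :=
      Ideal.mem_map_of_mem _ hb
    refine add_mem h0 (Ideal.mul_mem_left _ _ (ih (fun k => b (k + 1)) (mem_kerBC_of_X_mul F ?_)))
    simpa using sub_mem hz (map_ker_le_kerBC F _ h0)

end Polynomial

/-- Every point of the support over a field is one of the points of the family. -/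
theorem IsPoints.exists_eq {L : Type u} [CommRing L] [IsDomain L] [Algebra A L] {x : Fin d → (B →ₐ[A] L)}
    (hx : IsPoints F x) (ψ : B →ₐ[A] L) (hψ : ∀ b ∈ PolLaw.ker F.law, ψ b = 0) :
    ∃ i, x i = ψ := by
  by_contra! hne
  have hw : ∀ i, ∃ b, x i b ≠ ψ b := fun i => by
    by_contra! h
    exact hne i (AlgHom.ext h)
  choose b hb using hw
  let z : A[X] ⊗[A] B := ∑ i : Fin d, (Polynomial.X ^ (i : ℕ) : A[X]) ⊗ₜ[A] b i
  let C' : L →ₐ[A] L[X] := IsScalarTower.toAlgHom A L L[X]
  let ρ : A[X] →ₐ[A] L[X] := Polynomial.mapAlgHom (Algebra.ofId A L)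
  let Ψ := pointOn ρ (C'.comp ψ)
  have hzero : Ψ (Polynomial.aeval z (chiOf F A[X] z)) = 0 := by
    have hle : (PolLaw.ker F.law).map
        (Algebra.TensorProduct.includeRight : B →ₐ[A] A[X] ⊗[A] B) ≤ RingHom.ker Ψ := by
      rw [Ideal.map_le_iff_le_comap]
      intro c hc
      simp [Ψ, hψ c hc]
    exact hle (kerBC_polynomial_le F (aeval_chiOf_mem_kerBC F A[X] z))
  have hΨ : Ψ (Polynomial.aeval z (chiOf F A[X] z)) =
      ((chiOf F A[X] z).map ρ.toRingHom).eval (Ψ z) := by
    rw [Polynomial.aeval_def, Polynomial.eval_map, ← AlgHom.coe_toRingHom, Polynomial.hom_eval₂]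
    congr 1
    exact RingHom.ext fun a => by simp [Ψ]
  rw [hΨ, map_chiOf (hx.comp C') ρ z, Polynomial.eval_prod, Finset.prod_eq_zero_iff] at hzero
  obtain ⟨i, -, hi⟩ := hzero
  rw [Polynomial.eval_sub, Polynomial.eval_X, Polynomial.eval_C, sub_eq_zero] at hi
  refine hb i ?_
  have hcoef := congrArg (fun p => Polynomial.coeff p (i : ℕ)) hi
  simp [Ψ, ρ, C', z, Polynomial.finset_sum_coeff, Polynomial.coeff_X_pow, Fin.val_eq_val] at hcoef
  exact hcoef.symm

/-- Points exist over an algebraically closed field. -/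
theorem exists_isPoints (K : Type u) [Field K] [IsAlgClosed K] [Algebra A K] :
    ∃ x : Fin d → (B →ₐ[A] K), IsPoints F x := by
  let P := MvPolynomial B A
  let e := stdBasis A B
  let π := stdπ A B
  let f := fromTSAlg e (F.precomp π)
  let v := (SymTen.TS A P d).val
  have hint : v.toRingHom.IsIntegral := fun t => by
    obtain ⟨q, hq, h0⟩ := isIntegral_TS t
    exact ⟨q, hq, h0⟩
  have hs := WN.surj_of_isIntegral_of_ker_le hint (by
    rw [(RingHom.injective_iff_ker_eq_bot _).mp Subtype.coe_injective]; exact bot_le)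
  obtain ⟨Φ₀, hΦ⟩ := WN.exists_lift_point hint hs K ((algebraMap A K).comp f.toRingHom)
  have hΦA : ∀ a, Φ₀ (algebraMap A _ a) = algebraMap A K a := fun a => by
    have := RingHom.congr_fun hΦ (algebraMap A (SymTen.TS A P d) a)
    simpa [f, v] using this
  let Φ : (⨂[A] _ : Fin d, P) →ₐ[A] K := { Φ₀ with commutes' := hΦA }
  let y : Fin d → (P →ₐ[A] K) := fun i => Φ.comp (slot A P d i)
  have hy : ∀ (S : Type u) [CommSemiring S] [Algebra A S] (z : S ⊗[A] P),
      (Algebra.ofId A K).toLinearMap.lTensor S (F.law.toFun' S (π.toLinearMap.lTensor S z)) =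
        ∏ i, Algebra.TensorProduct.map (AlgHom.id S S) (y i) z := fun S _ _ z => by
    rw [show F.law.toFun' S (π.toLinearMap.lTensor S z) = (F.precomp π).law.toFun' S z from rfl,
      ← fromTSAlg_apply e, ← LinearMap.comp_apply, ← LinearMap.lTensor_comp,
      show (Algebra.ofId A K).toLinearMap.comp f.toLinearMap = Φ.toLinearMap.comp v.toLinearMap from
        LinearMap.ext fun t => (RingHom.congr_fun hΦ t).symm,
      LinearMap.lTensor_comp, LinearMap.comp_apply, tauTS_val, tpowLaw_eq_prod,
      PolLaw.lTensor_algHom_apply Φ, map_prod]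
    refine Finset.prod_congr rfl fun i _ => ?_
    induction z using TensorProduct.induction_on with
    | zero => simp
    | tmul s p => simp [y]
    | add a b ha hb => simp only [map_add, ha, hb]
  have hyP : IsPoints (F.precomp π) y := hy
  have hker : ∀ i, RingHom.ker π.toRingHom ≤ RingHom.ker (y i).toRingHom := fun i p hp => by
    refine hyP.apply_eq_zero (fun S _ _ a w => ?_) i
    change F.law.toFun' S (π.toLinearMap.lTensor S _) = F.law.toFun' S (π.toLinearMap.lTensor S a)
    rw [PolLaw.lTensor_algHom_apply π, PolLaw.lTensor_algHom_apply π, map_add, map_mul]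
    simp [show π p = 0 from hp]
  let x : Fin d → (B →ₐ[A] K) := fun i =>
    (Ideal.Quotient.liftₐ (RingHom.ker π) (y i) (fun p hp => hker i hp)).comp
      (Ideal.quotientKerAlgEquivOfSurjective (stdπ_surjective A B)).symm.toAlgHom
  have hxπ : ∀ i p, x i (π p) = y i p := fun i p => by
    have h1 : (Ideal.quotientKerAlgEquivOfSurjective (stdπ_surjective A B)).symm (π p) =
        Ideal.Quotient.mk (RingHom.ker π) p := by
      rw [AlgEquiv.symm_apply_eq]; rfl
    exact congrArg (Ideal.Quotient.liftₐ (RingHom.ker π) (y i) (fun q hq => hker i hq)) h1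
  refine ⟨x, fun S _ _ z => ?_⟩
  obtain ⟨z, rfl⟩ := LinearMap.lTensor_surjective S (g := π.toLinearMap) (stdπ_surjective A B) z
  rw [hy]
  refine Finset.prod_congr rfl fun i _ => ?_
  induction z using TensorProduct.induction_on with
  | zero => simp
  | tmul s p =>
    simp only [LinearMap.lTensor_tmul, AlgHom.toLinearMap_apply, Algebra.TensorProduct.map_tmul]
    congr 1
    exact (hxπ i p).symm
  | add a b ha hb => simp only [map_add, ha, hb]

end Groth.Agent.PLaw
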