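import Groth.Agent.PLaw.TSAlg

/-!
# Polarization: symmetric tensors are spanned by `b ⊗ ⋯ ⊗ b` when `d!` is invertible
-/

universe u

open scoped TensorProduct

namespace Groth.Agent.PLaw

variable {A : Type u} [CommRing A] {B : Type u} [CommRing B] [Algebra A B] {d : ℕ}

/-- Polarization identity. -/
theorem sum_perm_tprod_eq (f : Fin d → B) :
    ∑ σ : Equiv.Perm (Fin d), PiTensorProduct.tprod A (fun i => f (σ i)) =
      ∑ U ∈ (Finset.univ : Finset (Fin d)).powerset,
        (-1 : A) ^ U.card • PiTensorProduct.tprod A (fun _ : Fin d => ∑ i ∈ Uᶜ, f i) := by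
  classical
  have h1 : ∀ U : Finset (Fin d), PiTensorProduct.tprod A (fun _ : Fin d => ∑ i ∈ Uᶜ, f i) =
      ∑ k : Fin d → Fin d, if U ⊆ (Finset.univ.image k)ᶜ then
        PiTensorProduct.tprod A (fun i => f (k i)) else 0 := by
    intro U
    rw [← Finset.sum_filter, MultilinearMap.map_sum_finset]
    refine Finset.sum_congr (Finset.ext fun k => ?_) fun _ _ => rfl
    simp [Finset.subset_iff]
    exact ⟨fun h x hx a hax => h a (hax ▸ hx), fun h a ha => h ha a rfl⟩
  simp only [h1, Finset.smul_sum, smul_ite, smul_zero]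
  rw [Finset.sum_comm]
  have h2 : ∀ k : Fin d → Fin d,
      ∑ U ∈ (Finset.univ : Finset (Fin d)).powerset, (if U ⊆ (Finset.univ.image k)ᶜ then
        (-1 : A) ^ U.card • PiTensorProduct.tprod A (fun i => f (k i)) else 0) =
      if Function.Bijective k then PiTensorProduct.tprod A (fun i => f (k i)) else 0 := by
    intro k
    rw [← Finset.sum_filter, ← Finset.sum_smul,
      show (Finset.univ : Finset (Fin d)).powerset.filter (· ⊆ (Finset.univ.image k)ᶜ) =
        ((Finset.univ.image k)ᶜ).powerset by ext U; simp]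
    have h3 : ∑ U ∈ ((Finset.univ.image k)ᶜ).powerset, (-1 : A) ^ U.card =
        ((if (Finset.univ.image k)ᶜ = ∅ then 1 else 0 : ℤ) : A) := by
      rw [← Finset.sum_powerset_neg_one_pow_card]
      push_cast
      rfl
    have h4 : (Finset.univ.image k)ᶜ = ∅ ↔ Function.Bijective k := by
      rw [Finset.compl_eq_empty_iff, Finset.eq_univ_iff_forall, ← Finite.surjective_iff_bijective]
      simp [Function.Surjective]
    rw [h3]
    by_cases hk : Function.Bijective k
    · rw [if_pos (h4.mpr hk), if_pos hk, Int.cast_one, one_smul]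
    · rw [if_neg (mt h4.mp hk), if_neg hk, Int.cast_zero, zero_smul]
  simp only [h2]
  rw [← Finset.sum_filter]
  refine Finset.sum_bij (fun σ _ => (σ : Fin d → Fin d)) (fun σ _ => ?_) (fun σ _ τ _ h => ?_)
    (fun k hk => ?_) (fun σ _ => rfl)
  · exact Finset.mem_filter.mpr ⟨Finset.mem_univ _, σ.bijective⟩
  · exact Equiv.ext (congr_fun h)
  · exact ⟨Equiv.ofBijective k (Finset.mem_filter.mp hk).2, Finset.mem_univ _, rfl⟩

/-- If `d!` is invertible, `TS^d` is spanned by the diagonal tensors. -/
theorem span_tpow_eq_top (h : IsUnit ((d.factorial : ℕ) : A)) :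
    Submodule.span A (Set.range (SymTen.tpow A B d)) = ⊤ := by
  classical
  set T := Submodule.span A (Set.range (SymTen.tpow A B d))
  let L : (⨂[A] _ : Fin d, B) →ₗ[A] (⨂[A] _ : Fin d, B) :=
    ∑ σ : Equiv.Perm (Fin d), (SymTen.perm A B d σ).toLinearMap
  have hL : ∀ x, L x ∈ T.map (SymTen.TS A B d).val.toLinearMap := by
    intro x
    induction x using PiTensorProduct.induction_on with
    | smul_tprod r g =>
      rw [map_smul]
      refine Submodule.smul_mem _ _ ?_
      have : L (PiTensorProduct.tprod A g) =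
          ∑ σ : Equiv.Perm (Fin d), PiTensorProduct.tprod A (fun i => g (σ i)) := by
        simp only [L, LinearMap.coe_sum, Finset.sum_apply, AlgHom.toLinearMap_apply,
          SymTen.perm_apply, PiTensorProduct.reindex_tprod]
        exact Fintype.sum_equiv (Equiv.inv _) _ _ fun σ => rfl
      rw [this, sum_perm_tprod_eq]
      refine Submodule.sum_mem _ fun U _ => Submodule.smul_mem _ _ ?_
      exact ⟨SymTen.tpow A B d (∑ i ∈ Uᶜ, g i), Submodule.subset_span ⟨_, rfl⟩, rfl⟩
    | add x y hx hy => rw [map_add]; exact add_mem hx hy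
  rw [eq_top_iff]
  intro t _
  obtain ⟨v, hv⟩ := h.exists_left_inv
  obtain ⟨s, hs, hst⟩ := hL t.1
  have : L t.1 = ((d.factorial : ℕ) : A) • t.1 := by
    simp only [L, LinearMap.coe_sum, Finset.sum_apply, AlgHom.toLinearMap_apply, perm_TS]
    rw [Finset.sum_const, Finset.card_univ, Fintype.card_perm, Fintype.card_fin, Nat.cast_smul_eq_nsmul]
  rw [this] at hst
  have e : s = ((d.factorial : ℕ) : A) • t := Subtype.ext hst
  have := T.smul_mem v hs
  rwa [e, smul_smul, hv, one_smul] at this

end Groth.Agent.PLaw
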