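import Groth.Agent.PLaw.KerCrit
import Mathlib.RingTheory.TensorProduct.DirectLimitFG
import Mathlib.LinearAlgebra.TensorProduct.RightExactness

/-!
# Polynomial laws from their values on polynomial rings
-/

universe u v w

open scoped TensorProduct

namespace Groth.Agent.PLaw

variable {A : Type u} [CommRing A] {M : Type v} [AddCommGroup M] [Module A M]
  {N : Type w} [AddCommGroup N] [Module A N]

/-- Data of a law on the polynomial rings in finitely many variables. -/
abbrev PolyData (A : Type u) [CommRing A] (M : Type v) [AddCommGroup M] [Module A M]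
    (N : Type w) [AddCommGroup N] [Module A N] :=
  {T : ∀ n : ℕ, MvPolynomial (Fin n) A ⊗[A] M → MvPolynomial (Fin n) A ⊗[A] N //
    ∀ (n m : ℕ) (φ : MvPolynomial (Fin n) A →ₐ[A] MvPolynomial (Fin m) A),
      φ.toLinearMap.rTensor N ∘ T n = T m ∘ φ.toLinearMap.rTensor M}

/-- Every element of a tensor product is a finite sum of pure tensors. -/
theorem exists_fin_sum {P : Type*} [AddCommGroup P] [Module A P] (x : P ⊗[A] M) :
    ∃ (n : ℕ) (s : Fin n → P) (m : Fin n → M), x = ∑ i, s i ⊗ₜ[A] m i := by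
  induction x using TensorProduct.induction_on with
  | zero => exact ⟨0, 0, 0, by simp⟩
  | tmul s m => exact ⟨1, fun _ => s, fun _ => m, by simp⟩
  | add x y hx hy =>
    obtain ⟨n, s, m, rfl⟩ := hx
    obtain ⟨n', s', m', rfl⟩ := hy
    exact ⟨n + n', Fin.append s s', Fin.append m m', by simp [Fin.sum_univ_add]⟩

namespace PolyData

variable (T : PolyData A M N)

theorem nat {n m : ℕ} (φ : MvPolynomial (Fin n) A →ₐ[A] MvPolynomial (Fin m) A)
    (q : MvPolynomial (Fin n) A ⊗[A] M) :
    φ.toLinearMap.rTensor N (T.1 n q) = T.1 m (φ.toLinearMap.rTensor M q) :=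
  congr_fun (T.2 n m φ) q

theorem eq_of_surjective {k : ℕ} {B : Type u} [CommRing B] [Algebra A B]
    (χ : MvPolynomial (Fin k) A →ₐ[A] B) (hχ : Function.Surjective χ)
    {q q' : MvPolynomial (Fin k) A ⊗[A] M}
    (h : χ.toLinearMap.rTensor M q = χ.toLinearMap.rTensor M q') :
    χ.toLinearMap.rTensor N (T.1 k q) = χ.toLinearMap.rTensor N (T.1 k q') := by
  have hex : Function.Exact (LinearMap.ker χ.toLinearMap).subtype χ.toLinearMap :=
    LinearMap.exact_subtype_ker_map _
  have hd : χ.toLinearMap.rTensor M (q - q') = 0 := by rw [map_sub, h, sub_self]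
  obtain ⟨z, hz⟩ := (rTensor_exact M hex hχ (q - q')).mp hd
  obtain ⟨r, c, m, rfl⟩ := exists_fin_sum z
  let X' : Fin r → MvPolynomial (Fin (k + r)) A := fun j => MvPolynomial.X (Fin.natAdd k j)
  let q₃ := (MvPolynomial.rename (R := A) (Fin.castAdd r : Fin k → Fin (k + r))).toLinearMap.rTensor M q' +
    ∑ j, X' j ⊗ₜ[A] m j
  let θ₀ : MvPolynomial (Fin (k + r)) A →ₐ[A] MvPolynomial (Fin k) A :=
    MvPolynomial.aeval (Fin.append MvPolynomial.X 0)
  let θ₁ : MvPolynomial (Fin (k + r)) A →ₐ[A] MvPolynomial (Fin k) A :=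
    MvPolynomial.aeval (Fin.append MvPolynomial.X fun j => (c j : MvPolynomial (Fin k) A))
  have e0 : θ₀.toLinearMap.rTensor M q₃ = q' := by
    have : θ₀.comp (MvPolynomial.rename (Fin.castAdd r)) = AlgHom.id A _ :=
      MvPolynomial.algHom_ext fun i => by simp [θ₀]
    simp only [q₃, map_add, map_sum, LinearMap.rTensor_tmul]
    rw [← LinearMap.rTensor_comp_apply, ← AlgHom.comp_toLinearMap, this]
    simp [θ₀, X']
  have e1 : θ₁.toLinearMap.rTensor M q₃ = q := by
    have : θ₁.comp (MvPolynomial.rename (Fin.castAdd r)) = AlgHom.id A _ :=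
      MvPolynomial.algHom_ext fun i => by simp [θ₁]
    simp only [q₃, map_add, map_sum, LinearMap.rTensor_tmul]
    rw [← LinearMap.rTensor_comp_apply, ← AlgHom.comp_toLinearMap, this]
    rw [map_sum] at hz
    simp only [LinearMap.rTensor_tmul, Submodule.subtype_apply] at hz
    simp [θ₁, X', hz]
  have hθ : χ.comp θ₁ = χ.comp θ₀ := by
    refine MvPolynomial.algHom_ext fun i => ?_
    refine Fin.addCases (fun l => ?_) (fun j => ?_) i
    · simp [θ₀, θ₁]
    · simp [θ₀, θ₁]
      exact (c j).2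
  rw [← e0, ← e1, ← nat, ← nat, ← LinearMap.rTensor_comp_apply, ← LinearMap.rTensor_comp_apply,
    ← AlgHom.comp_toLinearMap, ← AlgHom.comp_toLinearMap, hθ]

theorem eq_of_eq {S : Type u} [CommSemiring S] [Algebra A S] {n n' : ℕ}
    (ψ : MvPolynomial (Fin n) A →ₐ[A] S) (ψ' : MvPolynomial (Fin n') A →ₐ[A] S)
    (p : MvPolynomial (Fin n) A ⊗[A] M) (p' : MvPolynomial (Fin n') A ⊗[A] M)
    (h : ψ.toLinearMap.rTensor M p = ψ'.toLinearMap.rTensor M p') :
    ψ.toLinearMap.rTensor N (T.1 n p) = ψ'.toLinearMap.rTensor N (T.1 n' p') := by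
  have fg : ∀ {n : ℕ} (ψ : MvPolynomial (Fin n) A →ₐ[A] S), ψ.range.FG := fun ψ => by
    rw [← Algebra.map_top]
    exact Subalgebra.FG.map _ Algebra.FiniteType.out
  have huu' : ψ.range.val.toLinearMap.rTensor M (ψ.rangeRestrict.toLinearMap.rTensor M p) =
      ψ'.range.val.toLinearMap.rTensor M (ψ'.rangeRestrict.toLinearMap.rTensor M p') := by
    rwa [← LinearMap.rTensor_comp_apply, ← LinearMap.rTensor_comp_apply, ← AlgHom.comp_toLinearMap,
      ← AlgHom.comp_toLinearMap, AlgHom.val_comp_rangeRestrict, AlgHom.val_comp_rangeRestrict]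
  obtain ⟨B, hAB, hA'B, hB, hBeq⟩ :=
    TensorProduct.Algebra.eq_of_fg_of_subtype_eq' (R := A) (fg ψ) (fg ψ') huu'
  letI : CommRing B := toCommRing A B
  haveI : Algebra.FiniteType A B := (Subalgebra.fg_iff_finiteType B).mp hB
  obtain ⟨k, χ, hχ⟩ := Algebra.FiniteType.iff_quotient_mvPolynomial''.mp this
  have lift : ∀ {n : ℕ} (f : MvPolynomial (Fin n) A →ₐ[A] B),
      ∃ g : MvPolynomial (Fin n) A →ₐ[A] MvPolynomial (Fin k) A, χ.comp g = f := fun f =>
    ⟨MvPolynomial.aeval fun i => Function.surjInv hχ (f (MvPolynomial.X i)),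
      MvPolynomial.algHom_ext fun i => by simp [Function.surjInv_eq hχ]⟩
  obtain ⟨g, hg⟩ := lift ((Subalgebra.inclusion hAB).comp ψ.rangeRestrict)
  obtain ⟨g', hg'⟩ := lift ((Subalgebra.inclusion hA'B).comp ψ'.rangeRestrict)
  have key : χ.toLinearMap.rTensor M (g.toLinearMap.rTensor M p) =
      χ.toLinearMap.rTensor M (g'.toLinearMap.rTensor M p') := by
    rw [← LinearMap.rTensor_comp_apply, ← LinearMap.rTensor_comp_apply, ← AlgHom.comp_toLinearMap,
      ← AlgHom.comp_toLinearMap, hg, hg', AlgHom.comp_toLinearMap, AlgHom.comp_toLinearMap,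
      LinearMap.rTensor_comp_apply, LinearMap.rTensor_comp_apply]
    exact hBeq
  have h2 := congrArg (B.val.toLinearMap.rTensor N) (T.eq_of_surjective χ hχ key)
  rw [← T.nat g, ← T.nat g'] at h2
  simp only [← LinearMap.rTensor_comp_apply, ← AlgHom.comp_toLinearMap, hg, hg'] at h2
  have hv : ∀ {n : ℕ} {ψ : MvPolynomial (Fin n) A →ₐ[A] S} (hle : ψ.range ≤ B),
      B.val.comp ((Subalgebra.inclusion hle).comp ψ.rangeRestrict) = ψ := fun hle =>
    AlgHom.ext fun x => rfl
  rwa [hv hAB, hv hA'B] at h2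

/-- The law with given values on polynomial rings. -/
noncomputable def law : M →ₚₗ[A] N where
  toFun' S _ _ x :=
    let h := PolynomialLaw.exists_lift x
    h.choose_spec.choose.toLinearMap.rTensor N (T.1 h.choose h.choose_spec.choose_spec.choose)
  isCompat' {S} _ _ {S'} _ _ φ := by
    funext x
    simp only [Function.comp_apply]
    rw [← LinearMap.rTensor_comp_apply, ← AlgHom.comp_toLinearMap]
    refine T.eq_of_eq _ _ _ _ ?_
    rw [(PolynomialLaw.exists_lift (φ.toLinearMap.rTensor M x)).choose_spec.choose_spec.choose_spec,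
      AlgHom.comp_toLinearMap, LinearMap.rTensor_comp_apply,
      (PolynomialLaw.exists_lift x).choose_spec.choose_spec.choose_spec]

theorem law_toFun' (n : ℕ) (x : MvPolynomial (Fin n) A ⊗[A] M) :
    T.law.toFun' (MvPolynomial (Fin n) A) x = T.1 n x := by
  refine (T.eq_of_eq _ (AlgHom.id A _) _ x ?_).trans ?_
  · rw [(PolynomialLaw.exists_lift x).choose_spec.choose_spec.choose_spec]
    simp
  · simp

end PolyData

/-- Two elements lift to a common polynomial ring. -/
theorem exists_lift₂ {S : Type u} [CommSemiring S] [Algebra A S] (x y : S ⊗[A] M) :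
    ∃ (n : ℕ) (ψ : MvPolynomial (Fin n) A →ₐ[A] S) (p q : MvPolynomial (Fin n) A ⊗[A] M),
      ψ.toLinearMap.rTensor M p = x ∧ ψ.toLinearMap.rTensor M q = y := by
  obtain ⟨n, ψ, p, rfl⟩ := PolynomialLaw.exists_lift x
  obtain ⟨n', ψ', q, rfl⟩ := PolynomialLaw.exists_lift y
  let Ψ : MvPolynomial (Fin (n + n')) A →ₐ[A] S :=
    MvPolynomial.aeval (Fin.append (fun i => ψ (MvPolynomial.X i)) (fun i => ψ' (MvPolynomial.X i)))
  refine ⟨n + n', Ψ, (MvPolynomial.rename (R := A) (Fin.castAdd n')).toLinearMap.rTensor M p,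
    (MvPolynomial.rename (R := A) (Fin.natAdd n)).toLinearMap.rTensor M q, ?_, ?_⟩
  all_goals rw [← LinearMap.rTensor_comp_apply, ← AlgHom.comp_toLinearMap]
  · rw [show Ψ.comp (MvPolynomial.rename (Fin.castAdd n')) = ψ from
      MvPolynomial.algHom_ext fun i => by simp [Ψ]]
  · rw [show Ψ.comp (MvPolynomial.rename (Fin.natAdd n)) = ψ' from
      MvPolynomial.algHom_ext fun i => by simp [Ψ]]

end Groth.Agent.PLaw
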