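import Groth.Agent.PLaw.GammaFlat
import Groth.Agent.PLaw.BCUniv
import Mathlib.RingTheory.Nilpotent.GeometricallyReduced
import Mathlib.RingTheory.TensorProduct.Free

/-!
# Tensor powers of geometrically reduced algebras are reduced
-/

set_option linter.style.haveILetI false

universe u

open scoped TensorProduct

namespace Groth.Agent.PLaw

variable {K : Type u} [Field K] {B : Type u} [CommRing B] [Algebra K B]

/-- A reduced algebra tensored with a geometrically reduced one is reduced. -/
theorem isReduced_tensor_of_geom (h : ∀ (L : Type u) [Field L] [Algebra K L], IsReduced (L ⊗[K] B))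
    (R : Type u) [CommRing R] [Algebra K R] [IsReduced R] : IsReduced (R ⊗[K] B) := by
  refine ⟨fun x hx => ?_⟩
  let b := Module.Free.chooseBasis K B
  refine (Algebra.TensorProduct.basis R b).repr.map_eq_zero_iff.mp (Finsupp.ext fun i => ?_)
  rw [Finsupp.zero_apply]
  refine IsReduced.eq_zero _ ?_
  rw [nilpotent_iff_mem_prime]
  intro p hp
  let L := FractionRing (R ⧸ p)
  let φ : R →ₐ[K] L := (IsScalarTower.toAlgHom K (R ⧸ p) L).comp (Ideal.Quotient.mkₐ K p)
  haveI := h L
  have h0 : (Algebra.TensorProduct.map φ (AlgHom.id K B)) x = 0 := (hx.map _).eq_zero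
  have key : ∀ y : R ⊗[K] B, φ ((Algebra.TensorProduct.basis R b).repr y i) =
      (Algebra.TensorProduct.basis L b).repr ((Algebra.TensorProduct.map φ (AlgHom.id K B)) y) i := by
    intro y
    induction y using TensorProduct.induction_on with
    | zero => simp
    | tmul r c =>
      simp [Algebra.TensorProduct.basis_repr_tmul, φ]
      rw [Algebra.smul_def, ← IsScalarTower.algebraMap_apply K (R ⧸ p) L]
    | add u v hu hv => simp only [map_add, Finsupp.add_apply, hu, hv]
  have hk := key x
  rw [h0, map_zero, Finsupp.zero_apply] at hk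
  exact Ideal.Quotient.eq_zero_iff_mem.mp
    ((map_eq_zero_iff _ (IsFractionRing.injective (R ⧸ p) L)).mp hk)

/-- The algebra map out of a tensor power with given components. -/
noncomputable def powLift {A P T : Type*} [CommRing A] [CommRing P] [Algebra A P] [CommRing T] [Algebra A T]
    {d : ℕ} (s : Fin d → (P →ₐ[A] T)) : (⨂[A] _ : Fin d, P) →ₐ[A] T :=
  PiTensorProduct.liftAlgHom
    ((MultilinearMap.mkPiAlgebra A (Fin d) T).compLinearMap fun i => (s i).toLinearMap)
    (by simp) (fun x y => by simp [Finset.prod_mul_distrib])

theorem powLift_single {A P T : Type*} [CommRing A] [CommRing P] [Algebra A P] [CommRing T] [Algebra A T]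
    {d : ℕ} (s : Fin d → (P →ₐ[A] T)) (i : Fin d) (r : P) :
    powLift s (PiTensorProduct.singleAlgHom (A := fun _ : Fin d => P) i r) = s i r := by
  classical
  simp only [PiTensorProduct.singleAlgHom_apply, MonoidHom.mulSingle_apply]
  change PiTensorProduct.lift _ (PiTensorProduct.tprod A _) = _
  simp only [PiTensorProduct.lift.tprod, MultilinearMap.compLinearMap_apply,
    MultilinearMap.mkPiAlgebra_apply, AlgHom.toLinearMap_apply]
  rw [Finset.prod_eq_single i (fun j _ hj => by rw [Pi.mulSingle_eq_of_ne hj, map_one])
    (fun h => absurd (Finset.mem_univ i) h), Pi.mulSingle_eq_same]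

/-- Tensor powers of a geometrically reduced algebra are reduced. -/
theorem isReduced_tensorPower (h : ∀ (L : Type u) [Field L] [Algebra K L], IsReduced (L ⊗[K] B)) :
    ∀ d, IsReduced (⨂[K] _ : Fin d, B) := by
  intro d
  induction d with
  | zero =>
    let f : (⨂[K] _ : Fin 0, B) →ₐ[K] K := powLift fun j => j.elim0
    have hgf : (Algebra.ofId K (⨂[K] _ : Fin 0, B)).comp f = AlgHom.id K _ :=
      PiTensorProduct.algHom_ext fun i => i.elim0
    exact isReduced_of_injective f (Function.LeftInverse.injective
      (g := Algebra.ofId K (⨂[K] _ : Fin 0, B)) fun x => AlgHom.congr_fun hgf x)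
  | succ d ih =>
    haveI := ih
    haveI := isReduced_tensor_of_geom h (⨂[K] _ : Fin d, B)
    let f : (⨂[K] _ : Fin (d + 1), B) →ₐ[K] (⨂[K] _ : Fin d, B) ⊗[K] B :=
      powLift (Fin.lastCases Algebra.TensorProduct.includeRight fun j =>
        (Algebra.TensorProduct.includeLeft (R := K) (S := K)).comp
          (PiTensorProduct.singleAlgHom (A := fun _ : Fin d => B) j))
    let g : (⨂[K] _ : Fin d, B) ⊗[K] B →ₐ[K] ⨂[K] _ : Fin (d + 1), B :=
      Algebra.TensorProduct.productMap
        (powLift fun j => PiTensorProduct.singleAlgHom (A := fun _ : Fin (d + 1) => B) j.castSucc)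
        (PiTensorProduct.singleAlgHom (A := fun _ : Fin (d + 1) => B) (Fin.last d))
    have hgf : g.comp f = AlgHom.id K _ := by
      refine PiTensorProduct.algHom_ext fun i => AlgHom.ext fun r => ?_
      simp only [AlgHom.comp_apply, AlgHom.id_apply, f, g]
      rw [powLift_single]
      induction i using Fin.lastCases with
      | last => simp
      | cast j => simp only [Fin.lastCases_castSucc, AlgHom.comp_apply, Algebra.TensorProduct.includeLeft_apply, Algebra.TensorProduct.productMap_apply_tmul, map_one, mul_one, powLift_single]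
    exact isReduced_of_injective f (Function.LeftInverse.injective (g := g) fun x =>
      AlgHom.congr_fun hgf x)

end Groth.Agent.PLaw
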