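import Groth.Agent.PLaw.Gamma

/-!
# A divided power algebra is spanned by coefficients of the universal law
-/

universe u

open scoped TensorProduct

namespace Groth.Agent.PLaw

variable {A : Type u} [CommRing A]

section Module

variable {M : Type u} [AddCommGroup M] [Module A M] {N : Type u} [AddCommGroup N] [Module A N]

theorem exists_sum_tmul_of_span_eq_top {G : Set M} (hG : Submodule.span A G = ⊤)
    {S : Type*} [CommSemiring S] [Algebra A S] (x : S ⊗[A] M) :
    ∃ (n : ℕ) (s : Fin n → S) (m : Fin n → M), (∀ i, m i ∈ G) ∧ x = ∑ i, s i ⊗ₜ[A] m i := by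
  induction x using TensorProduct.induction_on with
  | zero => exact ⟨0, 0, 0, fun i => i.elim0, by simp⟩
  | tmul s m =>
    obtain ⟨n, c, g, h⟩ := Submodule.mem_span_set'.mp (hG ▸ Submodule.mem_top : m ∈ Submodule.span A G)
    refine ⟨n, fun i => c i • s, fun i => g i, fun i => (g i).2, ?_⟩
    simp [← h, TensorProduct.tmul_sum, TensorProduct.smul_tmul]
  | add x y hx hy =>
    obtain ⟨n, s, m, hm, rfl⟩ := hx
    obtain ⟨n', s', m', hm', rfl⟩ := hy
    refine ⟨n + n', Fin.append s s', Fin.append m m', fun i => ?_, ?_⟩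
    · refine Fin.addCases (fun i => ?_) (fun i => ?_) i <;> simp [hm, hm']
    · simp [Fin.sum_univ_add]

/-- Laws agreeing on generic sums of elements of a spanning set are equal. -/
theorem law_ext_gen_of_span_eq_top {G : Set M} (hG : Submodule.span A G = ⊤) {F F' : M →ₚₗ[A] N}
    (h : ∀ (n : ℕ) (m : Fin n → M), (∀ i, m i ∈ G) → ∀ α,
      cf α (F.toFun' (MvPolynomial (Fin n) A) (gen A m Finset.univ)) =
        cf α (F'.toFun' (MvPolynomial (Fin n) A) (gen A m Finset.univ))) : F = F' := by
  refine PolynomialLaw.ext ?_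
  funext S i1 i2 x
  obtain ⟨n, s, m, hm, rfl⟩ := exists_sum_tmul_of_span_eq_top hG x
  have h1 : (MvPolynomial.aeval s : MvPolynomial (Fin n) A →ₐ[A] S).toLinearMap.rTensor M
      (gen A m Finset.univ) = ∑ i, s i ⊗ₜ[A] m i := by
    rw [rTensor_gen]
    simp
  rw [← h1, ← compat F, ← compat F', cf_ext (h n m hm)]

end Module

variable {B : Type u} [CommRing B] [Algebra A B] {C : Type u} [CommRing C] [Algebra A C] {d : ℕ}

/-- Linear maps out of a divided power algebra agreeing on the universal law are equal. -/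
theorem linearMap_ext_gamma {γ : PolLaw.MulLaw A B C d} (hγ : PolLaw.IsGammaD γ) {N : Type u}
    [AddCommGroup N] [Module A N] {f g : C →ₗ[A] N}
    (h : PolLaw.postcomp f γ.law = PolLaw.postcomp g γ.law) : f = g := by
  obtain ⟨q, hq, -, hval⟩ := exists_presentation (stdBasis A B) (stdπ A B) (stdπ_surjective A B) γ hγ
  have hfg : f.comp q.toLinearMap = g.comp q.toLinearMap := by
    refine linearMap_ext_TS (stdBasis A B) fun s α => ?_
    simp only [← cf_lTensor, LinearMap.lTensor_comp, LinearMap.comp_apply, hval]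
    rw [← postcomp_apply, law_congr h, postcomp_apply]
  refine LinearMap.ext fun c => ?_
  obtain ⟨t, rfl⟩ := hq c
  exact LinearMap.congr_fun hfg t

/-- The coefficients of the universal law at generic sums of elements of a spanning set span. -/
theorem span_cf_gamma_eq_top {γ : PolLaw.MulLaw A B C d} (hγ : PolLaw.IsGammaD γ) {G : Set B}
    (hG : Submodule.span A G = ⊤) :
    Submodule.span A {c : C | ∃ (n : ℕ) (b : Fin n → B) (α : Fin n →₀ ℕ), (∀ i, b i ∈ G) ∧
      cf α (γ.law.toFun' (MvPolynomial (Fin n) A) (gen A b Finset.univ)) = c} = ⊤ := by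
  set T := Submodule.span A {c : C | ∃ (n : ℕ) (b : Fin n → B) (α : Fin n →₀ ℕ), (∀ i, b i ∈ G) ∧
      cf α (γ.law.toFun' (MvPolynomial (Fin n) A) (gen A b Finset.univ)) = c}
  have h : T.mkQ = 0 := by
    refine linearMap_ext_gamma hγ (law_ext_gen_of_span_eq_top hG fun n m hm α => ?_)
    rw [postcomp_apply, postcomp_apply, cf_lTensor, cf_lTensor, LinearMap.zero_apply,
      Submodule.mkQ_apply, Submodule.Quotient.mk_eq_zero]
    exact Submodule.subset_span ⟨n, m, α, hm, rfl⟩
  rw [← T.ker_mkQ, h, LinearMap.ker_zero]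

end Groth.Agent.PLaw
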