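import Groth.Agent.PLaw.GammaTS
import Mathlib.Algebra.MvPolynomial.Eval
import Mathlib.Algebra.Polynomial.BigOperators

/-!
# Tensors invariant under the stabiliser of a factor

A tensor invariant under the permutations fixing the factor `j` is a combination, with symmetric
tensors as coefficients, of tensors concentrated in the factor `j`.
-/

universe u

open scoped TensorProduct

namespace Groth.Agent.PLaw

variable {A : Type u} [CommRing A] {P : Type u} [CommRing P] [Algebra A P] {d : ℕ}

variable (A P) in
/-- The map `TS ⊗ P → P^{⊗ d}` putting `P` in the factor `j`. -/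
noncomputable def slotMap₀ (j : Fin d) :
    SymTen.TS A P d ⊗[A] P →ₐ[A] (⨂[A] _ : Fin d, P) :=
  Algebra.TensorProduct.lift (SymTen.TS A P d).val
    (PiTensorProduct.singleAlgHom (A := fun _ : Fin d => P) j) fun _ _ => Commute.all _ _

variable (A P d) in
/-- Base change of the embedding of the symmetric tensors. -/
noncomputable def valS (S : Type u) [CommSemiring S] [Algebra A S] :
    S ⊗[A] SymTen.TS A P d →ₐ[A] S ⊗[A] (⨂[A] _ : Fin d, P) :=
  Algebra.TensorProduct.map (AlgHom.id A S) (SymTen.TS A P d).val

variable (A P) in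
/-- The map `(S ⊗ TS) ⊗ P → S ⊗ P^{⊗ d}` putting `P` in the factor `j`. -/
noncomputable def slotMap (S : Type u) [CommSemiring S] [Algebra A S] (j : Fin d) :
    (S ⊗[A] SymTen.TS A P d) ⊗[A] P →ₐ[A] S ⊗[A] (⨂[A] _ : Fin d, P) :=
  Algebra.TensorProduct.lift (valS A P d S)
    (Algebra.TensorProduct.includeRight.comp
      (PiTensorProduct.singleAlgHom (A := fun _ : Fin d => P) j)) fun _ _ => Commute.all _ _

theorem valS_tmul (S : Type u) [CommSemiring S] [Algebra A S] (s : S) (t : SymTen.TS A P d) :
    valS A P d S (s ⊗ₜ[A] t) = s ⊗ₜ[A] (t : ⨂[A] _ : Fin d, P) := rfl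

theorem valS_apply (S : Type u) [CommSemiring S] [Algebra A S] (z : S ⊗[A] SymTen.TS A P d) :
    valS A P d S z = (SymTen.TS A P d).val.toLinearMap.lTensor S z := by
  induction z using TensorProduct.induction_on with
  | zero => simp
  | tmul s t => rfl
  | add a b ha hb => simp only [map_add, ha, hb]

theorem slotMap_tmul (S : Type u) [CommSemiring S] [Algebra A S] (j : Fin d)
    (z : S ⊗[A] SymTen.TS A P d) (p : P) :
    slotMap A P S j (z ⊗ₜ[A] p) = valS A P d S z *
      (1 ⊗ₜ[A] PiTensorProduct.singleAlgHom (A := fun _ : Fin d => P) j p) :=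
  Algebra.TensorProduct.lift_tmul ..

variable (A P) in
/-- The tensor permutation after base change. -/
noncomputable def permS (S : Type u) [CommSemiring S] [Algebra A S] (σ : Equiv.Perm (Fin d)) :
    S ⊗[A] (⨂[A] _ : Fin d, P) →ₐ[A] S ⊗[A] (⨂[A] _ : Fin d, P) :=
  Algebra.TensorProduct.map (AlgHom.id A S) (SymTen.perm A P d σ)

theorem permS_apply (S : Type u) [CommSemiring S] [Algebra A S] (σ : Equiv.Perm (Fin d))
    (z : S ⊗[A] (⨂[A] _ : Fin d, P)) :
    permS A P S σ z = (SymTen.perm A P d σ).toLinearMap.lTensor S z := by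
  induction z using TensorProduct.induction_on with
  | zero => simp
  | tmul s t => rfl
  | add a b ha hb => simp only [map_add, ha, hb]

theorem permS_mul (S : Type u) [CommSemiring S] [Algebra A S] (σ τ : Equiv.Perm (Fin d))
    (z : S ⊗[A] (⨂[A] _ : Fin d, P)) : permS A P S σ (permS A P S τ z) = permS A P S (σ * τ) z := by
  induction z using TensorProduct.induction_on with
  | zero => simp
  | tmul s t => simp only [permS, Algebra.TensorProduct.map_tmul, AlgHom.id_apply, perm_comp]
  | add a b ha hb => simp only [map_add, ha, hb]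

theorem perm_single (σ : Equiv.Perm (Fin d)) (j : Fin d) (p : P) :
    SymTen.perm A P d σ (PiTensorProduct.singleAlgHom (A := fun _ : Fin d => P) j p) =
      PiTensorProduct.singleAlgHom (A := fun _ : Fin d => P) (σ j) p := by
  simp only [PiTensorProduct.singleAlgHom_apply, MonoidHom.mulSingle_apply, SymTen.perm_tprod]
  congr 1
  funext i
  by_cases hij : i = σ j
  · subst hij; simp
  · rw [Pi.mulSingle_eq_of_ne hij, Pi.mulSingle_eq_of_ne]
    rw [Ne, Equiv.symm_apply_eq]
    exact hij

theorem permS_valS (S : Type u) [CommSemiring S] [Algebra A S] (σ : Equiv.Perm (Fin d))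
    (z : S ⊗[A] SymTen.TS A P d) : permS A P S σ (valS A P d S z) = valS A P d S z := by
  induction z using TensorProduct.induction_on with
  | zero => simp
  | tmul s t => simp only [valS_tmul, permS, Algebra.TensorProduct.map_tmul, AlgHom.id_apply, perm_TS]
  | add a b ha hb => simp only [map_add, ha, hb]

variable {κ : Type u} (e : Module.Basis κ A P)

/-- Orbit sums under the stabiliser of `j` lie in the image of `slotMap₀`. -/
theorem slotOrb_mem (j : Fin d) (k₀ : κ) (α : κ →₀ ℕ) [DecidableEq κ] :
    (∑ c ∈ (words d α).filter (fun c : Fin d → κ => c j = k₀),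
      PiTensorProduct.tprod A fun i => e (c i)) ∈ (slotMap₀ A P j).range := by
  classical
  let R₀ := (slotMap₀ A P j).range
  let ι₀ : R₀ →+* (⨂[A] _ : Fin d, P) := R₀.val.toRingHom
  let T' := MvPolynomial κ (⨂[A] _ : Fin d, P)
  let K : Subring T' := RingHom.range (R := MvPolynomial κ R₀) (S := T') (MvPolynomial.map ι₀)
  have hK : ∀ z : T', (∀ β, z.coeff β ∈ R₀) → z ∈ K := fun z hz => by
    refine MvPolynomial.mem_range_map_iff_coeffs_subset.mpr fun c hc => ?_
    obtain ⟨β, -, rfl⟩ := MvPolynomial.mem_coeffs_iff.mp hc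
    exact ⟨⟨_, hz β⟩, rfl⟩
  have hK' : ∀ z ∈ K, ∀ β, z.coeff β ∈ R₀ := by
    rintro _ ⟨y, rfl⟩ β
    rw [MvPolynomial.coeff_map]
    exact (y.coeff β).2
  have hTS : ∀ t : ⨂[A] _ : Fin d, P, t ∈ SymTen.TS A P d → t ∈ R₀ := fun t ht =>
    ⟨⟨t, ht⟩ ⊗ₜ[A] 1, by simp [slotMap₀, ← PiTensorProduct.one_def]⟩
  have hj : ∀ p, PiTensorProduct.singleAlgHom (A := fun _ : Fin d => P) j p ∈ R₀ := fun p =>
    ⟨1 ⊗ₜ[A] p, by simp [slotMap₀]⟩
  let single : Fin d → κ → T' := fun i k => MvPolynomial.monomial (Finsupp.single k 1)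
    (PiTensorProduct.singleAlgHom (R := A) (A := fun _ : Fin d => P) i (e k))
  let G : Fin d → T' := fun i => ∑ k ∈ α.support, single i k
  let Pall : Polynomial T' := ∏ i, (Polynomial.X + Polynomial.C (G i))
  let O : Polynomial T' := ∏ i ∈ Finset.univ.erase j, (Polynomial.X + Polynomial.C (G i))
  have hsingle : ∀ k, single j k ∈ K := fun k => hK _ fun β => by
    simp only [single, MvPolynomial.coeff_monomial]
    split_ifs
    · exact hj _
    · exact R₀.zero_mem
  have hGj : G j ∈ K := K.sum_mem fun k _ => hsingle k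
  have hinv : ∀ σ : Equiv.Perm (Fin d),
      Pall.map (MvPolynomial.map (SymTen.perm A P d σ).toRingHom) = Pall := by
    intro σ
    have hG : ∀ i, MvPolynomial.map (SymTen.perm A P d σ).toRingHom (G i) = G (σ i) := fun i => by
      simp only [G, single, map_sum, MvPolynomial.map_monomial, AlgHom.toRingHom_eq_coe,
        RingHom.coe_coe, perm_single]
    simp only [Pall, Polynomial.map_prod, Polynomial.map_add, Polynomial.map_X, Polynomial.map_C,
      hG]
    exact Equiv.prod_comp σ fun i => Polynomial.X + Polynomial.C (G i)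
  have hPall : ∀ m, Pall.coeff m ∈ K := fun m => hK _ fun β => hTS _ <| mem_TS_iff_perm.mpr fun σ => by
    conv_rhs => rw [← hinv σ]
    rw [Polynomial.coeff_map, MvPolynomial.coeff_map]
    rfl
  have hfac : Pall = O * (Polynomial.X + Polynomial.C (G j)) :=
    (Finset.prod_erase_mul _ _ (Finset.mem_univ j)).symm
  have hO : ∀ n m, d ≤ m + n → O.coeff m ∈ K := by
    intro n
    induction n with
    | zero =>
      intro m hm
      rw [Polynomial.coeff_eq_zero_of_natDegree_lt]
      · exact K.zero_mem
      refine lt_of_le_of_lt (Polynomial.natDegree_prod_le _ _) ?_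
      refine lt_of_le_of_lt (Finset.sum_le_card_nsmul _ _ 1 fun i _ => ?_) ?_
      · refine (Polynomial.natDegree_add_le _ _).trans ?_
        simp [Polynomial.natDegree_X_le]
      · simp only [Finset.card_erase_of_mem (Finset.mem_univ j), Finset.card_univ, Fintype.card_fin,
          smul_eq_mul, mul_one]
        have := j.pos
        omega
    | succ n ih =>
      intro m hm
      have h := congrArg (fun q => Polynomial.coeff q (m + 1)) hfac
      simp only [mul_add, Polynomial.coeff_add, Polynomial.coeff_mul_X, Polynomial.coeff_mul_C] at h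
      rw [show O.coeff m = Pall.coeff (m + 1) - O.coeff (m + 1) * G j from eq_sub_of_add_eq h.symm]
      exact K.sub_mem (hPall _) (K.mul_mem (ih (m + 1) (by omega)) hGj)
  have h0 : O.coeff 0 = ∏ i ∈ Finset.univ.erase j, G i := by
    simp [O, Polynomial.coeff_zero_prod]
  let s' : Fin d → Finset κ := fun i => if i = j then {k₀} else α.support
  have hprod : (∏ i ∈ Finset.univ.erase j, G i) * single j k₀ =
      ∑ c ∈ Fintype.piFinset s',
        MvPolynomial.monomial (cnt c) (PiTensorProduct.tprod A fun i => e (c i)) := by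
    have hterm : ∀ i, (∑ k ∈ s' i, single i k) = if i = j then single j k₀ else G i := fun i => by
      by_cases h : i = j
      · subst h; simp [s']
      · simp [s', h, G]
    rw [show (∏ i ∈ Finset.univ.erase j, G i) * single j k₀ = ∏ i, ∑ k ∈ s' i, single i k by
      rw [← Finset.prod_erase_mul _ _ (Finset.mem_univ j)]
      simp only [hterm, if_true]
      congr 1
      exact Finset.prod_congr rfl fun i hi => by rw [if_neg (Finset.mem_erase.mp hi).1],
      Finset.prod_univ_sum]
    refine Finset.sum_congr rfl fun c _ => ?_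
    simp only [single]
    rw [← MvPolynomial.monomial_sum_prod]
    congr 1
    simp only [PiTensorProduct.singleAlgHom_apply, MonoidHom.mulSingle_apply]
    rw [← PiTensorProduct.tprod_prod]
    exact congrArg _ (Finset.univ_prod_mulSingle (fun i : Fin d => e (c i)))
  have hmem : (∏ i ∈ Finset.univ.erase j, G i) * single j k₀ ∈ K :=
    K.mul_mem (h0 ▸ hO d 0 (by omega)) (hsingle k₀)
  have hc := hK' _ hmem α
  rw [hprod, MvPolynomial.coeff_sum] at hc
  simp only [MvPolynomial.coeff_monomial, ← Finset.sum_filter] at hc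
  convert hc using 2
  ext c
  simp only [Finset.mem_filter, mem_words, Fintype.mem_piFinset, s']
  constructor
  · rintro ⟨h, hcj⟩
    refine ⟨fun i => ?_, h⟩
    by_cases hi : i = j
    · subst hi; simp [hcj]
    · rw [if_neg hi, ← h]; exact mem_support_cnt i
  · rintro ⟨h, hcnt⟩
    exact ⟨hcnt, by simpa using h j⟩

end Groth.Agent.PLaw
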