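import Groth.Agent.PLaw.KerFinite
import Mathlib.Algebra.DualNumber
import Mathlib.Algebra.Polynomial.Derivative

/-!
# The trace of a multiplicative law, and kernels in characteristic zero
-/

universe u

open scoped TensorProduct Polynomial DualNumber
open Polynomial (X C)

namespace Groth.Agent.PLaw

variable {A : Type u} [CommRing A] {B : Type u} [CommRing B] [Algebra A B] {d : ℕ}
  (F : PolLaw.MulLaw A B A d) (R : Type u) [CommRing R] [Algebra A R]

/-- `F (1 + T y)` as a polynomial. -/
noncomputable def lineP (y : R ⊗[A] B) : R[X] :=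
  TensorProduct.rid A R[X] (F.law.toFun' R[X] (1 + (X ⊗ₜ[A] (1 : B)) *
    Algebra.TensorProduct.map ((Algebra.ofId R R[X]).restrictScalars A) (AlgHom.id A B) y))

theorem natDegree_lineP_le (y : R ⊗[A] B) : (lineP F R y).natDegree ≤ d := by
  have h : ∀ w : R[X] ⊗[A] A, TensorProduct.rid A R[X] ((trunc A R d).rTensor A w) =
      trunc A R d (TensorProduct.rid A R[X] w) := fun w => by
    induction w using TensorProduct.induction_on with
    | zero => simp
    | tmul p a => simp
    | add a b ha hb => simp only [map_add, ha, hb]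
  rw [lineP, ← trunc_law F R y, h, trunc_apply]
  refine (Polynomial.natDegree_sum_le _ _).trans ?_
  rw [Finset.fold_max_le]
  exact ⟨Nat.zero_le _, fun k hk => (Polynomial.natDegree_monomial_le _).trans
    (Nat.lt_succ_iff.mp (Finset.mem_range.mp hk))⟩

/-- Evaluation of `lineP` along a map of test rings. -/
theorem map_lineP {S : Type u} [CommRing S] [Algebra A S] (θ : R[X] →ₐ[A] S) (y : R ⊗[A] B) :
    θ (lineP F R y) = TensorProduct.rid A S (F.law.toFun' S (1 + (θ X ⊗ₜ[A] (1 : B)) *
      Algebra.TensorProduct.map (θ.comp ((Algebra.ofId R R[X]).restrictScalars A)) (AlgHom.id A B) y)) := by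
  rw [lineP, ← rid_natural, compatMap, map_add, map_one, map_mul, Algebra.TensorProduct.map_tmul,
    ← AlgHom.comp_apply (Algebra.TensorProduct.map θ (AlgHom.id A B)), ← Algebra.TensorProduct.map_comp]
  simp

/-- The trace of `y` with respect to `F`. -/
noncomputable def tr (y : R ⊗[A] B) : R := (lineP F R y).coeff 1

theorem tr_natural {S : Type u} [CommRing S] [Algebra A S] (φ : R →ₐ[A] S) (y : R ⊗[A] B) :
    tr F S (Algebra.TensorProduct.map φ (AlgHom.id A B) y) = φ (tr F R y) := by
  let θ : R[X] →ₐ[A] S[X] := Polynomial.mapAlgHom φ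
  have h : lineP F S (Algebra.TensorProduct.map φ (AlgHom.id A B) y) = θ (lineP F R y) := by
    rw [map_lineP, lineP, show θ X = X by simp [θ]]
    congr 4
    rw [← AlgHom.comp_apply, ← Algebra.TensorProduct.map_comp]
    exact congrArg (fun f => Algebra.TensorProduct.map f (AlgHom.id A B) y)
      (AlgHom.ext fun r => by simp [θ, Algebra.ofId_apply, Polynomial.algebraMap_eq])
  rw [tr, tr, h]
  exact Polynomial.coeff_map _ _

theorem dual_lineP (y : R ⊗[A] B) :
    ((Polynomial.aeval (R := R) (DualNumber.eps : R[ε])).restrictScalars A) (lineP F R y) =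
      TrivSqZeroExt.inl 1 + TrivSqZeroExt.inr (tr F R y) := by
  have h0 : (lineP F R y).coeff 0 = 1 := by
    have := map_lineP F R ((Polynomial.aeval (R := R) (0 : R)).restrictScalars A) y
    simp only [AlgHom.restrictScalars_apply, Polynomial.aeval_X, TensorProduct.zero_tmul, zero_mul,
      add_zero, (F.mult R).1] at this
    rw [Algebra.TensorProduct.one_def, TensorProduct.rid_tmul, one_smul] at this
    rwa [Polynomial.coeff_zero_eq_eval_zero, ← Polynomial.coe_aeval_eq_eval]
  have : ∀ p : R[X], Polynomial.aeval (DualNumber.eps : R[ε]) p =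
      TrivSqZeroExt.inl (p.coeff 0) + TrivSqZeroExt.inr (p.coeff 1) := fun p => by
    induction p using Polynomial.induction_on' with
    | add p q hp hq =>
      rw [map_add, hp, hq]
      ext <;> simp
    | monomial n a =>
      rcases n with _ | _ | n
      · ext <;> simp [Polynomial.aeval_monomial, TrivSqZeroExt.algebraMap_eq_inl]
      · ext <;> simp [Polynomial.aeval_monomial, TrivSqZeroExt.algebraMap_eq_inl, DualNumber.fst_eps,
          DualNumber.snd_eps]
      · rw [Polynomial.aeval_monomial, pow_succ, pow_succ, mul_assoc (DualNumber.eps ^ n), DualNumber.eps_mul_eps,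
          mul_zero, mul_zero]
        simp [Polynomial.coeff_monomial]
  rw [AlgHom.restrictScalars_apply, this, h0, tr]

theorem eval_dual (y : R ⊗[A] B) :
    TensorProduct.rid A R[ε] (F.law.toFun' R[ε] (1 + ((DualNumber.eps : R[ε]) ⊗ₜ[A] (1 : B)) *
      Algebra.TensorProduct.map ((Algebra.ofId R R[ε]).restrictScalars A) (AlgHom.id A B) y)) =
      TrivSqZeroExt.inl 1 + TrivSqZeroExt.inr (tr F R y) := by
  rw [← dual_lineP, map_lineP]
  congr 4
  · simp
  · exact congrArg (fun f => Algebra.TensorProduct.map f (AlgHom.id A B) y)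
      (AlgHom.ext fun r => by simp [Algebra.ofId_apply])

theorem tr_add (y z : R ⊗[A] B) : tr F R (y + z) = tr F R y + tr F R z := by
  let ι := Algebra.TensorProduct.map ((Algebra.ofId R R[ε]).restrictScalars A) (AlgHom.id A B)
  let e : R[ε] ⊗[A] B := (DualNumber.eps : R[ε]) ⊗ₜ[A] (1 : B)
  have he : e * e = 0 := by simp [e, DualNumber.eps_mul_eps]
  have h : 1 + e * ι (y + z) = (1 + e * ι y) * (1 + e * ι z) := by
    rw [map_add]
    linear_combination (-(ι y * ι z)) * he
  have h1 := eval_dual F R (y + z)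
  rw [h, (F.mult _).2] at h1
  have hm : ∀ a b : R[ε] ⊗[A] A, TensorProduct.rid A R[ε] (a * b) =
      TensorProduct.rid A R[ε] a * TensorProduct.rid A R[ε] b :=
    fun a b => map_mul (Algebra.TensorProduct.rid A A R[ε]) a b
  rw [hm, eval_dual, eval_dual] at h1
  have := congrArg TrivSqZeroExt.snd h1
  simpa [add_comm] using this.symm

theorem tr_smul (r : R) (y : R ⊗[A] B) : tr F R ((r ⊗ₜ[A] (1 : B)) * y) = r * tr F R y := by
  let θ : R[X] →ₐ[A] R[X] := (Polynomial.aeval (R := R) (C r * X)).restrictScalars A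
  have hθ : ∀ p : R[X], (θ p).coeff 1 = r * p.coeff 1 := fun p => by
    change (Polynomial.aeval (C r * X) p).coeff 1 = _
    induction p using Polynomial.induction_on' with
    | add p q hp hq => simp [hp, hq, mul_add]
    | monomial n a =>
      rw [Polynomial.aeval_monomial, mul_pow, ← map_pow, Polynomial.algebraMap_eq, ← mul_assoc, ← map_mul,
        Polynomial.coeff_C_mul_X_pow, Polynomial.coeff_monomial]
      split_ifs with h1 h2 h2
      · subst h2; ring
      · omega
      · omega
      · simp
  have h : lineP F R ((r ⊗ₜ[A] (1 : B)) * y) = θ (lineP F R y) := by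
    rw [map_lineP, lineP, map_mul, ← mul_assoc]
    congr 4
    · simp [θ]
    · exact congrArg (fun f => Algebra.TensorProduct.map f (AlgHom.id A B) y)
        (AlgHom.ext fun a => by simp [θ, Algebra.ofId_apply, Polynomial.algebraMap_eq])
  rw [tr, tr, h, hθ]

theorem tr_one (A' : Type u) [CommRing A'] [Algebra A A'] {z : A' ⊗[A] B}
    (hz : z ∈ PolLaw.kerBC F.law A') (v : A' ⊗[A] B) : tr F A' (v * z) = 0 := by
  have h := hz A'[X] 1 ((X ⊗ₜ[A] (1 : B)) *
    Algebra.TensorProduct.map (IsScalarTower.toAlgHom A A' A'[X]) (AlgHom.id A B) v)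
  rw [(F.mult _).1, mul_assoc, ← map_mul] at h
  have hι : (Algebra.ofId A' A'[X]).restrictScalars A = IsScalarTower.toAlgHom A A' A'[X] := rfl
  rw [tr, lineP, hι, h, Algebra.TensorProduct.one_def, TensorProduct.rid_tmul, one_smul]
  simp [Polynomial.coeff_one]

theorem eval₂_dual_eq {Q : Type u} [CommRing Q] (ι : R →+* Q) (τ : Q) (p : R[X]) :
    p.eval₂ ((algebraMap Q Q[ε]).comp ι) (algebraMap Q Q[ε] τ + DualNumber.eps) =
      TrivSqZeroExt.inl (p.eval₂ ι τ) + TrivSqZeroExt.inr ((Polynomial.derivative p).eval₂ ι τ) := by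
  induction p using Polynomial.induction_on' with
  | add p q hp hq =>
    simp only [map_add, Polynomial.eval₂_add, hp, hq]
    ext <;> simp
  | monomial n a =>
    rw [Polynomial.derivative_monomial, Polynomial.eval₂_monomial, Polynomial.eval₂_monomial,
      Polynomial.eval₂_monomial]
    ext
    · simp [TrivSqZeroExt.algebraMap_eq_inl, DualNumber.fst_eps]
    · simp [TrivSqZeroExt.algebraMap_eq_inl, TrivSqZeroExt.snd_pow, DualNumber.fst_eps,
        DualNumber.snd_eps, mul_comm, mul_left_comm, mul_assoc]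

theorem derivative_lineP_eval₂ {Q : Type u} [CommRing Q] [Algebra A Q] (ι : R →ₐ[A] Q) (τ : Q)
    (hτ : τ ^ (d + 1) = 0) (w β : R ⊗[A] B)
    (h : ∀ v : Q ⊗[A] B, tr F Q (v * Algebra.TensorProduct.map ι (AlgHom.id A B) β) = 0) :
    (Polynomial.derivative (lineP F R (w * β))).eval₂ ι.toRingHom τ = 0 := by
  let t : Q ⊗[A] B := τ ⊗ₜ[A] (1 : B)
  let u := Algebra.TensorProduct.map ι (AlgHom.id A B) w
  let b := Algebra.TensorProduct.map ι (AlgHom.id A B) β
  let G := ∑ k ∈ Finset.range (d + 1), (-(t * (u * b))) ^ k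
  have hgeom : (1 + t * (u * b)) * G = 1 := by
    have ht : t ^ (d + 1) = 0 := by
      rw [Algebra.TensorProduct.tmul_pow, hτ, TensorProduct.zero_tmul]
    have h0 : (-(t * (u * b))) ^ (d + 1) = 0 := by
      rw [show -(t * (u * b)) = t * (-(u * b)) by ring]
      exact (mul_pow t _ _).trans (by rw [ht]; exact zero_mul _)
    have := geom_sum_mul (-(t * (u * b))) (d + 1)
    rw [h0] at this
    linear_combination -this
  let j : Q →ₐ[A] Q[ε] := (Algebra.ofId Q Q[ε]).restrictScalars A
  let J := Algebra.TensorProduct.map j (AlgHom.id A B)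
  let e : Q[ε] ⊗[A] B := (DualNumber.eps : Q[ε]) ⊗ₜ[A] (1 : B)
  let θ : R[X] →ₐ[A] Q[ε] :=
    { Polynomial.eval₂RingHom ((algebraMap Q Q[ε]).comp ι.toRingHom) (algebraMap Q Q[ε] τ + DualNumber.eps) with
      commutes' := fun a => by
        simp [Polynomial.algebraMap_eq, IsScalarTower.algebraMap_apply A R R[X],
          ← IsScalarTower.algebraMap_apply A Q Q[ε]] }
  have hθX : θ X = j τ + DualNumber.eps := by simp [θ, j, Algebra.ofId_apply]
  have hθC : θ.comp ((Algebra.ofId R R[X]).restrictScalars A) = j.comp ι :=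
    AlgHom.ext fun r => by simp [θ, j, Algebra.ofId_apply, Polynomial.algebraMap_eq]
  have hval : θ (lineP F R (w * β)) =
      TensorProduct.rid A Q[ε] (F.law.toFun' Q[ε] (J (1 + t * (u * b)))) := by
    rw [map_lineP, hθC, hθX]
    have hJ : ∀ z : R ⊗[A] B, Algebra.TensorProduct.map (j.comp ι) (AlgHom.id A B) z =
        J (Algebra.TensorProduct.map ι (AlgHom.id A B) z) := fun z => by
      rw [← AlgHom.comp_apply, ← Algebra.TensorProduct.map_comp, AlgHom.comp_id]
    rw [hJ, map_mul (Algebra.TensorProduct.map ι _)]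
    change TensorProduct.rid A Q[ε] (F.law.toFun' _ (1 + _ * J (u * b))) = _
    have hfac : 1 + (j τ + DualNumber.eps) ⊗ₜ[A] (1 : B) * J (u * b) =
        J (1 + t * (u * b)) * (1 + e * J (u * G * b)) := by
      have hg := congrArg J hgeom
      rw [map_one, map_mul] at hg
      simp only [map_add, map_one, map_mul, show J t = j τ ⊗ₜ[A] (1 : B) by simp [J, t],
        TensorProduct.add_tmul] at hg ⊢
      linear_combination (-(e * J u * J b)) * hg
    have hQ : F.law.toFun' Q[ε] (1 + e * J (u * G * b)) = 1 := by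
      apply (TensorProduct.rid A Q[ε]).injective
      rw [eval_dual, h (u * G), Algebra.TensorProduct.one_def, TensorProduct.rid_tmul, one_smul]
      ext <;> simp
    rw [hfac, (F.mult _).2, hQ, mul_one]
  rw [← compatMap, rid_natural] at hval
  have := congrArg TrivSqZeroExt.snd ((eval₂_dual_eq R ι.toRingHom τ _).symm.trans hval)
  simpa [j, Algebra.ofId_apply, TrivSqZeroExt.algebraMap_eq_inl] using this

/-- In characteristic zero the kernel is cut out by traces. -/
theorem eq_one_of_tr [Algebra ℚ A] {β : R ⊗[A] B}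
    (h : ∀ (S : Type u) [CommRing S] [Algebra A S] (φ : R →ₐ[A] S) (v : S ⊗[A] B),
      tr F S (v * Algebra.TensorProduct.map φ (AlgHom.id A B) β) = 0) (w : R ⊗[A] B) :
    F.law.toFun' R (1 + w * β) = 1 := by
  let f := lineP F R (w * β)
  let I : Ideal R[X] := Ideal.span {X ^ (d + 1)}
  let ι : R →ₐ[A] R[X] ⧸ I := (Ideal.Quotient.mkₐ A I).comp ((Algebra.ofId R R[X]).restrictScalars A)
  have hpow : (Ideal.Quotient.mk I X) ^ (d + 1) = 0 := by
    rw [← map_pow]
    exact Ideal.Quotient.eq_zero_iff_mem.mpr (Ideal.mem_span_singleton_self _)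
  have hder0 : Ideal.Quotient.mk I (Polynomial.derivative f) = 0 := by
    refine Eq.trans ?_ (derivative_lineP_eval₂ F R ι _ hpow w β (h _ ι))
    have : (Polynomial.eval₂RingHom ι.toRingHom (Ideal.Quotient.mk I X)) = Ideal.Quotient.mk I :=
      Polynomial.ringHom_ext (fun r => by simp [ι, Algebra.ofId_apply, Polynomial.algebraMap_eq]) (by simp)
    exact (RingHom.congr_fun this _).symm
  have hder : Polynomial.derivative f = 0 := by
    refine Polynomial.ext fun k => ?_
    rw [Polynomial.coeff_zero]
    rcases lt_or_ge k (d + 1) with hk | hk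
    · obtain ⟨c, hc⟩ := Ideal.mem_span_singleton'.mp (Ideal.Quotient.eq_zero_iff_mem.mp hder0)
      rw [← hc, Polynomial.coeff_mul_X_pow', if_neg (by omega)]
    · exact Polynomial.coeff_eq_zero_of_natDegree_lt
        (lt_of_le_of_lt ((Polynomial.natDegree_derivative_le f).trans
          ((Nat.sub_le _ _).trans (natDegree_lineP_le F R _))) (by omega))
  have hf : f = C (f.coeff 0) := by
    refine Polynomial.ext fun k => ?_
    rcases k with _ | k
    · simp
    · rw [Polynomial.coeff_C_succ]
      have hk := Polynomial.coeff_derivative f k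
      rw [hder, Polynomial.coeff_zero] at hk
      have hu : IsUnit ((k : R) + 1) := by
        have : IsUnit (((k + 1 : ℕ) : A)) := by
          rw [← map_natCast (algebraMap ℚ A)]
          exact (isUnit_iff_ne_zero.mpr (by positivity)).map _
        have := this.map (algebraMap A R)
        push_cast at this
        simpa using this
      exact (hu.mul_left_eq_zero).mp hk.symm
  apply (TensorProduct.rid A R).injective
  have h1 := map_lineP F R ((Polynomial.aeval (R := R) (1 : R)).restrictScalars A) (w * β)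
  have h0 := map_lineP F R ((Polynomial.aeval (R := R) (0 : R)).restrictScalars A) (w * β)
  change Polynomial.aeval (1 : R) f = _ at h1
  change Polynomial.aeval (0 : R) f = _ at h0
  rw [hf, Polynomial.aeval_C] at h1 h0
  simp only [AlgHom.restrictScalars_apply, Polynomial.aeval_X, TensorProduct.zero_tmul, zero_mul,
    add_zero, (F.mult R).1] at h0 h1
  rw [← h0, h1, ← Algebra.TensorProduct.one_def, one_mul]
  congr 2
  rw [show ((Polynomial.aeval (R := R) (1 : R)).restrictScalars A).comp
      ((Algebra.ofId R R[X]).restrictScalars A) = AlgHom.id A R from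
        AlgHom.ext fun r => by simp [Algebra.ofId_apply], Algebra.TensorProduct.map_id, AlgHom.id_apply]

theorem mem_kerBC_of_tr [Algebra ℚ A] {κ : Type u} [Fintype κ] {g : κ → B}
    (hg : Submodule.span A (Set.range g) = ⊤) (A' : Type u) [CommRing A'] [Algebra A A'] {z : A' ⊗[A] B}
    (h : ∀ k, tr F A' (((1 : A') ⊗ₜ[A] g k) * z) = 0) : z ∈ PolLaw.kerBC F.law A' := by
  have key : ∀ (S : Type u) [CommRing S] [Algebra A S] (φ : A' →ₐ[A] S) (v : S ⊗[A] B),
      tr F S (v * Algebra.TensorProduct.map φ (AlgHom.id A B) z) = 0 := by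
    intro S _ _ φ v
    obtain ⟨σ, rfl⟩ := exists_sum_eq_of_span hg v
    let T : S ⊗[A] B →+ S := AddMonoidHom.mk' (tr F S) (tr_add F S)
    rw [Finset.sum_mul]
    change T _ = 0
    rw [map_sum]
    refine Finset.sum_eq_zero fun k _ => ?_
    change tr F S _ = 0
    rw [show σ k ⊗ₜ[A] g k = (σ k ⊗ₜ[A] (1 : B)) * ((1 : S) ⊗ₜ[A] g k) by simp, mul_assoc, tr_smul,
      show ((1 : S) ⊗ₜ[A] g k) * Algebra.TensorProduct.map φ (AlgHom.id A B) z =
        Algebra.TensorProduct.map φ (AlgHom.id A B) (((1 : A') ⊗ₜ[A] g k) * z) by simp, tr_natural, h,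
      map_zero, mul_zero]
  refine mem_kerBC_of_generic F Submodule.span_univ A' fun n c _ => ?_
  refine eq_one_of_tr F _ (fun S _ _ φ v => ?_) _
  rw [← AlgHom.comp_apply, ← Algebra.TensorProduct.map_comp, AlgHom.comp_id]
  exact key S _ v

theorem map_ker_eq_kerBC_of_flat [Algebra ℚ A] [Module.Finite A B] (A' : Type u) [CommRing A']
    [Algebra A A'] [Module.Flat A A'] :
    (PolLaw.ker F.law).map (Algebra.TensorProduct.includeRight : B →ₐ[A] A' ⊗[A] B) =
      PolLaw.kerBC F.law A' := by
  obtain ⟨m, g', hg'⟩ := Module.Finite.exists_fin (R := A) (M := B)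
  let g : ULift.{u} (Fin m) → B := g' ∘ ULift.down
  have hg : Submodule.span A (Set.range g) = ⊤ := by
    rw [← hg', Set.range_comp, Function.Surjective.range_eq ULift.down_surjective, Set.image_univ]
  refine le_antisymm (map_ker_le_kerBC F A') fun z hz => ?_
  let L : B →ₗ[A] (ULift.{u} (Fin m) → A) :=
    { toFun := fun b k => tr F A ((1 : A) ⊗ₜ[A] (g k * b))
      map_add' := fun a b => funext fun k => by
        simp [mul_add, TensorProduct.tmul_add, tr_add]
      map_smul' := fun r b => funext fun k => by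
        simp only [Pi.smul_apply, RingHom.id_apply, smul_eq_mul]
        rw [← tr_smul F A r, mul_smul_comm, ← TensorProduct.smul_tmul]
        simp }
  have hL : ∀ w : A' ⊗[A] B, ∀ k, TensorProduct.piRight A A A' (fun _ : ULift.{u} (Fin m) => A)
      (L.lTensor A' w) k = tr F A' (((1 : A') ⊗ₜ[A] g k) * w) ⊗ₜ[A] (1 : A) := by
    intro w k
    induction w using TensorProduct.induction_on with
    | zero =>
      rw [map_zero, map_zero, Pi.zero_apply, mul_zero,
        show tr F A' 0 = 0 from (AddMonoidHom.mk' (tr F A') (tr_add F A')).map_zero, TensorProduct.zero_tmul]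
    | tmul a b =>
      rw [LinearMap.lTensor_tmul, show ((1 : A') ⊗ₜ[A] g k) * (a ⊗ₜ[A] b) =
        (a ⊗ₜ[A] (1 : B)) * Algebra.TensorProduct.map (Algebra.ofId A A') (AlgHom.id A B)
          ((1 : A) ⊗ₜ[A] (g k * b)) by simp, tr_smul, tr_natural, Algebra.ofId_apply, mul_comm,
        ← Algebra.smul_def]
      simp [L, TensorProduct.smul_tmul]
    | add u v hu hv => rw [map_add, map_add, Pi.add_apply, hu, hv, mul_add, tr_add, TensorProduct.add_tmul]
  have h0 : L.lTensor A' z = 0 := by
    apply (TensorProduct.piRight A A A' (fun _ : ULift.{u} (Fin m) => A)).injective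
    funext k
    rw [hL, tr_one F A' hz]
    simp
  have hex : Function.Exact (LinearMap.ker L).subtype L := fun b => by
    simp [Submodule.range_subtype]
  obtain ⟨w, rfl⟩ := (Module.Flat.lTensor_exact A' hex z).mp h0
  clear h0 hz
  induction w using TensorProduct.induction_on with
  | zero => simp
  | tmul a b =>
    rw [LinearMap.lTensor_tmul, Submodule.subtype_apply,
      show a ⊗ₜ[A] (b : B) = (a ⊗ₜ[A] (1 : B)) * ((1 : A') ⊗ₜ[A] (b : B)) by simp]
    refine Ideal.mul_mem_left _ _ (Ideal.mem_map_of_mem _ (mem_ker_of_mem_kerBC_self F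
      (mem_kerBC_of_tr F hg A fun k => ?_)))
    rw [Algebra.TensorProduct.tmul_mul_tmul, one_mul]
    exact congrFun (LinearMap.mem_ker.mp b.2) k
  | add u v hu hv => rw [map_add]; exact add_mem hu hv

end Groth.Agent.PLaw
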